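import Mathlib
import Cfsg.Prelude.Def_Characters
import Cfsg.Prelude.Def_Blocks
import Cfsg.Agent.H723.TI.Cyc
import Cfsg.Agent.H41.TI.Gen
import Cfsg.Agent.CharactersDeep.Extraspecial
import Cfsg.Agent.S0188
import Cfsg.Agent.CharactersDeep.MaxInduced
import Cfsg.Agent.CharactersDeep.TracePow
import Cfsg.Agent.Characters.Ito
import Cfsg.Agent.S4558
import Cfsg.Agent.H692.RealOver
import Cfsg.Agent.H597.L2Aut
import Cfsg.Agent.Characters.Central
import Cfsg.Agent.HKS.ModPSpec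
import Cfsg.Agent.Characters.Core
import Cfsg.Agent.S0848
import Cfsg.Agent.Blocks.Basic
import Cfsg.Agent.Classification.DihLift_m3
import Cfsg.Agent.Blocks.OrbitSum
import Cfsg.Agent.H347.HX.Eng
import Cfsg.Agent.H686.CharKit
import Cfsg.Agent.Characters.SchurBound
import Cfsg.Agent.FastGrp
import Cfsg.Agent.Prune
set_option linter.all false

section
prune_inst 0x7f00000000000000000000000000000000000000000000000000000000000000000000000000000000000000000000000000000000000000000000000000000000000000000000000000000000000000003fdff7fffffffffffffff7ffffffbeffbde3feffff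

section
prune_inst 0xfcfdfbabe8bbffffff7e3ffed4dff9f1a82fffe6dff9cbffe869bf0bdf4b0ac9c56bad8fe812fe1ef7629410f87b03ffffceffea6bdc7ffffd5fb41ffb5fcfb5e7b50c51dca8b406ac6fff83f0570e6f002000000000000000000000000000004200000000

-- part: H41/TI/Clif_mg
section
prune_inst 0x2000404040000000000000300060040c0001900023000158200e40020a5320000027000c801c0008028e00000500000000004000000000000404000000000000a802002140a19520000600b28d000000008000000000000000800000041000018000000
set_option linter.all false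
open scoped Cfsg.Agent.FastGrp

-- part: H155/TI/Defs
section
/-!
# S4819, S4820: the row `PSL₃(4)`, `p = 3` : interface (helper155)

Everything is reduced to a central subgroup `Z` (of order prime to 3) of a group `Γ` and a linear character `lam` of `Z`.
`j : Z →* W` is a central embedding; `Over j lam χ` : `χ` lies over `lam`.
-/

set_option autoImplicit false

namespace Cfsg.Agent.H155.TI

open Cfsg
open scoped Pointwise

universe u

section

variable {Z A W : Type u} [Group Z] [Group A] [Group W]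

/-- `χ` lies over the linear character `lam` of the central subgroup `j Z` -/
def Over (j : Z →* W) (lam : Z →* ℂˣ) (χ : W → ℂ) : Prop :=
  ∀ (z : Z) (w : W), χ (j z * w) = (lam z : ℂ) * χ w

/-- the number of irreducible characters over `lam` not vanishing at `x` -/
noncomputable def nz (j : Z →* W) (lam : Z →* ℂˣ) (x : W) : ℕ :=
  Nat.card {χ : IrrCharacter W // Over j lam (χ : W → ℂ) ∧ (χ : W → ℂ) x ≠ 0}

/-- six members over `lam` do not vanish at `x` : five have value `±1`, one has value `±2` -/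
structure Six (j : Z →* A) (lam : Z →* ℂˣ) (x : A) : Prop where
  int : ∀ η : IrrCharacter A, Over j lam (η : A → ℂ) → ∃ w : ℤ, (η : A → ℂ) x = w ∧ |w| ≤ 2
  five : Nat.card {η : IrrCharacter A // Over j lam (η : A → ℂ) ∧
    ((η : A → ℂ) x = 1 ∨ (η : A → ℂ) x = -1)} = 5
  one : Nat.card {η : IrrCharacter A // Over j lam (η : A → ℂ) ∧
    ((η : A → ℂ) x = 2 ∨ (η : A → ℂ) x = -2)} = 1

/-- the class function `η` of `A` is invariant under the element `c` of `W` -/
def Inv (i : A →* W) (c : W) (η : A → ℂ) : Prop :=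
  ∀ a a' : A, i a' = c * i a * c⁻¹ → η a' = η a

/-- `A` is (via `i`) a subgroup of index 2 of `W`, `Z` is central in `W` -/
structure Pair (j : Z →* A) (i : A →* W) : Prop where
  ji : Function.Injective j
  ii : Function.Injective i
  idx : i.range.index = 2
  cen : ∀ (z : Z) (w : W), i (j z) * w = w * i (j z)

/-- `x ∈ A` of order 3, `c ∈ W \ A` commutes with `x`, `c² = i (j zc)`, `m² = lam zc`; `d` inverts `x` and commutes with
`c`; `|C_W(x c)| = 2 n |Z|`; characters vanishing at `x` vanish at `x c`. -/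
structure Elt (j : Z →* A) (i : A →* W) (lam : Z →* ℂˣ) (x : A) (c d : W) (zc : Z) (m : ℂ) (n : ℕ) : Prop where
  x3 : x ^ 3 = 1
  x1 : x ≠ 1
  cA : c ∉ i.range
  cc : c * c = i (j zc)
  mm : m ^ 2 = (lam zc : ℂ)
  cx : c * i x = i x * c
  dc : d * c = c * d
  dx : d * i x * d⁻¹ = (i x)⁻¹
  card : Nat.card (Subgroup.centralizer ({i x * c} : Set W)) = 2 * n * Nat.card Z
  good : ∀ z : Z, IsConj (i x * c) (i (j z) * (i x * c)) → z = 1
  van : ∀ χ : IrrCharacter W, Over (i.comp j) lam (χ : W → ℂ) → (χ : W → ℂ) (i x) = 0 →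
    (χ : W → ℂ) (i x * c) = 0

end

/-- a central subgroup is contained in every normalizer -/
theorem le_norm {Γ : Type u} [Group Γ] {Z : Subgroup Γ} (h : Z ≤ Subgroup.center Γ) (P : Subgroup Γ) :
    Z ≤ Subgroup.normalizer (P : Set Γ) :=
  h.trans (fun z hz => by
    rw [Subgroup.mem_normalizer_iff]
    intro y
    have h1 := Subgroup.mem_center_iff.1 hz y
    have h2 : z * y * z⁻¹ = y := by rw [← h1, mul_inv_cancel_right]
    rw [h2])

/-- the central situation: `Z` central of order prime to 3, `Γ / Z` almost simple with socle `S ≅ PSL₃(4)`, `P` a TI Sylow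
3-subgroup whose image lies in `S` -/
structure CenSit {Γ : Type u} [Group Γ] (Z : Subgroup Γ) [Z.Normal] (P : Sylow 3 Γ) (S : Subgroup (Γ ⧸ Z)) :
    Prop where
  cen : Z ≤ Subgroup.center Γ
  z3 : ¬ 3 ∣ Nat.card Z
  normal : S.Normal
  iso : ∃ (F : Type) (_ : Field F) (_ : Fintype F), Fintype.card F = 4 ∧
    Nonempty (S ≃* Matrix.ProjectiveSpecialLinearGroup (Fin 3) F)
  cent : Subgroup.centralizer (S : Set (Γ ⧸ Z)) = ⊥
  img : (P : Subgroup Γ).map (QuotientGroup.mk' Z) ≤ S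
  ti : Cfsg.Agent.H723.TI.TIs P

/-- **The central count**: characters over `lam` of degree not divisible by 9 -/
def CL : Prop :=
  ∀ (Γ : Type u) [Group Γ] [Finite Γ] (Z : Subgroup Γ) [Z.Normal] (P : Sylow 3 Γ) (S : Subgroup (Γ ⧸ Z))
    (h : CenSit Z P S) (lam : Z →* ℂˣ),
    Nat.card {χ : IrrCharacter Γ // Over Z.subtype lam (χ : Γ → ℂ) ∧ ¬ 9 ∣ charDegree (χ : Γ → ℂ)} =
      Nat.card {ψ : IrrCharacter (Subgroup.normalizer ((P : Subgroup Γ) : Set Γ)) //
        Over (Subgroup.inclusion (le_norm h.cen (P : Subgroup Γ))) lam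
          (ψ : Subgroup.normalizer ((P : Subgroup Γ) : Set Γ) → ℂ)}

/-- The frame: `L = E Z` (`E` quasisimple), `H` a complement of `P` in `N_Γ(P)`, `d` the involution of `H` inverting `P`,
`H ∩ L / Z ≅ Q₈` generated by `a`, `b`. -/
structure Frame {Γ : Type u} [Group Γ] (Z L P H : Subgroup Γ) (x d a b : Γ) : Prop where
  Zc : Z ≤ Subgroup.center Γ
  Z3 : ¬ 3 ∣ Nat.card Z
  ZH : Z ≤ H
  ZL : Z ≤ L
  Ln : L.Normal
  PL : P ≤ L
  Pc : Nat.card P = 9
  P3 : ∀ y ∈ P, y ^ 3 = 1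
  Pidx : ¬ 3 ∣ P.index
  HN : H ≤ Subgroup.normalizer (P : Set Γ)
  H3 : ¬ 3 ∣ Nat.card H
  N : ∀ g ∈ Subgroup.normalizer (P : Set Γ), ∃ y ∈ P, ∃ h ∈ H, g = y * h
  HL : ∀ g : Γ, ∃ l ∈ L, ∃ h ∈ H, g = l * h
  xP : x ∈ P
  x1 : x ≠ 1
  dH : d ∈ H
  dL : d ∈ L
  dd : d * d = 1
  dc : ∀ h ∈ H, h * d = d * h
  dinv : ∀ y ∈ P, d * y * d⁻¹ = y⁻¹
  tr : ∀ y ∈ P, y ≠ 1 → ∃ h ∈ H, h ∈ L ∧ h * x * h⁻¹ = y
  cH : ∀ h ∈ H, h ∈ L → ∀ y ∈ P, y ≠ 1 → h * y = y * h → h ∈ Z
  cL : ∀ g ∈ L, ∀ y ∈ P, y ≠ 1 → g * y = y * g → ∃ y' ∈ P, ∃ z ∈ Z, g = y' * z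
  ti : ∀ (g : Γ), ∀ y ∈ P, y ≠ 1 → g * y * g⁻¹ ∈ P → g ∈ Subgroup.normalizer (P : Set Γ)
  aH : a ∈ H
  aL : a ∈ L
  bH : b ∈ H
  bL : b ∈ L
  ab : a * b * a⁻¹ * b⁻¹ = d
  aa : ∃ z ∈ Z, a * a = d * z
  bb : ∃ z ∈ Z, b * b = d * z
  gen : ∀ h ∈ H, h ∈ L → ∃ z ∈ Z, h = z ∨ h = z * a ∨ h = z * b ∨ h = z * (a * b) ∨
    h = z * d ∨ h = z * (d * a) ∨ h = z * (d * b) ∨ h = z * (d * (a * b))

/-- The possible outer parts. `c`, `r ∈ C_H(x)`. In the index 4 case `c` centralizes `P` and `r` does not. -/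
def Outer {Γ : Type u} [Group Γ] (L P H : Subgroup Γ) (x : Γ) : Prop :=
  L.index = 1 ∨
  (L.index = 2 ∧ ∃ c ∈ H, c ∉ L ∧ c * x = x * c) ∨
  (L.index = 4 ∧ ∃ c ∈ H, ∃ r ∈ H, c ∉ L ∧ r ∉ L ∧ c * r ∉ L ∧ c * c ∈ L ∧ r * r ∈ L ∧
    (∀ y ∈ P, c * y = y * c) ∧ r * x = x * r ∧ ¬ (∀ y ∈ P, r * y = y * r))

/-- **GOAL FRAME** -/
def GoalFrame : Prop :=
  ∀ (Γ : Type u) [Group Γ] [Finite Γ] (Z : Subgroup Γ) [Z.Normal] (P : Sylow 3 Γ) (S : Subgroup (Γ ⧸ Z)),
    CenSit Z P S → ∃ (H : Subgroup Γ) (x d a b : Γ),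
      Frame Z (S.comap (QuotientGroup.mk' Z)) (P : Subgroup Γ) H x d a b ∧
      Outer (S.comap (QuotientGroup.mk' Z)) (P : Subgroup Γ) H x

/-- **GOAL R** : the block theoretic reduction -/
def GoalR : Prop := CL.{u} → Cfsg.Agent.H723.TI.RowL34.{u}

/-! ### The level of `L` (`L / Z ≅ PSL₃(4)`) -/

/-- `Z` central in `L` of order prime to 3, `L / Z ≅ PSL₃(4)` -/
structure LSit (L : Type u) [Group L] (Z : Subgroup L) [Z.Normal] : Prop where
  cen : Z ≤ Subgroup.center L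
  z3 : ¬ 3 ∣ Nat.card Z
  iso : ∃ (F : Type) (_ : Field F) (_ : Fintype F), Fintype.card F = 4 ∧
    Nonempty ((L ⧸ Z) ≃* Matrix.ProjectiveSpecialLinearGroup (Fin 3) F)

/-- the number of members over `lam` of degree `n` -/
noncomputable def dg {Z L : Type u} [Group Z] [Group L] (j : Z →* L) (lam : Z →* ℂˣ) (n : ℕ) : ℕ :=
  Nat.card {η : IrrCharacter L // Over j lam (η : L → ℂ) ∧ charDegree (η : L → ℂ) = n}

/-- **GOAL SIX** (level of `L`) : the six members, and the members vanishing at `x` -/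
def GoalSix : Prop :=
  ∀ (L : Type u) [Group L] [Finite L] (Z : Subgroup L) [Z.Normal], LSit L Z → ∀ (lam : Z →* ℂˣ) (x : L), orderOf x = 3 →
    Six Z.subtype lam x ∧ ∀ η : IrrCharacter L, Over Z.subtype lam (η : L → ℂ) →
      ((η : L → ℂ) x = 0 ↔ 9 ∣ charDegree (η : L → ℂ))

/-! ### Local pieces and the sign -/

/-- The characters `χ` of `K` over `lam` with `χ|_A` irreducible and `χ(x)² = 4` are invariant under `r`. -/
def Kap {Γ : Type u} [Group Γ] {Z A K : Subgroup Γ} (hZA : Z ≤ A) (hAK : A ≤ K) (lam : Z →* ℂˣ) (x r : Γ) : Prop :=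
  ∀ χ : IrrCharacter K, Over (Subgroup.inclusion (hZA.trans hAK)) lam (χ : K → ℂ) →
    IsIrrCharacter A (fun a => (χ : K → ℂ) (Subgroup.inclusion hAK a)) →
    (∀ x' : K, (x' : Γ) = x → (χ : K → ℂ) x' ^ 2 = 4) →
    ∀ k k' : K, (k' : Γ) = r * k * r⁻¹ → (χ : K → ℂ) k' = (χ : K → ℂ) k

/-- the index 4 case, `c` not neutral (`H ∩ L` moves the extensions of `lam` to `Z⟨c⟩`), `β = lam [c, r] ≠ 1` -/
structure NonNeutral {Γ : Type u} [Group Γ] (Z L P H : Subgroup Γ) (lam : Z →* ℂˣ) (x c r : Γ) : Prop where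
  idx : L.index = 4
  cH : c ∈ H
  rH : r ∈ H
  cL : c ∉ L
  rL : r ∉ L
  crL : c * r ∉ L
  ccL : c * c ∈ L
  rrL : r * r ∈ L
  cP : ∀ y ∈ P, c * y = y * c
  rx : r * x = x * r
  rP : ¬ (∀ y ∈ P, r * y = y * r)
  non : ∃ h ∈ H, h ∈ L ∧ ∃ z : Z, h * c * h⁻¹ = z * c ∧ lam z ≠ 1
  beta : ∃ z : Z, r * c * r⁻¹ = z * c ∧ lam z ≠ 1

/-- **GOAL SIXN** : the six members for `N_L(P)` -/
def GoalSixN : Prop :=
  ∀ (Γ : Type u) [Group Γ] [Finite Γ] (Z L P H : Subgroup Γ) (x d a b : Γ), Frame Z L P H x d a b →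
    ∀ (lam : Z →* ℂˣ) (hZ : Z ≤ L ⊓ Subgroup.normalizer (P : Set Γ)) (hx : x ∈ L ⊓ Subgroup.normalizer (P : Set Γ)),
      Six (Subgroup.inclusion hZ) lam ⟨x, hx⟩

/-- **GOAL AUT** : the outer automorphisms of `PSL₃(4)` of order prime to 3 -/
def GoalAut : Prop :=
  ∀ (X : Type u) [Group X] [Finite X] (S : Subgroup X) [S.Normal], (∃ (F : Type) (_ : Field F) (_ : Fintype F),
    Fintype.card F = 4 ∧ Nonempty (S ≃* Matrix.ProjectiveSpecialLinearGroup (Fin 3) F)) →
    Subgroup.centralizer (S : Set X) = ⊥ → ¬ 3 ∣ S.index →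
    S.index = 1 ∨ S.index = 2 ∨ (S.index = 4 ∧ (∀ g : X, g * g ∈ S) ∧
      ∀ Q : Sylow 3 X, ∃ g : X, ∀ s ∈ S, ∃ y ∈ (Q : Subgroup X), s * g * y ≠ y * (s * g))

end Cfsg.Agent.H155.TI
end

-- part: H41/TI/Clif
section
/-!
# Row `PSL₃(4)` of S4819, S4820, piece a : index two Clifford theory (helper41, task 5827)
-/

set_option autoImplicit false

open scoped ComplexConjugate
open Cfsg Cfsg.Agent.Characters.Core Cfsg.Agent.Characters.Clifford
open Cfsg.Agent.HKS.CosetTwo (sg sg_of_mem sg_of_notMem isIrr_mul_sg)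

namespace Cfsg.Agent.H41.TI

open Cfsg.Agent.H155.TI (Over nz Pair Inv)
open Cfsg.Agent.H41.McLTwo.Cliff (Van card_ext eq_or_of_restrict restrict_of_not_van)

universe u

/-- a central element acts as a scalar of absolute value 1 -/
theorem exists_scal {G : Type u} [Group G] [Finite G] {χ : G → ℂ} (hχ : IsIrrCharacter G χ) {s : G}
    (hs : ∀ g, s * g = g * s) : ∃ ω : ℂ, conj ω * ω = 1 ∧ ∀ g, χ (s * g) = ω * χ g := by
  obtain ⟨c, hc, -⟩ := CharactersDeep.Extraspecial.exists_central_hom hχ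
  have hsc : s ∈ Subgroup.center G := Subgroup.mem_center_iff.2 fun g => (hs g).symm
  refine ⟨c ⟨s, hsc⟩, ?_, fun g => ?_⟩
  · have h1 : (c ⟨s, hsc⟩) ^ Nat.card (Subgroup.center G) = 1 := by
      rw [← map_pow, pow_card_eq_one', map_one]
    have h2 : ((c ⟨s, hsc⟩ : ℂˣ) : ℂ) ^ Nat.card (Subgroup.center G) = 1 := by
      rw [← Units.val_pow_eq_pow_val, h1, Units.val_one]
    have h3 := Complex.norm_eq_one_of_pow_eq_one h2 Nat.card_pos.ne'
    rw [mul_comm, Complex.mul_conj, Complex.normSq_eq_norm_sq, h3]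
    simp
  · have h1 := hc g ⟨s, hsc⟩
    have h2 : χ (g * s) = χ g * (c ⟨s, hsc⟩ : ℂ) := h1
    rw [hs, h2, mul_comm]

variable {Z A W : Type u} [Group Z] [Group A] [Group W] [Finite W] {j : Z →* A} {i : A →* W} {lam : Z →* ℂˣ}
  {x : A} {c : W}

theorem one_ne {G : Type u} [Group G] {χ : G → ℂ} [Finite G] (hχ : IsIrrCharacter G χ) : χ 1 ≠ 0 := by
  obtain ⟨n, hn, h⟩ := isIrr_apply_one hχ
  rw [h]
  exact_mod_cast hn.ne'

theorem over_iff (h : Pair j i) (χ : IrrCharacter W) (η : IrrCharacter A) (ht : Fintype A) (lam : Z →* ℂˣ)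
    (hne : classInner (fun t => (χ : W → ℂ) (i t)) (η : A → ℂ) ≠ 0) :
    Over (i.comp j) lam (χ : W → ℂ) ↔ Over j lam (η : A → ℂ) := by
  have key : ∀ z : Z, ∃ ω : ℂ, (∀ w, (χ : W → ℂ) (i (j z) * w) = ω * (χ : W → ℂ) w) ∧
      ∀ t, (η : A → ℂ) (j z * t) = ω * (η : A → ℂ) t := by
    intro z
    obtain ⟨ω, h1, h2⟩ := exists_scal χ.2 (s := i (j z)) (h.cen z)
    obtain ⟨ω', h1', h2'⟩ := exists_scal η.2 (s := j z) (fun t => h.ii (by rw [map_mul, map_mul, h.cen]))
    refine ⟨ω, h2, ?_⟩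
    have h3' : ∑ t, (χ : W → ℂ) (i t) * conj ((η : A → ℂ) t) =
        (ω * conj ω') * ∑ t, (χ : W → ℂ) (i t) * conj ((η : A → ℂ) t) := by
      calc ∑ t, (χ : W → ℂ) (i t) * conj ((η : A → ℂ) t) =
          ∑ t, (χ : W → ℂ) (i (j z * t)) * conj ((η : A → ℂ) (j z * t)) :=
            (Equiv.sum_comp (Equiv.mulLeft (j z)) (fun t => (χ : W → ℂ) (i t) * conj ((η : A → ℂ) t))).symm
        _ = (ω * conj ω') * ∑ t, (χ : W → ℂ) (i t) * conj ((η : A → ℂ) t) := by
            rw [Finset.mul_sum]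
            refine Finset.sum_congr rfl fun t _ => ?_
            rw [map_mul i, h2, h2', map_mul]
            ring
    have h3 : classInner (fun t => (χ : W → ℂ) (i t)) (η : A → ℂ) =
        (ω * conj ω') * classInner (fun t => (χ : W → ℂ) (i t)) (η : A → ℂ) := by
      rw [classInner_def]
      conv_lhs => rw [h3']
      ring
    have h4 : ω * conj ω' = 1 := by
      have h5 : (ω * conj ω' - 1) * classInner (fun t => (χ : W → ℂ) (i t)) (η : A → ℂ) = 0 := by
        rw [sub_mul, one_mul, ← h3, sub_self]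
      have h6 := (mul_eq_zero.1 h5).resolve_right hne
      exact sub_eq_zero.1 h6
    have h5 : ω = ω' := by
      calc ω = ω * (conj ω' * ω') := by rw [h1', mul_one]
        _ = (ω * conj ω') * ω' := by ring
        _ = ω' := by rw [h4, one_mul]
    rw [h5]
    exact h2'
  have hχ1 := one_ne χ.2
  have hA : Finite A := Finite.of_injective i h.ii
  have hη1 := one_ne η.2
  constructor
  · intro ho z t
    obtain ⟨ω, h1, h2⟩ := key z
    have h3 : (χ : W → ℂ) (i (j z) * 1) = (lam z : ℂ) * (χ : W → ℂ) 1 := ho z 1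
    rw [h1] at h3
    rw [h2, mul_right_cancel₀ hχ1 h3]
  · intro ho z w
    obtain ⟨ω, h1, h2⟩ := key z
    have h3 := ho z 1
    rw [h2] at h3
    show (χ : W → ℂ) (i (j z) * w) = _
    rw [h1, mul_right_cancel₀ hη1 h3]

section transport

variable (h : Pair j i)

/-- `A ≃ i(A)` -/
noncomputable def eqv : A ≃* i.range := MonoidHom.ofInjective h.ii

theorem coe_eqv (a : A) : ((eqv h a : i.range) : W) = i a := rfl

/-- transport of characters -/
noncomputable def tr : IrrCharacter i.range ≃ IrrCharacter A where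
  toFun ψ := ⟨(ψ : i.range → ℂ) ∘ (eqv h), isIrr_comp (eqv h).toMonoidHom (eqv h).surjective ψ.2⟩
  invFun η := ⟨(η : A → ℂ) ∘ (eqv h).symm, isIrr_comp (eqv h).symm.toMonoidHom (eqv h).symm.surjective η.2⟩
  left_inv ψ := Subtype.ext (funext fun n => congrArg (ψ : i.range → ℂ) ((eqv h).apply_symm_apply n))
  right_inv η := Subtype.ext (funext fun a => congrArg (η : A → ℂ) ((eqv h).symm_apply_apply a))

theorem tr_apply (ψ : IrrCharacter i.range) (a : A) : (tr h ψ : A → ℂ) a = (ψ : i.range → ℂ) (eqv h a) := rfl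

include h in
theorem nrm : i.range.Normal := Subgroup.normal_of_index_eq_two h.idx

theorem inv_tr [i.range.Normal] (hc : c ∉ i.range) (ψ : IrrCharacter i.range) :
    Inv i c (tr h ψ : A → ℂ) ↔ McLTwo.Cliff.Inv i.range ψ := by
  rw [inv_iff h.idx hc]
  constructor
  · intro h1
    funext n
    obtain ⟨a, rfl⟩ := (eqv h).surjective n
    obtain ⟨a', ha'⟩ := (eqv h).surjective ((MulAut.conjNormal c : MulAut i.range) (eqv h a))
    show (ψ : i.range → ℂ) ((MulAut.conjNormal c : MulAut i.range) (eqv h a)) = (ψ : i.range → ℂ) (eqv h a)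
    rw [← ha']
    refine h1 a a' ?_
    rw [← coe_eqv h, ha', conj_eq, coe_eqv]
  · intro h1 a a' ha
    have h2 : eqv h a' = (MulAut.conjNormal c : MulAut i.range) (eqv h a) := Subtype.ext (by
      rw [conj_eq, coe_eqv, coe_eqv, ha])
    show (ψ : i.range → ℂ) (eqv h a') = (ψ : i.range → ℂ) (eqv h a)
    rw [h2]
    exact congrFun h1 (eqv h a)

end transport

theorem res_cases (h : Pair j i) (hc : c ∉ i.range) (χ : IrrCharacter W) :
    (IsIrrCharacter A (fun t => (χ : W → ℂ) (i t)) ∧ Inv i c (fun t => (χ : W → ℂ) (i t))) ∨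
    ((∀ w, w ∉ i.range → (χ : W → ℂ) w = 0) ∧ ∃ η η' : IrrCharacter A, η ≠ η' ∧
      (∀ t, (χ : W → ℂ) (i t) = (η : A → ℂ) t + (η' : A → ℂ) t) ∧
      (∀ t t', i t' = c * i t * c⁻¹ → (η : A → ℂ) t' = (η' : A → ℂ) t) ∧ ¬ Inv i c (η : A → ℂ)) := by
  classical
  haveI := nrm h
  by_cases hv : Van i.range χ
  · refine Or.inr ⟨hv, ?_⟩
    obtain ⟨η, η', hne, hs, hi, hcj⟩ := van_split h.idx hv c
    have hcj' : (η : i.range → ℂ) ∘ (MulAut.conjNormal c : MulAut i.range) = η' :=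
      hcj.resolve_left fun h1 => hi ((inv_iff h.idx hc).2 h1)
    refine ⟨tr h η, tr h η', fun h1 => hne ((tr h).injective h1), fun t => hs (eqv h t), fun t t' ht => ?_,
      fun h1 => hi ((inv_tr h hc η).1 h1)⟩
    have h2 : eqv h t' = (MulAut.conjNormal c : MulAut i.range) (eqv h t) := Subtype.ext (by
      rw [conj_eq, coe_eqv, coe_eqv, ht])
    show (η : i.range → ℂ) (eqv h t') = (η' : i.range → ℂ) (eqv h t)
    rw [h2]
    exact congrFun hcj' (eqv h t)
  · refine Or.inl ⟨?_, ?_⟩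
    · obtain ⟨ψ, -, hψ⟩ := restrict_of_not_van h.idx hv
      have h1 : (fun t => (χ : W → ℂ) (i t)) = (tr h ψ : A → ℂ) := funext fun t => hψ (eqv h t)
      rw [h1]
      exact (tr h ψ).2
    · intro a a' ha
      show (χ : W → ℂ) (i a') = (χ : W → ℂ) (i a)
      rw [ha]
      exact isIrr_isClassFunction χ.2 _ _

theorem exists_ext (h : Pair j i) (hc : c ∉ i.range) (η : IrrCharacter A) (hη : Inv i c (η : A → ℂ)) :
    ∃ χ χ' : IrrCharacter W, χ ≠ χ' ∧ (∀ t, (χ : W → ℂ) (i t) = (η : A → ℂ) t) ∧ (∀ t, (χ' : W → ℂ) (i t) = (η : A → ℂ) t) ∧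
      (∀ w, w ∉ i.range → (χ' : W → ℂ) w = - (χ : W → ℂ) w) ∧
      (∀ ψ : IrrCharacter W, (∀ t, (ψ : W → ℂ) (i t) = (η : A → ℂ) t) → ψ = χ ∨ ψ = χ') := by
  classical
  haveI := nrm h
  have := Fintype.ofFinite W
  have := Fintype.ofFinite i.range
  have := finite_irr (G := W)
  have := Fintype.ofFinite (IrrCharacter W)
  obtain ⟨ψ, rfl⟩ := (tr h).surjective η
  obtain ⟨χ, χ', hne, -, -, hall⟩ := card_ext h.idx ((inv_tr h hc ψ).1 hη)
  have h1 := (hall χ).2 (Or.inl rfl)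
  have h2 := (hall χ').2 (Or.inr rfl)
  refine ⟨χ, χ', hne, fun t => h1 (eqv h t), fun t => h2 (eqv h t), fun w hw => ?_, fun φ hφ => ?_⟩
  · rcases eq_or_of_restrict h.idx h1 h2 with h3 | h3
    · exact absurd h3.symm hne
    · rw [h3, Pi.mul_apply, sg_of_notMem h.idx hw, mul_neg_one]
  · refine (hall φ).1 fun n => ?_
    obtain ⟨a, rfl⟩ := (eqv h).surjective n
    exact hφ a

theorem count_pair (h : Pair j i) (hc : c ∉ i.range) (lam : Z →* ℂˣ) (hcx : c * i x = i x * c) :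
    2 * nz (i.comp j) lam (i x) =
      4 * Nat.card {η : IrrCharacter A // Over j lam (η : A → ℂ) ∧ (η : A → ℂ) x ≠ 0 ∧ Inv i c (η : A → ℂ)} +
      Nat.card {η : IrrCharacter A // Over j lam (η : A → ℂ) ∧ (η : A → ℂ) x ≠ 0 ∧ ¬ Inv i c (η : A → ℂ)} := by
  classical
  haveI := nrm h
  haveI : Finite A := Finite.of_injective i h.ii
  have := Fintype.ofFinite A
  have := Fintype.ofFinite i.range
  have h0 := card_gen (W := W) (N := i.range) h.idx
    (fun χ => Over (i.comp j) lam (χ : W → ℂ) ∧ (χ : W → ℂ) (i x) ≠ 0)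
    (fun ψ => Over j lam (tr h ψ : A → ℂ) ∧ (tr h ψ : A → ℂ) x ≠ 0) (by
      intro χ ψ hne
      have h1 : classInner (fun t => (χ : W → ℂ) (i t)) (tr h ψ : A → ℂ) ≠ 0 := by
        have h2 := classInner_comp_mulEquiv (eqv h) (fun n : i.range => (χ : W → ℂ) n) (ψ : i.range → ℂ)
        rw [← h2] at hne
        exact hne
      rw [over_iff h χ (tr h ψ) inferInstance lam h1]
      refine and_congr_right fun _ => ?_
      by_cases hv : Van i.range χ
      · obtain ⟨η, η', hnn, hs, hi, hcj⟩ := van_split h.idx hv c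
        have hcj' : (η : i.range → ℂ) ∘ (MulAut.conjNormal c : MulAut i.range) = η' :=
          hcj.resolve_left fun h1 => hi ((inv_iff h.idx hc).2 h1)
        have h3 : (η' : i.range → ℂ) (eqv h x) = (η : i.range → ℂ) (eqv h x) := by
          rw [← hcj']
          show (η : i.range → ℂ) ((MulAut.conjNormal c : MulAut i.range) (eqv h x)) = _
          refine congrArg (η : i.range → ℂ) (Subtype.ext ?_)
          rw [conj_eq, coe_eqv, hcx, mul_inv_cancel_right]
        have h4 : (χ : W → ℂ) (i x) = 2 * (η : i.range → ℂ) (eqv h x) := by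
          have h5 := hs (eqv h x)
          rw [h3] at h5
          rw [two_mul]
          exact h5
        have h5 : (ψ : i.range → ℂ) (eqv h x) = (η : i.range → ℂ) (eqv h x) := by
          have e1 : (fun n : i.range => (χ : W → ℂ) n) = (η : i.range → ℂ) + (η' : i.range → ℂ) := funext hs
          rw [e1, classInner_add_left, classInner_irr η.2 ψ.2, classInner_irr η'.2 ψ.2] at hne
          by_cases h6 : (η : i.range → ℂ) = ψ
          · rw [h6]
          · by_cases h7 : (η' : i.range → ℂ) = ψ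
            · rw [← h7, h3]
            · rw [if_neg h6, if_neg h7, add_zero] at hne
              exact absurd rfl hne
        rw [h4, tr_apply, h5]
        simp
      · obtain ⟨ζ, -, hζ⟩ := restrict_of_not_van h.idx hv
        have h3 : ζ = ψ := by
          by_contra hcon
          apply hne
          rw [show (fun n : i.range => (χ : W → ℂ) n) = (ζ : i.range → ℂ) from funext hζ]
          exact classInner_irr_ne ζ.2 ψ.2 fun h4 => hcon (Subtype.ext h4)
        rw [tr_apply, ← h3, ← hζ]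
        rfl)
  unfold nz
  rw [h0]
  congr 1
  · congr 1
    refine Nat.card_congr (Equiv.subtypeEquiv (tr h) fun ψ => ?_)
    rw [inv_tr h hc ψ, and_assoc]
  · refine Nat.card_congr (Equiv.subtypeEquiv (tr h) fun ψ => ?_)
    rw [inv_tr h hc ψ, and_assoc]

end Cfsg.Agent.H41.TI
end

-- part: H155/TI/Grp
section
/-!
# The row `PSL₃(4)`: group theory of the frame (helper155)
-/

set_option autoImplicit false
set_option linter.unusedSectionVars false

namespace Cfsg.Agent.H155.TI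

open Cfsg
open scoped Pointwise

universe u

variable {Γ : Type u} [Group Γ] {Z L P H : Subgroup Γ} {x d a b : Γ}

/-- `L⟨e⟩` -/
abbrev Le (L : Subgroup Γ) (e : Γ) : Subgroup Γ := L ⊔ Subgroup.zpowers e

theorem mem_Le (hL : L.Normal) {e : Γ} (hee : e * e ∈ L) {g : Γ} :
    g ∈ Le L e ↔ g ∈ L ∨ ∃ l ∈ L, g = l * e := by
  constructor
  · intro hg
    rw [Le, Subgroup.sup_eq_closure] at hg
    have h1 : ∀ g, g ∈ Subgroup.closure ((L : Set Γ) ∪ (Subgroup.zpowers e : Set Γ)) →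
        (g ∈ L ∨ ∃ l ∈ L, g = l * e) := by
      intro g hg
      induction hg using Subgroup.closure_induction with
      | mem x hx =>
        rcases hx with hx | ⟨k, rfl⟩
        · exact Or.inl hx
        · have h2 : ∀ k : ℕ, (e ^ k ∈ L ∨ ∃ l ∈ L, e ^ k = l * e) := by
            intro k
            induction k with
            | zero => left; rw [pow_zero]; exact one_mem _
            | succ k ih =>
              rcases ih with h | ⟨l, hl, h⟩
              · right; exact ⟨e ^ k, h, pow_succ e k⟩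
              · left; rw [pow_succ, h, mul_assoc]; exact mul_mem hl hee
          have h3 : ∀ g, (g ∈ L ∨ ∃ l ∈ L, g = l * e) → (g⁻¹ ∈ L ∨ ∃ l ∈ L, g⁻¹ = l * e) := by
            rintro g (h | ⟨l, hl, rfl⟩)
            · left; exact inv_mem h
            · right
              refine ⟨(l * e)⁻¹ * e⁻¹, ?_, by group⟩
              have h4 : (l * e)⁻¹ * e⁻¹ = e⁻¹ * l⁻¹ * e⁻¹⁻¹ * (e * e)⁻¹ := by group
              rw [h4]
              exact mul_mem (hL.conj_mem _ (inv_mem hl) _) (inv_mem hee)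
          dsimp only
          rcases k with k | k
          · rw [Int.ofNat_eq_natCast, zpow_natCast]; exact h2 k
          · rw [zpow_negSucc]; exact h3 _ (h2 _)
      | one => exact Or.inl (one_mem _)
      | mul x y _ _ hx hy =>
        rcases hx with hx | ⟨l, hl, rfl⟩ <;> rcases hy with hy | ⟨l', hl', rfl⟩
        · exact Or.inl (mul_mem hx hy)
        · exact Or.inr ⟨x * l', mul_mem hx hl', by group⟩
        · right
          refine ⟨l * (e * y * e⁻¹), mul_mem hl (hL.conj_mem _ hy _), by group⟩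
        · left
          have h4 : l * e * (l' * e) = l * (e * l' * e⁻¹) * (e * e) := by group
          rw [h4]
          exact mul_mem (mul_mem hl (hL.conj_mem _ hl' _)) hee
      | inv x _ hx =>
        rcases hx with hx | ⟨l, hl, rfl⟩
        · exact Or.inl (inv_mem hx)
        · right
          refine ⟨(l * e)⁻¹ * e⁻¹, ?_, by group⟩
          have h4 : (l * e)⁻¹ * e⁻¹ = e⁻¹ * l⁻¹ * e⁻¹⁻¹ * (e * e)⁻¹ := by group
          rw [h4]
          exact mul_mem (hL.conj_mem _ (inv_mem hl) _) (inv_mem hee)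
    exact h1 g hg
  · rintro (h | ⟨l, hl, rfl⟩)
    · exact Subgroup.mem_sup_left h
    · exact mul_mem (Subgroup.mem_sup_left hl) (Subgroup.mem_sup_right (Subgroup.mem_zpowers e))

namespace Frame

variable (F : Frame Z L P H x d a b)
include F

theorem comm_P {y y' : Γ} (hy : y ∈ P) (hy' : y' ∈ P) : y * y' = y' * y := by
  have h1 := F.dinv _ (mul_mem hy hy')
  have h2 : d * (y * y') * d⁻¹ = (d * y * d⁻¹) * (d * y' * d⁻¹) := by group
  rw [h2, F.dinv y hy, F.dinv y' hy', mul_inv_rev] at h1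
  have h3 := congrArg (·⁻¹) h1
  simp only [mul_inv_rev, inv_inv] at h3
  exact h3.symm

theorem eq_one_of_mem {z : Γ} (hz : z ∈ Z) (hP : z ∈ P) : z = 1 := by
  have h1 := F.P3 z hP
  have h2 : orderOf z ∣ 3 := orderOf_dvd_of_pow_eq_one h1
  have h3 : orderOf z ∣ Nat.card Z := Subgroup.orderOf_dvd_natCard Z hz
  rcases (Nat.dvd_prime Nat.prime_three).1 h2 with h | h
  · exact orderOf_eq_one_iff.1 h
  · rw [h] at h3
    exact absurd h3 F.Z3

theorem zcomm {z : Γ} (hz : z ∈ Z) (g : Γ) : z * g = g * z :=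
  (Subgroup.mem_center_iff.1 (F.Zc hz) g).symm

/-- the centralizer of an element of `P` -/
theorem cent {y g : Γ} (hy : y ∈ P) (hy1 : y ≠ 1) (hg : g * y = y * g) :
    ∃ y' ∈ P, ∃ h ∈ H, h * y = y * h ∧ g = y' * h := by
  have h1 : g ∈ Subgroup.normalizer (P : Set Γ) := by
    refine F.ti g y hy hy1 ?_
    rw [hg, mul_inv_cancel_right]
    exact hy
  obtain ⟨y', hy', h, hh, rfl⟩ := F.N g h1
  refine ⟨y', hy', h, hh, ?_, rfl⟩
  have h2 : y' * (h * y) = y' * (y * h) := by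
    rw [← mul_assoc, hg, ← mul_assoc, ← mul_assoc, F.comm_P hy hy']
  exact mul_left_cancel h2

theorem sq_mem {e : Γ} (heH : e ∈ H) (hex : e * x = x * e) (hee : e * e ∈ L) : e * e ∈ Z := by
  refine F.cH _ (mul_mem heH heH) hee x F.xP F.x1 ?_
  rw [mul_assoc, hex, ← mul_assoc, hex, mul_assoc]

/-- the centralizer of `x` in `L⟨e⟩` -/
theorem cent_Le {e g : Γ} (heH : e ∈ H) (hex : e * x = x * e) (hee : e * e ∈ L) (hg : g ∈ Le L e)
    (hgx : g * x = x * g) : ∃ y ∈ P, ∃ z ∈ Z, g = y * z ∨ g = y * z * e := by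
  obtain ⟨y, hy, h, hh, hhx, rfl⟩ := F.cent F.xP F.x1 hgx
  have hyL : y ∈ L := F.PL hy
  have hhL : h ∈ Le L e := by
    have h1 : h = y⁻¹ * (y * h) := by group
    rw [h1]
    exact mul_mem (Subgroup.mem_sup_left (inv_mem hyL)) hg
  rw [mem_Le F.Ln hee] at hhL
  rcases hhL with h1 | ⟨l, hl, h1⟩
  · exact ⟨y, hy, h, F.cH h hh h1 x F.xP F.x1 hhx, Or.inl rfl⟩
  · have h2 : l = h * e⁻¹ := by rw [h1]; group
    have hlH : l ∈ H := by rw [h2]; exact mul_mem hh (inv_mem heH)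
    have h3 : e⁻¹ * x = x * e⁻¹ := by
      rw [inv_mul_eq_iff_eq_mul, ← mul_assoc, hex, mul_inv_cancel_right]
    have hlx : l * x = x * l := by
      rw [h2, mul_assoc, h3, ← mul_assoc, hhx, mul_assoc]
    refine ⟨y, hy, l, F.cH l hlH hl x F.xP F.x1 hlx, Or.inr ?_⟩
    rw [h1, mul_assoc]

/-- powers separate the 3-part -/
theorem pow_H {h : Γ} (hh : h ∈ H) : h ^ Nat.card H = 1 := by
  have h1 : orderOf h ∣ Nat.card H := Subgroup.orderOf_dvd_natCard H hh
  exact orderOf_dvd_iff_pow_eq_one.1 h1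

theorem comm_of_pow {y g : Γ} (hy : y ∈ P) (hg : g * y ^ Nat.card H = y ^ Nat.card H * g) : g * y = y * g := by
  have h3 : Nat.Coprime 3 (Nat.card H) := (Nat.Prime.coprime_iff_not_dvd Nat.prime_three).2 F.H3
  have h4 : ∃ k : ℕ, y = (y ^ Nat.card H) ^ k := by
    rcases (show Nat.card H % 3 = 1 ∨ Nat.card H % 3 = 2 by have := F.H3; omega) with h | h
    · refine ⟨1, ?_⟩
      rw [pow_one]
      conv_rhs => rw [← Nat.div_add_mod (Nat.card H) 3, h, pow_add, pow_mul, F.P3 y hy, one_pow, one_mul, pow_one]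
    · refine ⟨2, ?_⟩
      have h5 : y ^ Nat.card H = y ^ 2 := by
        conv_lhs => rw [← Nat.div_add_mod (Nat.card H) 3, h, pow_add, pow_mul, F.P3 y hy, one_pow, one_mul]
      rw [h5, ← pow_mul, show 2 * 2 = 3 + 1 by rfl, pow_add, F.P3 y hy, one_mul, pow_one]
  obtain ⟨k, hk⟩ := h4
  have h5 : Commute g (y ^ Nat.card H) := hg
  have h6 := h5.pow_right k
  rw [← hk] at h6
  exact h6

theorem comm_parts {e g : Γ} (heH : e ∈ H) (hex : e * x = x * e) (hg : g * (x * e) = x * e * g) :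
    g * x = x * g ∧ g * e = e * g := by
  have h1 : Commute g (x * e) := hg
  have h2 : Commute x e := hex.symm
  have h3 := h1.pow_right (Nat.card H)
  rw [h2.mul_pow, F.pow_H heH, mul_one] at h3
  have h4 := F.comm_of_pow F.xP h3
  refine ⟨h4, ?_⟩
  have h5 : x * (g * e) = x * (e * g) := by
    rw [← mul_assoc, ← h4, mul_assoc, hg, mul_assoc]
  exact mul_left_cancel h5

/-- elements of `P` commuting with `z e` modulo `Z` commute with `e` -/
theorem comm_of_comm_mod {e y z : Γ} (heH : e ∈ H) (hy : y ∈ P) (hz : z ∈ Z) (h : y * e * y⁻¹ = z * e) :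
    z = 1 := by
  apply F.eq_one_of_mem hz
  have h1 : z = y * (e * y⁻¹ * e⁻¹) := by
    have : z = y * e * y⁻¹ * e⁻¹ := by rw [h, mul_inv_cancel_right]
    rw [this]; group
  rw [h1]
  exact mul_mem hy ((Subgroup.mem_normalizer_iff.1 (F.HN heH) _).1 (inv_mem hy))

theorem card_cent_P {e : Γ} (hex : e * x = x * e) (hP : ¬ ∀ y ∈ P, e * y = y * e) [Finite Γ] :
    Nat.card (P ⊓ Subgroup.centralizer ({e} : Set Γ) : Subgroup Γ) = 3 := by
  set C := P ⊓ Subgroup.centralizer ({e} : Set Γ) with hC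
  have h1 : Nat.card C ∣ 9 := by
    rw [← F.Pc]
    exact Subgroup.card_dvd_of_le inf_le_left
  have h2 : Nat.card C ≠ 9 := by
    intro h
    apply hP
    intro y hy
    have h3 : C = P := by
      apply SetLike.coe_injective
      apply Set.eq_of_subset_of_ncard_le (show (C : Set Γ) ⊆ P from inf_le_left) ?_ (Set.toFinite _)
      rw [← Nat.card_coe_set_eq, ← Nat.card_coe_set_eq]
      exact (F.Pc.trans h.symm).le
    rw [← h3] at hy
    exact (Subgroup.mem_centralizer_singleton_iff.1 hy.2).symm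
  have h3 : x ∈ C := ⟨F.xP, Subgroup.mem_centralizer_singleton_iff.2 hex.symm⟩
  have h4 : orderOf x ∣ Nat.card C := Subgroup.orderOf_dvd_natCard C h3
  have h5 : orderOf x = 3 := orderOf_eq_prime (F.P3 x F.xP) F.x1
  rw [h5] at h4
  have h6 : Nat.card C ≤ 9 := Nat.le_of_dvd (by norm_num) h1
  obtain ⟨k, hk⟩ := h4
  rw [hk] at h1 h2 h6 ⊢
  have h7 : k ≤ 3 := by omega
  have h8 : k ≠ 0 := by
    rintro rfl
    have : 0 < Nat.card C := Nat.card_pos
    omega
  have h9 : k ≠ 3 := fun h => h2 (by rw [h])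
  have h10 : k ≠ 2 := fun h => by rw [h] at h1; norm_num at h1
  have h11 : k = 1 := by omega
  rw [h11]

theorem card_cent_P' {e : Γ} (hP : ∀ y ∈ P, e * y = y * e) :
    Nat.card (P ⊓ Subgroup.centralizer ({e} : Set Γ) : Subgroup Γ) = 9 := by
  rw [← F.Pc]
  congr 2
  apply inf_eq_left.2
  intro y hy
  exact Subgroup.mem_centralizer_singleton_iff.2 (hP y hy).symm

/-- the centralizer of `x e` in `L⟨e⟩` -/
theorem card_cent_Le [Finite Γ] {e : Γ} (heH : e ∈ H) (heL : e ∉ L) (hex : e * x = x * e) (hee : e * e ∈ L) :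
    Nat.card {g : Γ // g ∈ Le L e ∧ g * (x * e) = x * e * g} =
      2 * Nat.card (P ⊓ Subgroup.centralizer ({e} : Set Γ) : Subgroup Γ) * Nat.card Z := by
  classical
  set C := P ⊓ Subgroup.centralizer ({e} : Set Γ) with hC
  have hb : Nat.card (Fin 2) = 2 := by simp
  rw [← hb, ← Nat.card_prod, ← Nat.card_prod]
  symm
  have hxe : ∀ y ∈ C, ∀ z ∈ Z, (y * z) * (x * e) = x * e * (y * z) := by
    intro y hy z hz
    have h1 : y * e = e * y := Subgroup.mem_centralizer_singleton_iff.1 hy.2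
    have h2 : y * x = x * y := F.comm_P hy.1 F.xP
    calc (y * z) * (x * e) = y * (z * (x * e)) := mul_assoc _ _ _
      _ = y * (x * e * z) := by rw [F.zcomm hz]
      _ = (y * x) * e * z := by group
      _ = x * (y * e) * z := by rw [h2]; group
      _ = x * (e * y) * z := by rw [h1]
      _ = x * e * (y * z) := by group
  have hee' : (e : Γ) * (x * e) = x * e * e := by rw [← mul_assoc, hex]
  refine Nat.card_congr (Equiv.ofBijective
    (fun t : (Fin 2 × C) × Z => (⟨(t.1.2 : Γ) * t.2 * (if t.1.1 = 0 then 1 else e), ?_, ?_⟩ :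
      {g : Γ // g ∈ Le L e ∧ g * (x * e) = x * e * g})) ⟨?_, ?_⟩)
  · have h1 : (t.1.2 : Γ) * t.2 ∈ L := mul_mem (F.PL t.1.2.2.1) (F.ZL t.2.2)
    split
    · rw [mul_one]; exact Subgroup.mem_sup_left h1
    · exact mul_mem (Subgroup.mem_sup_left h1) (Subgroup.mem_sup_right (Subgroup.mem_zpowers e))
  · have h1 := hxe t.1.2 t.1.2.2 t.2 t.2.2
    split
    · rw [mul_one]; exact h1
    · rw [mul_assoc, hee', ← mul_assoc, h1]
      group
  · rintro ⟨⟨s, y⟩, z⟩ ⟨⟨s', y'⟩, z'⟩ h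
    have h1 := congrArg Subtype.val h
    dsimp only at h1
    have hyz : (y : Γ) * z ∈ L := mul_mem (F.PL y.2.1) (F.ZL z.2)
    have hyz' : (y' : Γ) * z' ∈ L := mul_mem (F.PL y'.2.1) (F.ZL z'.2)
    have h2 : s = s' := by
      fin_cases s <;> fin_cases s'
      · rfl
      · exfalso
        apply heL
        have h3 : e = ((y' : Γ) * z')⁻¹ * (y * z) := by
          simp only [Fin.zero_eta, Fin.isValue, ↓reduceIte, mul_one, Fin.mk_one, one_ne_zero] at h1
          rw [h1, inv_mul_cancel_left]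
        rw [h3]; exact mul_mem (inv_mem hyz') hyz
      · exfalso
        apply heL
        have h3 : e = ((y : Γ) * z)⁻¹ * (y' * z') := by
          simp only [Fin.zero_eta, Fin.isValue, ↓reduceIte, mul_one, Fin.mk_one, one_ne_zero] at h1
          rw [← h1, inv_mul_cancel_left]
        rw [h3]; exact mul_mem (inv_mem hyz) hyz'
      · rfl
    subst h2
    have h3 := mul_right_cancel h1
    have h4 : (y' : Γ)⁻¹ * y = z' * (z : Γ)⁻¹ := by
      rw [inv_mul_eq_iff_eq_mul, ← mul_assoc, ← h3, mul_inv_cancel_right]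
    have h5 : (y' : Γ)⁻¹ * y = 1 :=
      F.eq_one_of_mem (by rw [h4]; exact mul_mem z'.2 (inv_mem z.2)) (mul_mem (inv_mem y'.2.1) y.2.1)
    have h6 : y = y' := Subtype.ext (inv_mul_eq_one.1 h5).symm
    rw [h5] at h4
    have h7 : z = z' := Subtype.ext (mul_inv_eq_one.1 h4.symm).symm
    rw [h6, h7]
  · rintro ⟨g, hg, hgc⟩
    obtain ⟨hgx, hge⟩ := F.comm_parts heH hex hgc
    obtain ⟨y, hy, z, hz, h⟩ := F.cent_Le heH hex hee hg hgx
    have hyC : y ∈ C := by
      refine ⟨hy, Subgroup.mem_centralizer_singleton_iff.2 ?_⟩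
      rcases h with rfl | rfl
      · rw [mul_assoc, F.zcomm hz, ← mul_assoc] at hge
        have := mul_right_cancel (a := y * e) (b := z) (c := e * y) (by rw [hge, mul_assoc])
        exact this
      · have h1 : y * e * (z * e) = e * y * (z * e) := by
          have h2 : y * z * e * e = y * e * (z * e) := by
            calc y * z * e * e = y * (z * e) * e := by group
              _ = y * (e * z) * e := by rw [F.zcomm hz e]
              _ = y * e * (z * e) := by group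
          have h3 : e * (y * z * e) = e * y * (z * e) := by group
          rw [← h2, hge, h3]
        exact mul_right_cancel h1
    rcases h with rfl | rfl
    · exact ⟨((0, ⟨y, hyC⟩), ⟨z, hz⟩), Subtype.ext (by simp)⟩
    · exact ⟨((1, ⟨y, hyC⟩), ⟨z, hz⟩), Subtype.ext (by simp)⟩

/-! ### The subgroups `L ∩ K` and `L⟨e⟩ ∩ K`, `P H ≤ K` -/

variable {K : Subgroup Γ}

theorem le_K (hPK : P ≤ K) (hHK : H ≤ K) {g : Γ} (hgx : g * x = x * g) : g ∈ K := by
  obtain ⟨y, hy, h, hh, -, rfl⟩ := F.cent F.xP F.x1 hgx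
  exact mul_mem (hPK hy) (hHK hh)

/-- the index 2 pair -/
theorem pair {e : Γ} (heH : e ∈ H) (heL : e ∉ L) (hex : e * x = x * e) (hee : e * e ∈ L) (hHK : H ≤ K)
    (hZ : Z ≤ L ⊓ K) (hA : L ⊓ K ≤ Le L e ⊓ K) :
    Pair (Subgroup.inclusion hZ) (Subgroup.inclusion hA) := by
  refine ⟨Subgroup.inclusion_injective _, Subgroup.inclusion_injective _, ?_, fun z w => ?_⟩
  · have heK : e ∈ Le L e ⊓ K := ⟨Subgroup.mem_sup_right (Subgroup.mem_zpowers e), hHK heH⟩
    rw [Subgroup.index_eq_two_iff]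
    refine ⟨⟨e, heK⟩⁻¹, fun w => ?_⟩
    have hr : ∀ w : (Le L e ⊓ K : Subgroup Γ), w ∈ (Subgroup.inclusion hA).range ↔ (w : Γ) ∈ L := by
      intro w
      constructor
      · rintro ⟨t, rfl⟩
        exact t.2.1
      · intro h
        exact ⟨⟨w, h, w.2.2⟩, rfl⟩
    rw [hr, hr]
    have hw : (w : Γ) ∈ Le L e := w.2.1
    rw [mem_Le F.Ln hee] at hw
    have hwe : ((w * ⟨e, heK⟩⁻¹ : (Le L e ⊓ K : Subgroup Γ)) : Γ) = (w : Γ) * e⁻¹ := rfl
    rw [hwe]
    rcases hw with hw | ⟨l, hl, hw⟩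
    · right
      refine ⟨hw, fun h => heL ?_⟩
      have h1 : e = ((w : Γ) * e⁻¹)⁻¹ * w := by group
      rw [h1]; exact mul_mem (inv_mem h) hw
    · left
      rw [hw, mul_inv_cancel_right]
      refine ⟨hl, fun h => heL ?_⟩
      have h1 : e = l⁻¹ * (l * e) := by group
      rw [h1]; exact mul_mem (inv_mem hl) h
  · apply Subtype.ext
    exact F.zcomm z.2 w

theorem elt [Finite Γ] (lam : Z →* ℂˣ) {e : Γ} (heH : e ∈ H) (heL : e ∉ L) (hex : e * x = x * e) (hee : e * e ∈ L)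
    (hPK : P ≤ K) (hHK : H ≤ K) (hZ : Z ≤ L ⊓ K) (hA : L ⊓ K ≤ Le L e ⊓ K) (hx : x ∈ L ⊓ K)
    (he : e ∈ Le L e ⊓ K) (hd : d ∈ Le L e ⊓ K) {m : ℂ} (hm : m ^ 2 = (lam ⟨e * e, F.sq_mem heH hex hee⟩ : ℂ)) {n : ℕ}
    (hn : Nat.card (P ⊓ Subgroup.centralizer ({e} : Set Γ) : Subgroup Γ) = n)
    (hvan : ∀ χ : IrrCharacter (Le L e ⊓ K : Subgroup Γ),
      Over ((Subgroup.inclusion hA).comp (Subgroup.inclusion hZ)) lam (χ : (Le L e ⊓ K : Subgroup Γ) → ℂ) →
      (χ : (Le L e ⊓ K : Subgroup Γ) → ℂ) (Subgroup.inclusion hA ⟨x, hx⟩) = 0 →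
      (χ : (Le L e ⊓ K : Subgroup Γ) → ℂ) (Subgroup.inclusion hA ⟨x, hx⟩ * ⟨e, he⟩) = 0) :
    Elt (Subgroup.inclusion hZ) (Subgroup.inclusion hA) lam ⟨x, hx⟩ ⟨e, he⟩ ⟨d, hd⟩ ⟨e * e, F.sq_mem heH hex hee⟩ m n where
  x3 := Subtype.ext (F.P3 x F.xP)
  x1 := fun h => F.x1 (congrArg Subtype.val h)
  cA := by
    rintro ⟨t, ht⟩
    apply heL
    have h1 := congrArg Subtype.val ht
    change (t : Γ) = e at h1
    rw [← h1]
    exact t.2.1
  cc := rfl
  mm := hm
  cx := Subtype.ext hex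
  dc := Subtype.ext (F.dc e heH).symm
  dx := Subtype.ext (F.dinv x F.xP)
  card := by
    rw [← hn, ← F.card_cent_Le heH heL hex hee]
    refine Nat.card_congr ⟨fun g => ⟨(g : (Le L e ⊓ K : Subgroup Γ)), (g : (Le L e ⊓ K : Subgroup Γ)).2.1, ?_⟩,
      fun g => ⟨⟨g, g.2.1, ?_⟩, ?_⟩, fun g => rfl, fun g => rfl⟩
    · exact congrArg Subtype.val (Subgroup.mem_centralizer_singleton_iff.1 g.2)
    · exact F.le_K hPK hHK (F.comm_parts heH hex g.2.2).1
    · exact Subgroup.mem_centralizer_singleton_iff.2 (Subtype.ext g.2.2)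
  good := by
    intro z hz
    obtain ⟨g, hg⟩ := isConj_iff.1 hz
    have h1 : (g : Γ) * (x * e) * (g : Γ)⁻¹ = z * (x * e) := congrArg Subtype.val hg
    have h2 : Commute x e := hex.symm
    have h3 := congrArg (· ^ Nat.card H) h1
    simp only [conj_pow] at h3
    have h4 : Commute (z : Γ) (x * e) := F.zcomm z.2 _
    rw [h4.mul_pow, h2.mul_pow, F.pow_H heH, mul_one, F.pow_H (F.ZH z.2), one_mul] at h3
    have h5 : (g : Γ) * x = x * g := F.comm_of_pow F.xP (by rw [mul_inv_eq_iff_eq_mul] at h3; exact h3)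
    obtain ⟨y, hy, z', hz', h⟩ := F.cent_Le heH hex hee g.2.1 h5
    have h6 : (g : Γ) * e * (g : Γ)⁻¹ = z * e := by
      have h7 : (g : Γ) * (x * e) * (g : Γ)⁻¹ = x * ((g : Γ) * e * (g : Γ)⁻¹) := by
        rw [← mul_assoc, h5]; group
      have h9 : x * ((g : Γ) * e * (g : Γ)⁻¹) = x * (z * e) := by
        rw [← h7, h1, ← mul_assoc, F.zcomm z.2 x, mul_assoc]
      exact mul_left_cancel h9
    apply Subtype.ext
    refine F.comm_of_comm_mod heH hy z.2 ?_
    rw [← h6]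
    rcases h with h | h
    · rw [h]
      have h8 : y * z' * e * (y * z')⁻¹ = y * (z' * e * z'⁻¹) * y⁻¹ := by group
      rw [h8, F.zcomm hz', mul_inv_cancel_right]
    · rw [h]
      have h8 : y * z' * e * e * (y * z' * e)⁻¹ = y * (z' * e * z'⁻¹) * y⁻¹ := by group
      rw [h8, F.zcomm hz', mul_inv_cancel_right]
  van := hvan

end Frame

end Cfsg.Agent.H155.TI
end

private theorem dce_8289295d6048 : _root_.True := by
  try have : _root_.True := by simp only [_root_.Cfsg.Agent.H155.TI.Le.eq_1]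
  try have : _root_.True := by simp only [_root_.Cfsg.Agent.H41.TI.eqv.congr_simp]
  exact _root_.True.intro
end

-- part: H185/TI/Kap
section
prune_inst 0x102045005400000000180000a0000060680000020040000010600e00034b10622005200078800c1008020c500000000003100010422000000a0008000a0004a1800010001100a104200001001002000000000000000000000000000000041000000000000
set_option linter.all false
open scoped Cfsg.Agent.FastGrp

/-!
# Row `PSL₃(4)` of S4819, S4820 : the sign lemma (helper185)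

`A ≤ K ≤ Γ` normal, both of index 2; `χ₁`, `χ₂` characters of `K` irreducible on `A`; `r ∉ K`. If the signs by which
`r` moves `χ₁` and `χ₂` are equal then the function `χ₂(g) conj χ₁(h)` extends to the fibre product
`{(g, h) : g A = h A}`, and the mean of the extension over the diagonal of a four-group is a half integer.
-/

set_option autoImplicit false

open scoped ComplexConjugate
open Cfsg Cfsg.Agent.Characters.Core

namespace Cfsg.Agent.H185.TI

open Cfsg.Agent.H155.TI (Over Pair Inv Kap)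
open Cfsg.Agent.H41.TI (exists_ext)

universe u

section fib

variable {Γ : Type u} [Group Γ] (A : Subgroup Γ) [hA : A.Normal]

/-- the fibre product of `Γ` with itself over `Γ / A` -/
def Fib : Subgroup (Γ × Γ) where
  carrier := {p | p.1⁻¹ * p.2 ∈ A}
  one_mem' := by simp
  mul_mem' := by
    rintro ⟨a, b⟩ ⟨c, d⟩ (h1 : a⁻¹ * b ∈ A) (h2 : c⁻¹ * d ∈ A)
    show (a * c)⁻¹ * (b * d) ∈ A
    have h3 : (a * c)⁻¹ * (b * d) = (c⁻¹ * (a⁻¹ * b) * (c⁻¹)⁻¹) * (c⁻¹ * d) := by group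
    rw [h3]
    exact A.mul_mem (hA.conj_mem _ h1 c⁻¹) h2
  inv_mem' := by
    rintro ⟨a, b⟩ (h1 : a⁻¹ * b ∈ A)
    show (a⁻¹)⁻¹ * b⁻¹ ∈ A
    have h3 : (a⁻¹)⁻¹ * b⁻¹ = b * (a⁻¹ * b)⁻¹ * b⁻¹ := by group
    rw [h3]
    exact hA.conj_mem _ (A.inv_mem h1) b

theorem mem_Fib {p : Γ × Γ} : p ∈ Fib A ↔ p.1⁻¹ * p.2 ∈ A := Iff.rfl

/-- diagonal elements -/
def dg (g : Γ) : Fib A := ⟨(g, g), by rw [mem_Fib]; simp⟩

theorem dg_mul (g h : Γ) : dg A (g * h) = dg A g * dg A h := rfl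

/-- first projection -/
def p1 : Fib A →* Γ := (MonoidHom.fst Γ Γ).comp (Fib A).subtype

/-- second projection -/
def p2 : Fib A →* Γ := (MonoidHom.snd Γ Γ).comp (Fib A).subtype

theorem p1_surj : Function.Surjective (p1 A) := fun g => ⟨dg A g, rfl⟩

variable {A}

theorem p2_mem {W : Subgroup Γ} (hW : A ≤ W) {q : Fib A} (hq : p1 A q ∈ W) : p2 A q ∈ W := by
  have h1 : (p1 A q)⁻¹ * p2 A q ∈ A := q.2
  have h2 : p2 A q = p1 A q * ((p1 A q)⁻¹ * p2 A q) := by group
  rw [h2]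
  exact W.mul_mem hq (hW h1)

/-- the trivial central embedding -/
theorem pair_triv {B W : Type u} [Group B] [Group W] (i : B →* W) (hi : Function.Injective i)
    (h2 : i.range.index = 2) : Pair (1 : PUnit.{u+1} →* B) i where
  ji := fun _ _ _ => rfl
  ii := hi
  idx := h2
  cen := fun _ w => by simp

end fib

/-- the mean over a four-group is integral -/
theorem four_int {D V : Type*} [Group D] [AddCommGroup V] [Module ℂ V] [FiniteDimensional ℂ V]
    (ρ : Representation ℂ D V) {x c r : D} (hx : x ^ 3 = 1) (hcx : c * x = x * c) (hrx : r * x = x * r)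
    (hc : ρ (c * c) = 1) (hr : ρ (r * r) = 1) (hcr : ρ (c * r) = ρ (r * c)) :
    IsIntegral ℤ ((1 / 4 : ℂ) * (ρ.character x + ρ.character (x * c) + ρ.character (x * r) +
      ρ.character (x * (c * r)))) := by
  set E : Module.End ℂ V := (1 / 4 : ℂ) • (1 + ρ c + ρ r + ρ (c * r)) with hE
  have hc' : ρ c * ρ c = 1 := by rw [← map_mul]; exact hc
  have hr' : ρ r * ρ r = 1 := by rw [← map_mul]; exact hr
  have hcr' : ρ r * ρ c = ρ c * ρ r := by rw [← map_mul, ← map_mul]; exact hcr.symm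
  have hcr2 : ρ (c * r) = ρ c * ρ r := map_mul ρ c r
  have h1 : ρ c * E = E := by
    rw [hE, mul_smul_comm]
    congr 1
    rw [hcr2, mul_add, mul_add, mul_add, mul_one, hc', ← mul_assoc, hc', one_mul]
    abel
  have h2 : ρ r * E = E := by
    rw [hE, mul_smul_comm]
    congr 1
    rw [hcr2, mul_add, mul_add, mul_add, mul_one, hr', ← mul_assoc, hcr', mul_assoc, hr', mul_one]
    abel
  have hEE : E * E = E := by
    conv_lhs => lhs; rw [hE]
    rw [smul_mul_assoc, hcr2, add_mul, add_mul, add_mul, one_mul, mul_assoc, h1, h2, h1]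
    have h3 : E + E + E + E = (4 : ℂ) • E := by
      rw [show (4 : ℂ) = 1 + 1 + 1 + 1 by norm_num, add_smul, add_smul, add_smul, one_smul]
    rw [h3, smul_smul]
    norm_num
  have hcomm : ρ x * E = E * ρ x := by
    rw [hE, mul_smul_comm, smul_mul_assoc]
    congr 1
    have e1 : ρ x * ρ c = ρ c * ρ x := by rw [← map_mul, ← map_mul, hcx]
    have e2 : ρ x * ρ r = ρ r * ρ x := by rw [← map_mul, ← map_mul, hrx]
    rw [hcr2, mul_add, mul_add, mul_add, add_mul, add_mul, add_mul, mul_one, one_mul, e1, e2, ← mul_assoc, e1,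
      mul_assoc, e2, mul_assoc]
  have h4 : (ρ x * E) ^ (3 + 1) = ρ x * E := by
    have hC : Commute (ρ x) E := hcomm
    rw [hC.mul_pow, ← map_pow, pow_succ, hx, one_mul]
    congr 1
    exact IsIdempotentElem.pow_succ_eq 3 hEE
  have h5 := CharactersDeep.TracePow.isIntegral_trace_of_pow_succ_eq _ 3 (by norm_num) h4
  convert h5 using 1
  rw [hE, mul_smul_comm, map_smul, smul_eq_mul]
  congr 1
  rw [mul_add, mul_add, mul_add, mul_one, map_add, map_add, map_add, ← map_mul, ← map_mul, ← map_mul]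
  rfl

section main

variable {Γ : Type u} [Group Γ] [Finite Γ] {Z A K W1 W2 : Subgroup Γ}

end main

end Cfsg.Agent.H185.TI
end

-- part: H41/TI/NvN
section
set_option linter.all false
open scoped Cfsg.Agent.FastGrp

/-!
# Row `PSL₃(4)` of S4819, S4820, piece P2 : characters of `M ≤ N(P)` do not vanish at `x` (helper41)
-/

set_option autoImplicit false

open Cfsg Cfsg.Agent.Characters.Core

namespace Cfsg.Agent.H41.TI

open Cfsg.Agent.H155.TI (Frame)

universe u

variable {Γ : Type u} [Group Γ] [Finite Γ] {Z L P H : Subgroup Γ} {x d a b : Γ}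

theorem nvN (F : Frame Z L P H x d a b) {M : Subgroup Γ} (hPM : P ≤ M) (hMN : M ≤ Subgroup.normalizer (P : Set Γ))
    (χ : IrrCharacter M) : (χ : M → ℂ) ⟨x, hPM F.xP⟩ ≠ 0 := by
  intro h0
  have hnorm : (P.subgroupOf M).Normal := by
    refine ⟨fun n hn g => ?_⟩
    rw [Subgroup.mem_subgroupOf] at hn ⊢
    exact (Subgroup.mem_normalizer_iff.1 (hMN g.2) n).1 hn
  have hab : ∀ y ∈ P.subgroupOf M, ∀ z ∈ P.subgroupOf M, y * z = z * y := by
    intro y hy z hz
    rw [Subgroup.mem_subgroupOf] at hy hz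
    exact Subtype.ext (F.comm_P hy hz)
  obtain ⟨n, ρ, hρ, hχ⟩ := χ.2
  have h1 : ρ.character 1 = (Module.finrank ℂ (Fin n → ℂ) : ℂ) := Representation.char_one ρ
  have := hρ
  have h2 := Characters.Ito.finrank_dvd_index ρ (P.subgroupOf M) hab
  have hord : orderOf (⟨x, hPM F.xP⟩ : M) = 3 := by
    rw [← Subgroup.orderOf_coe]
    exact orderOf_eq_prime (F.P3 x F.xP) F.x1
  have : Fact (Nat.Prime 3) := ⟨Nat.prime_three⟩
  have h3 := S4558.result 3 (χ : M → ℂ) (isIrr_isCharacter χ.2) ⟨x, hPM F.xP⟩ ⟨1, by rw [hord, pow_one]⟩ h0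
  have h4 : charDegree (χ : M → ℂ) = Module.finrank ℂ (Fin n → ℂ) := by
    rw [← hχ]
    exact H692.RealOver.charDegree_eq_of h1
  rw [h4] at h3
  apply F.Pidx
  have h5 : P.relIndex M * M.index = P.index := Subgroup.relIndex_mul_index hPM
  rw [← h5]
  exact (h3.trans h2).mul_right _

end Cfsg.Agent.H41.TI
end

-- part: H315/TI/AutL34
section
prune_inst 0x3000414134400000001c0002b00060a115000190000000004004004000014042090100013600100000002040000d00000300004002000000000404000a0004a1808000002040009100000700028801000000800000000000000080000000000001c010000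
set_option linter.all false
open scoped Cfsg.Agent.FastGrp

/-!
# Row `PSL₃(4)` of S4819, S4820: piece f (helper315)

`goalAut : Cfsg.Agent.H155.TI.GoalAut`.
-/

set_option autoImplicit false

namespace Cfsg.Agent.H315.TI

open Matrix
open Cfsg.Agent.ClassicalGeometry.AutPSL.Root Cfsg.Agent.ClassicalGeometry.AutPSL.Auto
  Cfsg.Agent.ClassicalGeometry.AutPSL.Main Cfsg.Agent.Schreier.ClassPSL

/-! ### The field with four elements -/

section field

variable {F : Type*} [Field F] [Fintype F]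

theorem two_eq_zero (h4 : Fintype.card F = 4) : (2 : F) = 0 := by
  have h1 : ((4 : ℕ) : F) = 0 := by rw [← h4]; exact FiniteField.cast_card_eq_zero F
  have h2 : (2 : F) * 2 = 0 := by
    have : ((4 : ℕ) : F) = 2 * 2 := by norm_num
    rw [← this, h1]
  rcases mul_eq_zero.1 h2 with h | h <;> exact h

theorem exists_w (h4 : Fintype.card F = 4) : ∃ w : F, w ≠ 0 ∧ w ≠ 1 := by
  classical
  by_contra hcon
  push Not at hcon
  have h1 : (Finset.univ : Finset F) ⊆ {0, 1} := by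
    intro x _
    rw [Finset.mem_insert, Finset.mem_singleton]
    by_cases hx : x = 0
    · exact Or.inl hx
    · exact Or.inr (hcon x hx)
  have h2 := Finset.card_le_card h1
  rw [Finset.card_univ, h4] at h2
  have h3 : ({0, 1} : Finset F).card ≤ 2 := Finset.card_le_two
  omega

theorem cases4 (h4 : Fintype.card F = 4) {w : F} (h0 : w ≠ 0) (h1 : w ≠ 1) (x : F) :
    x = 0 ∨ x = 1 ∨ x = w ∨ x = w + 1 := by
  classical
  have h2 := two_eq_zero h4
  have hw1 : w + 1 ≠ 0 := by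
    intro h
    apply h1
    linear_combination h - h2
  have hs : ({0, 1, w, w + 1} : Finset F).card = 4 := by
    rw [Finset.card_insert_of_notMem, Finset.card_insert_of_notMem, Finset.card_insert_of_notMem,
      Finset.card_singleton]
    · rw [Finset.mem_singleton]
      intro h
      exact one_ne_zero (left_eq_add.1 h)
    · simp only [Finset.mem_insert, Finset.mem_singleton, not_or]
      refine ⟨Ne.symm h1, fun h => h0 ?_⟩
      exact right_eq_add.1 h
    · simp only [Finset.mem_insert, Finset.mem_singleton, not_or]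
      exact ⟨zero_ne_one, Ne.symm h0, Ne.symm hw1⟩
  have hu : ({0, 1, w, w + 1} : Finset F) = Finset.univ := by
    apply Finset.eq_univ_of_card
    rw [hs, h4]
  have hx : x ∈ ({0, 1, w, w + 1} : Finset F) := by rw [hu]; exact Finset.mem_univ _
  simpa only [Finset.mem_insert, Finset.mem_singleton] using hx

theorem sigma_w (h4 : Fintype.card F = 4) {w : F} (h0 : w ≠ 0) (h1 : w ≠ 1) (σ : F ≃+* F) :
    σ w = w ∨ σ w = w + 1 := by
  rcases cases4 h4 h0 h1 (σ w) with h | h | h | h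
  · exact absurd ((map_eq_zero_iff σ σ.injective).1 h) h0
  · exact absurd ((map_eq_one_iff σ σ.injective).1 h) h1
  · exact Or.inl h
  · exact Or.inr h

theorem sigma_ext (h4 : Fintype.card F = 4) {w : F} (h0 : w ≠ 0) (h1 : w ≠ 1) {σ τ : F ≃+* F}
    (h : σ w = τ w) : σ = τ := by
  ext x
  rcases cases4 h4 h0 h1 x with rfl | rfl | rfl | rfl
  · rw [map_zero, map_zero]
  · rw [map_one, map_one]
  · exact h
  · rw [map_add, map_add, h, map_one, map_one]

theorem sigma_sq (h4 : Fintype.card F = 4) (σ : F ≃+* F) : σ * σ = 1 := by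
  obtain ⟨w, h0, h1⟩ := exists_w h4
  apply sigma_ext h4 h0 h1
  have h2 := two_eq_zero h4
  change σ (σ w) = w
  rcases sigma_w h4 h0 h1 σ with h | h
  · rw [h, h]
  · rw [h, map_add, map_one, h]
    linear_combination h2

theorem card_sigma (h4 : Fintype.card F = 4) : Nat.card (F ≃+* F) ≤ 2 := by
  classical
  obtain ⟨w, h0, h1⟩ := exists_w h4
  have : Function.Injective (fun σ : F ≃+* F => decide (σ w = w)) := by
    intro σ τ h
    apply sigma_ext h4 h0 h1
    have h' : (σ w = w) ↔ (τ w = w) := by simpa using h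
    rcases sigma_w h4 h0 h1 σ with hσ | hσ
    · rw [hσ, h'.1 hσ]
    · rcases sigma_w h4 h0 h1 τ with hτ | hτ
      · rw [hτ, h'.2 hτ]
      · rw [hσ, hτ]
  have h5 := Nat.card_le_card_of_injective _ this
  simpa only [_root_.ge_iff_le, _root_.Nat.card_eq_fintype_card, _root_.Fintype.card_bool] using h5

end field

/-! ### Types of automorphisms -/

section types

variable {F : Type*} [Field F]

open Classical in
/-- the automorphism of type `b` -/
noncomputable def tp (b : (F ≃+* F) × Bool) : MulAut (Matrix.SpecialLinearGroup (Fin 3) F) :=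
  fld b.1 * (if b.2 = true then itr else 1)

theorem tp_mul_cj (b : (F ≃+* F) × Bool) (A : GL (Fin 3) F) : ∃ A' : GL (Fin 3) F, tp b * cj A = cj A' * tp b := by
  unfold tp
  split_ifs with h
  · refine ⟨Matrix.GeneralLinearGroup.map (b.1 : F →+* F) (ctr A), ?_⟩
    rw [mul_assoc, itr_mul_cj, ← mul_assoc, fld_mul_cj, mul_assoc]
  · exact ⟨_, by rw [mul_one]; exact fld_mul_cj b.1 A⟩

theorem tp_sq {b : (F ≃+* F) × Bool} (hb : b.1 * b.1 = 1) : tp b * tp b = 1 := by
  unfold tp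
  split_ifs with h
  · rw [mul_assoc, ← mul_assoc itr, itr_mul_fld, mul_assoc (fld b.1), itr_mul_itr, mul_one, ← map_mul, hb, map_one]
  · rw [mul_one, ← map_mul, hb, map_one]

theorem exists_type [Finite F] (α : MulAut (Matrix.ProjectiveSpecialLinearGroup (Fin 3) F)) :
    ∃ (A : GL (Fin 3) F) (b : (F ≃+* F) × Bool), α = lift (cj A * tp b) := by
  have := Fintype.ofFinite F
  obtain ⟨p, hp⟩ := CharP.exists F
  have hprime : Fact p.Prime := ⟨CharP.char_is_prime F p⟩
  rcases surj_three p le_rfl α with ⟨A, σ, h⟩ | ⟨A, σ, h⟩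
  · refine ⟨A, (σ, false), ?_⟩
    rw [h]
    unfold tp
    rw [if_neg (by simp), mul_one]
  · refine ⟨A, (σ, true), ?_⟩
    rw [h]
    unfold tp
    rw [if_pos rfl, mul_assoc]

/-- the element of `SL` with the given matrix in `GL` acts by conjugation -/
theorem lift_cj_of_det {A : GL (Fin 3) F} (s : Matrix.SpecialLinearGroup (Fin 3) F)
    (hs : (s : Matrix (Fin 3) (Fin 3) F) = A) : cj A = MulAut.conj s := by
  apply MulEquiv.ext
  intro x
  apply Subtype.ext
  rw [coe_cj, MulAut.conj_apply, Matrix.SpecialLinearGroup.coe_mul, Matrix.SpecialLinearGroup.coe_mul]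
  have hinv : (s⁻¹ : Matrix.SpecialLinearGroup (Fin 3) F).1 = ((A⁻¹ : GL (Fin 3) F) : Matrix (Fin 3) (Fin 3) F) := by
    have h1 : (s * s⁻¹ : Matrix.SpecialLinearGroup (Fin 3) F).1 = 1 := by rw [mul_inv_cancel]; rfl
    have h2 : (A : Matrix (Fin 3) (Fin 3) F) * (s⁻¹ : Matrix.SpecialLinearGroup (Fin 3) F).1 = 1 := by
      rw [← hs]; exact h1
    have h3 : ((A⁻¹ : GL (Fin 3) F) : Matrix (Fin 3) (Fin 3) F) * (A : Matrix (Fin 3) (Fin 3) F) = 1 := by
      rw [← Units.val_mul, inv_mul_cancel, Units.val_one]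
    calc (s⁻¹ : Matrix.SpecialLinearGroup (Fin 3) F).1
        = (((A⁻¹ : GL (Fin 3) F) : Matrix (Fin 3) (Fin 3) F) * (A : Matrix (Fin 3) (Fin 3) F)) *
          (s⁻¹ : Matrix.SpecialLinearGroup (Fin 3) F).1 := by rw [h3, one_mul]
      _ = _ := by rw [mul_assoc, h2, mul_one]
  change (A : Matrix (Fin 3) (Fin 3) F) * x.1 * ((A⁻¹ : GL (Fin 3) F) : Matrix (Fin 3) (Fin 3) F) =
    s.1 * x.1 * (s⁻¹ : Matrix.SpecialLinearGroup (Fin 3) F).1
  rw [hinv, ← hs]

theorem lift_conj (s : Matrix.SpecialLinearGroup (Fin 3) F) : lift (MulAut.conj s) = MulAut.conj (pr s) := by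
  apply MulEquiv.ext
  intro x
  obtain ⟨x, rfl⟩ := pr_surjective x
  rw [lift_pr, MulAut.conj_apply, MulAut.conj_apply, ← map_inv, ← map_mul, ← map_mul]

/-- the cube of a diagonal automorphism is inner -/
theorem cube_inner [Fintype F] (h4 : Fintype.card F = 4) (A : GL (Fin 3) F) :
    ∃ s : Matrix.ProjectiveSpecialLinearGroup (Fin 3) F, lift (cj A) ^ 3 = MulAut.conj s := by
  have hdet : ((A ^ 3 : GL (Fin 3) F) : Matrix (Fin 3) (Fin 3) F).det = 1 := by
    rw [Units.val_pow_eq_pow_val, det_pow]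
    have h1 : IsUnit (A : Matrix (Fin 3) (Fin 3) F).det := (Matrix.isUnit_iff_isUnit_det _).1 A.isUnit
    have h2 := FiniteField.pow_card_sub_one_eq_one _ h1.ne_zero
    rwa [h4] at h2
  let s : Matrix.SpecialLinearGroup (Fin 3) F := ⟨_, hdet⟩
  refine ⟨pr s, ?_⟩
  rw [← map_pow, ← map_pow, lift_cj_of_det (A := A ^ 3) s rfl, lift_conj]

end types

/-! ### The elements `D`, `C` -/

section DC

variable {F : Type*} [Field F]

/-- the diagonal element -/
def Dm (w : F) (hw : w ^ 3 = 1) : Matrix.SpecialLinearGroup (Fin 3) F :=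
  ⟨!![1, 0, 0; 0, w, 0; 0, 0, w ^ 2], by
    rw [Matrix.det_fin_three]
    simp only [_root_.Fin.isValue, _root_.Matrix.of_apply, _root_.Matrix.cons_val', _root_.Matrix.cons_val_zero, _root_.Matrix.cons_val_fin_one, _root_.Matrix.cons_val_one, _root_.one_mul, _root_.Matrix.cons_val, _root_.MulZeroClass.mul_zero, _root_.sub_zero, _root_.MulZeroClass.zero_mul, _root_.add_zero]
    linear_combination hw⟩

/-- the cyclic permutation -/
def Cm : Matrix.SpecialLinearGroup (Fin 3) F :=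
  ⟨!![0, 1, 0; 0, 0, 1; 1, 0, 0], by
    rw [Matrix.det_fin_three]
    simp⟩

/-- the scalar -/
def Zm (w : F) (hw : w ^ 3 = 1) : Matrix.SpecialLinearGroup (Fin 3) F :=
  ⟨!![w, 0, 0; 0, w, 0; 0, 0, w], by
    rw [Matrix.det_fin_three]
    simp only [_root_.Fin.isValue, _root_.Matrix.of_apply, _root_.Matrix.cons_val', _root_.Matrix.cons_val_zero, _root_.Matrix.cons_val_fin_one, _root_.Matrix.cons_val_one, _root_.Matrix.cons_val, _root_.MulZeroClass.mul_zero, _root_.sub_zero, _root_.MulZeroClass.zero_mul, _root_.add_zero]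
    linear_combination hw⟩

theorem Zm_central (w : F) (hw : w ^ 3 = 1) (g : Matrix.SpecialLinearGroup (Fin 3) F) :
    Zm w hw * g = g * Zm w hw := by
  apply Subtype.ext
  ext i j
  rw [Matrix.SpecialLinearGroup.coe_mul, Matrix.SpecialLinearGroup.coe_mul]
  (revert i j; simp only [Zm, Matrix.mul_apply, Fin.sum_univ_three, mul_comm, _root_.Fin.forall_fin_succ, _root_.Matrix.of_apply, _root_.Matrix.cons_val', _root_.Matrix.cons_val_fin_one, Fin.isValue, _root_.Matrix.cons_val_zero, _root_.Matrix.cons_val_one, _root_.Matrix.cons_val, _root_.MulZeroClass.zero_mul, _root_.add_zero, _root_.Matrix.cons_val_succ, _root_.Fin.succ_zero_eq_one, _root_.zero_add, _root_.Fin.succ_one_eq_two, _root_.IsEmpty.forall_iff, _root_.and_true, _root_.and_self, _root_.mul_eq_mul_left_iff, _root_.true_or])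

theorem C_mul_D (w : F) (hw : w ^ 3 = 1) : Cm * Dm w hw = Zm w hw * (Dm w hw * Cm) := by
  apply Subtype.ext
  ext i j
  rw [Matrix.SpecialLinearGroup.coe_mul, Matrix.SpecialLinearGroup.coe_mul, Matrix.SpecialLinearGroup.coe_mul]
  (revert i j; simp only [Zm, Cm, Dm, Matrix.mul_apply, Fin.sum_univ_three, _root_.Fin.forall_fin_succ, _root_.Matrix.of_apply, _root_.Matrix.cons_val', _root_.Matrix.cons_val_fin_one, Fin.isValue, _root_.Matrix.cons_val_zero, _root_.Matrix.cons_val_one, _root_.Matrix.cons_val, _root_.Matrix.cons_mul, _root_.Nat.succ_eq_add_one, Nat.reduceAdd, _root_.Matrix.vecMul_cons, _root_.Matrix.head_cons, _root_.one_smul, _root_.Matrix.tail_cons, _root_.zero_smul, _root_.Matrix.empty_vecMul, _root_.add_zero, _root_.Matrix.smul_cons, _root_.smul_eq_mul, _root_.MulZeroClass.mul_zero, _root_.mul_one, _root_.Matrix.smul_empty, _root_.zero_add, _root_.Matrix.empty_mul, _root_.Equiv.symm_apply_apply, _root_.Matrix.cons_val_succ,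 _root_.forall_const, _root_.MulZeroClass.zero_mul, _root_.one_mul, _root_.and_true, _root_.true_and]) <;> (repeat' with_reducible apply And.intro)
  · ring
  · linear_combination -hw

theorem D_cube (w : F) (hw : w ^ 3 = 1) : Dm w hw ^ 3 = 1 := by
  apply Subtype.ext
  ext i j
  rw [pow_succ, pow_two, Matrix.SpecialLinearGroup.coe_mul, Matrix.SpecialLinearGroup.coe_mul]
  (revert i j; simp only [Dm, Matrix.mul_apply, Fin.sum_univ_three, _root_.Fin.forall_fin_succ, _root_.Matrix.cons_mul, _root_.Nat.succ_eq_add_one, Nat.reduceAdd, _root_.Matrix.vecMul_cons, _root_.Matrix.head_cons, _root_.one_smul, _root_.Matrix.tail_cons, _root_.zero_smul, _root_.Matrix.empty_vecMul, _root_.add_zero, _root_.Matrix.smul_cons, _root_.smul_eq_mul, _root_.MulZeroClass.mul_zero, _root_.Matrix.smul_empty, _root_.zero_add, _root_.Matrix.empty_mul, _root_.Equiv.symm_apply_apply, _root_.Matrix.of_apply, _root_.Matrix.cons_val', _root_.Matrix.cons_val_fin_one,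 Fin.isValue, _root_.Matrix.cons_val_zero, _root_.Matrix.cons_val_one, _root_.Matrix.cons_val, _root_.Matrix.SpecialLinearGroup.coe_one, _root_.mul_one, _root_.Matrix.cons_val_succ, _root_.IsEmpty.forall_iff, _root_.Matrix.one_apply_eq, _root_.MulZeroClass.zero_mul, _root_.Fin.succ_zero_eq_one, _root_.ne_eq, _root_.zero_ne_one, _root_.not_false_eq_true, _root_.Matrix.one_apply_ne, _root_.Fin.succ_one_eq_two, Fin.reduceEq, _root_.Fin.succ_ne_zero, _root_.and_true, _root_.true_and]) <;> (repeat' with_reducible apply And.intro)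
  · linear_combination hw
  · linear_combination (w ^ 3 + 1) * hw

theorem C_cube : (Cm : Matrix.SpecialLinearGroup (Fin 3) F) ^ 3 = 1 := by
  apply Subtype.ext
  ext i j
  rw [pow_succ, pow_two, Matrix.SpecialLinearGroup.coe_mul, Matrix.SpecialLinearGroup.coe_mul]
  (revert i j; simp only [Cm, Matrix.mul_apply, Fin.sum_univ_three, _root_.Fin.forall_fin_succ, _root_.Matrix.cons_mul, _root_.Nat.succ_eq_add_one, Nat.reduceAdd, _root_.Matrix.vecMul_cons, _root_.Matrix.head_cons, _root_.zero_smul, _root_.Matrix.tail_cons, _root_.one_smul, _root_.Matrix.empty_vecMul, _root_.add_zero, _root_.zero_add, _root_.Matrix.empty_mul, _root_.Equiv.symm_apply_apply, _root_.Matrix.of_apply, _root_.Matrix.cons_val', _root_.Matrix.cons_val_fin_one, Fin.isValue, _root_.Matrix.cons_val_zero, _root_.Matrix.cons_val_one, _root_.Matrix.cons_val, _root_.Matrix.SpecialLinearGroup.coe_one, _root_.MulZeroClass.mul_zero, _root_.mul_one, _root_.Matrix.cons_val_succ,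 _root_.IsEmpty.forall_iff, _root_.and_true, _root_.Matrix.one_apply_eq, _root_.Fin.succ_zero_eq_one, _root_.ne_eq, _root_.zero_ne_one, _root_.not_false_eq_true, _root_.Matrix.one_apply_ne, _root_.Fin.succ_one_eq_two, Fin.reduceEq, _root_.and_self, _root_.Fin.succ_ne_zero, _root_.true_and])

/-- an automorphism of type `field` does not centralize `D` and `C` -/
theorem not_fix [Fintype F] (h4 : Fintype.card F = 4) {w : F} (h0 : w ≠ 0) (h1 : w ≠ 1) (hw : w ^ 3 = 1)
    (B : GL (Fin 3) F) {σ : F ≃+* F} (hσ : σ ≠ 1)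
    (hD : lift (cj B * fld σ) (pr (Dm w hw)) = pr (Dm w hw)) (hC : lift (cj B * fld σ) (pr Cm) = pr Cm) : False := by
  apply hσ
  apply sigma_ext h4 h0 h1
  change σ w = w
  set β : MulAut (Matrix.SpecialLinearGroup (Fin 3) F) := cj B * fld σ with hβ
  have hc : ∀ x : Matrix.SpecialLinearGroup (Fin 3) F, lift β (pr x) = pr x →
      ∃ z ∈ Subgroup.center (Matrix.SpecialLinearGroup (Fin 3) F), β x = x * z := by
    intro x hx
    rw [lift_pr] at hx
    have h2 : pr (x⁻¹ * β x) = 1 := by rw [map_mul, map_inv, hx, inv_mul_cancel]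
    exact ⟨_, (pr_eq_one_iff _).1 h2, by group⟩
  obtain ⟨z1, hz1, e1⟩ := hc _ hD
  obtain ⟨z2, hz2, e2⟩ := hc _ hC
  have h3 := congrArg β (C_mul_D w hw)
  rw [map_mul, map_mul, map_mul, e1, e2] at h3
  have hz1' := Subgroup.mem_center_iff.1 hz1
  have hz2' := Subgroup.mem_center_iff.1 hz2
  have h5 : Cm * z2 * (Dm w hw * z1) = Zm w hw * (Dm w hw * Cm) * (z1 * z2) := by
    rw [← C_mul_D w hw, hz2' Cm, ← hz1' z2]
    have : Cm * Dm w hw * (z2 * z1) = z2 * (Cm * Dm w hw) * z1 := by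
      rw [← mul_assoc, hz2' (Cm * Dm w hw)]
    rw [this]
    group
  have h6 : Dm w hw * z1 * (Cm * z2) = Dm w hw * Cm * (z1 * z2) := by
    have : z1 * Cm = Cm * z1 := (hz1' Cm).symm
    rw [mul_assoc (Dm w hw), ← mul_assoc z1, this]
    group
  rw [h5, h6, ← mul_assoc (β (Zm w hw))] at h3
  have h7 : Zm w hw = β (Zm w hw) := mul_right_cancel (mul_right_cancel h3)
  have h8 : (β (Zm w hw) : Matrix (Fin 3) (Fin 3) F) = (σ w) • (1 : Matrix (Fin 3) (Fin 3) F) := by
    rw [hβ, MulAut.mul_apply, coe_cj]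
    have h9 : (fld σ (Zm w hw) : Matrix (Fin 3) (Fin 3) F) = (σ w) • (1 : Matrix (Fin 3) (Fin 3) F) := by
      ext i j
      rw [coe_fld_apply]
      (revert i j; simp only [Zm, _root_.Fin.forall_fin_succ, _root_.Matrix.of_apply, _root_.Matrix.cons_val', _root_.Matrix.cons_val_fin_one, _root_.Matrix.smul_apply, _root_.smul_eq_mul, Fin.isValue, _root_.Matrix.cons_val_zero, _root_.Matrix.cons_val_succ, _root_.IsEmpty.forall_iff, _root_.and_true, _root_.Matrix.one_apply_eq, _root_.mul_one, _root_.map_zero, Nat.reduceAdd, _root_.Fin.succ_zero_eq_one, _root_.ne_eq, _root_.zero_ne_one, _root_.not_false_eq_true, _root_.Matrix.one_apply_ne, _root_.MulZeroClass.mul_zero, _root_.Fin.succ_one_eq_two, Fin.reduceEq, _root_.and_self, _root_.Fin.succ_ne_zero, _root_.EmbeddingLike.map_eq_zero_iff, _root_.zero_eq_mul, _root_.true_and, _root_.or_true])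
    rw [h9, Matrix.mul_smul, Matrix.smul_mul, mul_one, ← Units.val_mul, mul_inv_cancel, Units.val_one]
  have h10 := congrFun (congrFun h8 0) 0
  rw [← h7] at h10
  simpa [Zm] using h10.symm

end DC

/-! ### GOAL AUT -/

theorem goalAut : Cfsg.Agent.H155.TI.GoalAut := by
  intro X _ _ S _ ⟨F, _, _, h4, ⟨e⟩⟩ hcent h3
  classical
  let φ : X →* MulAut (Matrix.ProjectiveSpecialLinearGroup (Fin 3) F) :=
    (MulAut.congr e).toMonoidHom.comp (MulAut.conjNormal (H := S))
  have hφ : ∀ (g : X) (s : S), φ g (e s) = e (MulAut.conjNormal g s) := by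
    intro g s
    change (MulAut.congr e (MulAut.conjNormal g)) (e s) = _
    simp [MulAut.congr]
  have hφS : ∀ s : S, φ (s : X) = MulAut.conj (e s) := by
    intro s
    apply MulEquiv.ext
    intro x
    obtain ⟨t, rfl⟩ := e.surjective x
    rw [hφ, MulAut.conj_apply, ← map_inv, ← map_mul, ← map_mul]
    congr 1
  have hinj : Function.Injective φ := by
    rw [injective_iff_map_eq_one]
    intro g hg
    rw [← Subgroup.mem_bot, ← hcent, Subgroup.mem_centralizer_iff]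
    intro s hs
    have h1 := hφ g ⟨s, hs⟩
    rw [hg, MulAut.one_apply] at h1
    have h2 := congrArg Subtype.val (e.injective h1)
    rw [MulAut.conjNormal_apply] at h2
    change s = g * s * g⁻¹ at h2
    rw [eq_mul_inv_iff_mul_eq] at h2
    exact h2
  -- diagonal elements are in `S`
  have hdiag : ∀ (g : X) (A : GL (Fin 3) F), φ g = lift (cj A) → g ∈ S := by
    intro g A hg
    obtain ⟨s, hs⟩ := cube_inner h4 A
    have h1 : g ^ 3 = ((e.symm s : S) : X) := by
      apply hinj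
      rw [map_pow, hg, hs, hφS, MulEquiv.apply_symm_apply]
    have h2 : (QuotientGroup.mk' S g) ^ 3 = 1 := by
      rw [← map_pow, h1]
      exact (QuotientGroup.eq_one_iff _).2 (e.symm s).2
    have h5 : (QuotientGroup.mk' S g) = 1 := by
      rw [← orderOf_eq_one_iff]
      have h6 : orderOf (QuotientGroup.mk' S g) ∣ 3 := orderOf_dvd_of_pow_eq_one h2
      have h7 : orderOf (QuotientGroup.mk' S g) ∣ Nat.card (X ⧸ S) := orderOf_dvd_natCard _
      rcases (Nat.dvd_prime Nat.prime_three).1 h6 with h8 | h8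
      · exact h8
      · rw [h8] at h7
        exact absurd h7 h3
    exact (QuotientGroup.eq_one_iff _).1 h5
  have hsq : ∀ g : X, g * g ∈ S := by
    intro g
    obtain ⟨A, b, hg⟩ := exists_type (φ g)
    obtain ⟨A', hA'⟩ := tp_mul_cj b A
    apply hdiag _ (A * A')
    rw [map_mul, hg, ← map_mul, mul_assoc, ← mul_assoc (tp b), hA', mul_assoc (cj A'), tp_sq (sigma_sq h4 _), mul_one,
      map_mul cj]
  have hsame : ∀ (g g' : X) (A A' : GL (Fin 3) F) (b : (F ≃+* F) × Bool), φ g = lift (cj A * tp b) →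
      φ g' = lift (cj A' * tp b) → g⁻¹ * g' ∈ S := by
    intro g g' A A' b hg hg'
    have h1 : g' * g⁻¹ ∈ S := by
      apply hdiag _ (A' * A⁻¹)
      rw [map_mul, map_inv, hg, hg', ← map_inv, ← map_mul, _root_.mul_inv_rev, mul_assoc, ← mul_assoc (tp b),
        mul_inv_cancel, one_mul, map_mul cj, map_inv cj]
    have h2 := (inferInstance : S.Normal).conj_mem _ h1 g⁻¹
    have h5 : g⁻¹ * (g' * g⁻¹) * g⁻¹⁻¹ = g⁻¹ * g' := by group
    rwa [h5] at h2
  -- the type map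
  have ht : ∀ q : X ⧸ S, ∃ b : (F ≃+* F) × Bool, ∃ A : GL (Fin 3) F, φ q.out = lift (cj A * tp b) := by
    intro q
    obtain ⟨A, b, h⟩ := exists_type (φ q.out)
    exact ⟨b, A, h⟩
  choose f Af hf using ht
  have hfinj : Function.Injective f := by
    intro q q' h
    have h1 := hf q
    rw [h] at h1
    have h2 := hsame _ _ _ _ _ h1 (hf q')
    rw [← QuotientGroup.out_eq' q, ← QuotientGroup.out_eq' q']
    exact QuotientGroup.eq.2 h2
  have hfinF : Finite (F ≃+* F) := by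
    exact Finite.of_injective (fun σ : F ≃+* F => (σ : F → F)) DFunLike.coe_injective
  have hcardT : Nat.card ((F ≃+* F) × Bool) ≤ 4 := by
    rw [Nat.card_prod]
    have := card_sigma (F := F) h4
    have h5 : Nat.card Bool = 2 := by simp
    rw [h5]
    omega
  have hle : S.index ≤ 4 := (Nat.card_le_card_of_injective f hfinj).trans hcardT
  have hne : S.index ≠ 0 := Subgroup.index_ne_zero_of_finite
  have h3' : S.index ≠ 3 := by
    rintro h
    rw [h] at h3
    exact h3 (dvd_refl 3)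
  have hcase : S.index = 1 ∨ S.index = 2 ∨ S.index = 4 := by omega
  rcases hcase with h | h | hidx
  · exact Or.inl h
  · exact Or.inr (Or.inl h)
  refine Or.inr (Or.inr ⟨hidx, hsq, ?_⟩)
  -- index 4
  have hcardT' : Nat.card (X ⧸ S) = Nat.card ((F ≃+* F) × Bool) := by
    apply le_antisymm (Nat.card_le_card_of_injective f hfinj)
    change _ ≤ S.index
    rw [hidx]
    exact hcardT
  have hfbij : Function.Bijective f := (Nat.bijective_iff_injective_and_card f).2 ⟨hfinj, hcardT'⟩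
  have hσ : ∃ σ : F ≃+* F, σ ≠ 1 := by
    by_contra hcon
    push Not at hcon
    have h1 : Nat.card (F ≃+* F) ≤ 1 := by
      have : Subsingleton (F ≃+* F) := ⟨fun a b => by rw [hcon a, hcon b]⟩
      exact Finite.card_le_one_iff_subsingleton.2 this
    have h2 : Nat.card (X ⧸ S) = 4 := hidx
    rw [hcardT', Nat.card_prod] at h2
    have h5 : Nat.card Bool = 2 := by simp
    rw [h5] at h2
    omega
  obtain ⟨σ, hσ⟩ := hσ
  obtain ⟨q, hq⟩ := hfbij.2 (σ, false)
  have hg0 := hf q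
  rw [hq] at hg0
  have htp : tp (σ, false) = fld σ := by
    unfold tp
    rw [if_neg (by simp), mul_one]
  rw [htp] at hg0
  intro Q
  refine ⟨q.out, ?_⟩
  by_contra hcon
  push Not at hcon
  obtain ⟨s, hs, hcon⟩ := hcon
  obtain ⟨w, h0, h1⟩ := exists_w h4
  have hw : w ^ 3 = 1 := by
    have := FiniteField.pow_card_sub_one_eq_one w h0
    rwa [h4] at this
  -- the 3-subgroup
  set a : X := ((e.symm (pr (Dm w hw)) : S) : X) with ha
  set b : X := ((e.symm (pr Cm) : S) : X) with hb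
  have hab : a * b = b * a := by
    have hz : pr (Zm w hw) = 1 := (pr_eq_one_iff (Zm w hw)).2 (Subgroup.mem_center_iff.2 fun g => (Zm_central w hw g).symm)
    have hcd : pr Cm * pr (Dm w hw) = pr (Dm w hw) * pr Cm := by
      rw [← map_mul pr Cm, C_mul_D w hw, map_mul pr (Zm w hw), hz, one_mul, map_mul]
    rw [ha, hb, ← Subgroup.coe_mul, ← Subgroup.coe_mul, ← map_mul e.symm, ← map_mul e.symm, hcd]
  have ha3 : a ^ 3 = 1 := by
    rw [ha, ← Subgroup.coe_pow, ← map_pow, ← map_pow, D_cube, map_one, map_one, Subgroup.coe_one]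
  have hb3 : b ^ 3 = 1 := by
    rw [hb, ← Subgroup.coe_pow, ← map_pow, ← map_pow, C_cube, map_one, map_one, Subgroup.coe_one]
  have : Fact (Nat.Prime 3) := ⟨Nat.prime_three⟩
  have hpg : ∀ y : X, y ^ 3 = 1 → IsPGroup 3 (Subgroup.zpowers y) := by
    intro y hy
    rw [IsPGroup.iff_card]
    have h5 : Nat.card (Subgroup.zpowers y) ∣ 3 := by
      rw [Nat.card_zpowers]
      exact orderOf_dvd_of_pow_eq_one hy
    rcases (Nat.dvd_prime Nat.prime_three).1 h5 with h6 | h6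
    · exact ⟨0, by rw [h6, pow_zero]⟩
    · exact ⟨1, by rw [h6, pow_one]⟩
  have hpab : IsPGroup 3 (Subgroup.zpowers a ⊔ Subgroup.zpowers b : Subgroup X) := by
    refine IsPGroup.to_sup_of_normal_right' (hpg a ha3) (hpg b hb3) ?_
    rw [Subgroup.zpowers_le, Subgroup.mem_normalizer_iff]
    intro y
    have hcm : ∀ k : ℤ, a * b ^ k * a⁻¹ = b ^ k := by
      intro k
      have : Commute a (b ^ k) := (show Commute a b from hab).zpow_right k
      rw [this.eq, mul_inv_cancel_right]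
    constructor
    · intro hy
      obtain ⟨k, rfl⟩ := Subgroup.mem_zpowers_iff.1 hy
      rw [hcm]
      exact hy
    · intro hy
      obtain ⟨k, hk⟩ := Subgroup.mem_zpowers_iff.1 hy
      have h5 : y = a⁻¹ * (b ^ k) * a := by rw [hk]; group
      have h6 : y = b ^ k := by
        rw [h5]
        nth_rewrite 1 [← hcm k]
        group
      rw [h6]
      exact Subgroup.mem_zpowers_iff.2 ⟨k, rfl⟩
  obtain ⟨R, hR⟩ := hpab.exists_le_sylow
  obtain ⟨x, hx⟩ := MulAction.exists_smul_eq X R Q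
  have hmem : ∀ y ∈ (R : Subgroup X), x * y * x⁻¹ ∈ (Q : Subgroup X) := by
    intro y hy
    rw [← hx]
    exact ⟨y, hy, rfl⟩
  have haR : a ∈ (R : Subgroup X) := hR (Subgroup.mem_sup_left (Subgroup.mem_zpowers a))
  have hbR : b ∈ (R : Subgroup X) := hR (Subgroup.mem_sup_right (Subgroup.mem_zpowers b))
  set g : X := q.out with hg
  -- `x⁻¹ (s g) x = s' g`
  set s' : X := x⁻¹ * (s * g) * x * g⁻¹ with hs'
  have hs'S : s' ∈ S := by
    have h5 : QuotientGroup.mk' S s' = 1 := by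
      have hcomm : ∀ u v : X ⧸ S, u * v = v * u := by
        have hsq' : ∀ u : X ⧸ S, u * u = 1 := by
          intro u
          obtain ⟨u, rfl⟩ := QuotientGroup.mk'_surjective S u
          rw [← map_mul]
          exact (QuotientGroup.eq_one_iff _).2 (hsq u)
        intro u v
        have h6 : ∀ u : X ⧸ S, u⁻¹ = u := fun u => inv_eq_of_mul_eq_one_left (hsq' u)
        rw [← h6 (u * v), _root_.mul_inv_rev, h6, h6]
      have hs1 : QuotientGroup.mk' S s = 1 := (QuotientGroup.eq_one_iff _).2 hs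
      rw [hs', map_mul, map_mul, map_mul, map_mul, hs1, one_mul, map_inv, map_inv,
        hcomm (QuotientGroup.mk' S x)⁻¹ (QuotientGroup.mk' S g), mul_assoc (QuotientGroup.mk' S g), inv_mul_cancel, mul_one,
        mul_inv_cancel]
    exact (QuotientGroup.eq_one_iff _).1 h5
  have hcen : ∀ y ∈ (R : Subgroup X), s' * g * y * (s' * g)⁻¹ = y := by
    intro y hy
    have h5 := hcon _ (hmem y hy)
    have h6 : s' * g = x⁻¹ * (s * g) * x := by rw [hs']; group
    rw [h6]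
    have h7 : x⁻¹ * (s * g) * x * y * (x⁻¹ * (s * g) * x)⁻¹ =
        x⁻¹ * (s * g * (x * y * x⁻¹)) * (s * g)⁻¹ * x := by group
    rw [h7, h5]
    group
  obtain ⟨v, hv⟩ := pr_surjective (e ⟨s', hs'S⟩)
  let vG : GL (Fin 3) F := Matrix.SpecialLinearGroup.toGL v
  have hφg : φ (s' * g) = lift (cj (vG * Af q) * fld σ) := by
    rw [map_mul, hg0]
    have h5 : φ s' = lift (cj vG) := by
      rw [lift_cj_of_det (A := vG) v rfl, lift_conj, hv]
      exact hφS ⟨s', hs'S⟩
    rw [h5, ← map_mul, map_mul cj, mul_assoc]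
  have hfix : ∀ t : S, (t : X) ∈ (R : Subgroup X) → φ (s' * g) (e t) = e t := by
    intro t ht
    rw [hφ]
    congr 1
    apply Subtype.ext
    rw [MulAut.conjNormal_apply]
    exact hcen _ ht
  have hD := hfix (e.symm (pr (Dm w hw))) haR
  have hC := hfix (e.symm (pr Cm)) hbR
  rw [MulEquiv.apply_symm_apply, hφg] at hD hC
  exact not_fix h4 h0 h1 hw _ hσ hD hC

end Cfsg.Agent.H315.TI

private theorem dce_cce05d9363a0 : _root_.True := by
  try have : _root_.True := by simp only [_root_.Cfsg.Agent.H315.TI.Cm.eq_1]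
  try have : _root_.True := by simp only [_root_.Cfsg.Agent.H315.TI.Dm.eq_1]
  try have : _root_.True := by simp only [_root_.Cfsg.Agent.H315.TI.Dm.congr_simp]
  try have : _root_.True := by simp only [_root_.Cfsg.Agent.H315.TI.Zm.eq_1]
  exact _root_.True.intro
end
end

-- part: H155/TI/Main
section
prune_inst 0x8000000000000000000000000000000000000
set_option linter.all false
open scoped Cfsg.Agent.FastGrp

-- part: H155/TI/Four
section
/-!
# The row `PSL₃(4)`: the index 4 step (helper155)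

`A → B → W`, both of index 2; `c ∈ B \ A`, `r ∈ W \ B` commute with `x`, `r c r⁻¹ = zr c`.
-/

set_option autoImplicit false
set_option linter.unusedSectionVars false

namespace Cfsg.Agent.H155.TI

open Cfsg Cfsg.Agent.Characters.Core Cfsg.Agent.Characters.Clifford
open Cfsg.Agent.H41.TI (count_pair res_cases exists_ext over_iff tr eqv coe_eqv inv_tr nrm card_gen conj_eq)

universe u

section gen

variable {Z A W : Type u} [Group Z] [Group A] [Group W] [Finite W] {j : Z →* A} {i : A →* W} {lam : Z →* ℂˣ}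
  {x : A} {c : W}

/-- the counting lemma, hom version -/
theorem card_genh (h : Pair j i) (hc : c ∉ i.range) (DW : IrrCharacter W → Prop) (DA : IrrCharacter A → Prop)
    (hD : ∀ (χ : IrrCharacter W) (η : IrrCharacter A) (_ : Fintype A),
      classInner (fun t => (χ : W → ℂ) (i t)) (η : A → ℂ) ≠ 0 → (DW χ ↔ DA η)) :
    2 * Nat.card {χ : IrrCharacter W // DW χ} =
      4 * Nat.card {η : IrrCharacter A // DA η ∧ Inv i c (η : A → ℂ)} +
      Nat.card {η : IrrCharacter A // DA η ∧ ¬ Inv i c (η : A → ℂ)} := by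
  classical
  have := nrm h
  have : Finite A := Finite.of_injective i h.ii
  have := Fintype.ofFinite A
  have := Fintype.ofFinite i.range
  have h0 := card_gen (W := W) (N := i.range) h.idx DW (fun ψ => DA (tr h ψ)) (by
    intro χ ψ hne
    refine hD χ (tr h ψ) inferInstance ?_
    have h2 := classInner_comp_mulEquiv (eqv h) (fun n : i.range => (χ : W → ℂ) n) (ψ : i.range → ℂ)
    rw [← h2] at hne
    exact hne)
  rw [h0]
  congr 1
  · congr 1
    refine Nat.card_congr (Equiv.subtypeEquiv (tr h) fun ψ => ?_)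
    rw [inv_tr h hc ψ]
  · refine Nat.card_congr (Equiv.subtypeEquiv (tr h) fun ψ => ?_)
    rw [inv_tr h hc ψ]

/-- equality of irreducible characters from a non-zero inner product -/
theorem eq_of_inner [Fintype A] (η η' : IrrCharacter A) (h : classInner (η : A → ℂ) (η' : A → ℂ) ≠ 0) : η = η' := by
  by_contra hne
  exact h (classInner_irr_ne η.2 η'.2 fun h2 => hne (Subtype.ext h2))

/-- the two cases for a character of `W` and a constituent of the restriction -/
theorem cases_of_inner (h : Pair j i) (hc : c ∉ i.range) (χ : IrrCharacter W) (η : IrrCharacter A) [Fintype A]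
    (hne : classInner (fun t => (χ : W → ℂ) (i t)) (η : A → ℂ) ≠ 0) :
    ((∀ t, (χ : W → ℂ) (i t) = (η : A → ℂ) t) ∧ Inv i c (η : A → ℂ)) ∨
    ((∀ w, w ∉ i.range → (χ : W → ℂ) w = 0) ∧ ¬ Inv i c (η : A → ℂ) ∧
      ∀ t t', i t' = c * i t * c⁻¹ → (χ : W → ℂ) (i t) = (η : A → ℂ) t + (η : A → ℂ) t') := by
  classical
  have := nrm h
  rcases res_cases h hc χ with ⟨h1, h2⟩ | ⟨h1, η₁, η₂, hne', hs, hcj, hinv⟩
  · left
    have h3 := eq_of_inner ⟨_, h1⟩ η hne
    have h4 : (fun t => (χ : W → ℂ) (i t)) = (η : A → ℂ) := congrArg Subtype.val h3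
    exact ⟨fun t => congrFun h4 t, by rw [← h4]; exact h2⟩
  · right
    have hnorm : ∀ t, ∃ t', i t' = c * i t * c⁻¹ := by
      intro t
      have h3 : c * i t * c⁻¹ ∈ i.range := (nrm h).conj_mem _ ⟨t, rfl⟩ c
      exact h3
    have hnorm' : ∀ t, ∃ t', i t = c * i t' * c⁻¹ := by
      intro t
      have h3 : c⁻¹ * i t * c⁻¹⁻¹ ∈ i.range := (nrm h).conj_mem _ ⟨t, rfl⟩ c⁻¹
      obtain ⟨t', ht'⟩ := h3
      exact ⟨t', by rw [ht']; group⟩
    have e1 : (fun t => (χ : W → ℂ) (i t)) = (η₁ : A → ℂ) + (η₂ : A → ℂ) := funext hs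
    rw [e1, classInner_add_left] at hne
    have hcc : ∀ t t' t'', i t' = c * i t * c⁻¹ → i t'' = c * i t' * c⁻¹ → (η₁ : A → ℂ) t'' = (η₁ : A → ℂ) t := by
      intro t t' t'' ht ht'
      have hcc2 : c * c ∈ i.range := by
        rw [Subgroup.mul_mem_iff_of_index_two h.idx]
      obtain ⟨s, hs'⟩ := hcc2
      have h4 : t'' = s * t * s⁻¹ := by
        apply h.ii
        rw [ht', ht, map_mul, map_mul, map_inv, hs']
        group
      rw [h4]
      exact isIrr_isClassFunction η₁.2 t s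
    by_cases h3 : classInner (η₁ : A → ℂ) (η : A → ℂ) = 0
    · rw [h3, zero_add] at hne
      have h4 := eq_of_inner η₂ η hne
      subst h4
      refine ⟨h1, fun hi => hinv ?_, fun t t' ht => ?_⟩
      · intro a a' ha
        obtain ⟨b, hb⟩ := hnorm' a
        -- η₁ a = η₂ b, η₁ a' = η₂ a
        rw [hcj a a' ha, hcj b a hb]
        exact hi b a hb
      · rw [hs t]
        obtain ⟨t'', ht''⟩ := hnorm t'
        have h5 := hcj t' t'' ht''
        have h6 := hcc t t' t'' ht ht''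
        rw [add_comm]
        congr 1
        rw [← h5, h6]
    · have h4 := eq_of_inner η₁ η h3
      subst h4
      refine ⟨h1, hinv, fun t t' ht => ?_⟩
      rw [hs t, hcj t t' ht]

end gen

section four

variable {Z A B W : Type u} [Group Z] [Group A] [Group B] [Group W] [Finite W] {j : Z →* A} {i : A →* B} {k : B →* W}
  {lam : Z →* ℂˣ} {x : A} {c : B} {r : W} {zr : Z}

/-- the elements -/
structure Quad (j : Z →* A) (i : A →* B) (k : B →* W) (x : A) (c : B) (r : W) (zr : Z) : Prop where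
  h1 : Pair j i
  h2 : Pair (i.comp j) k
  cB : c ∉ i.range
  rW : r ∉ k.range
  cx : c * i x = i x * c
  rx : r * k (i x) = k (i x) * r
  rc : r * k c * r⁻¹ = k (i (j zr)) * k c
  cc : ∃ z, c * c = i (j z)
  nA : ∀ a, ∃ a', k (i a') = r * k (i a) * r⁻¹

variable (q : Quad j i k x c r zr)
include q

theorem Quad.finB : Finite B := Finite.of_injective k q.h2.ii

theorem Quad.finA : Finite A := by
  have := q.finB
  exact Finite.of_injective i q.h1.ii

/-- conjugation by `r` on `B` -/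
theorem Quad.exists_conj : ∃ ρ : B ≃* B, ∀ b, k (ρ b) = r * k b * r⁻¹ := by
  have := nrm q.h2
  have h1 : ∀ b, r * k b * r⁻¹ ∈ k.range := fun b => (nrm q.h2).conj_mem _ ⟨b, rfl⟩ r
  have h2 : ∀ b, r⁻¹ * k b * r⁻¹⁻¹ ∈ k.range := fun b => (nrm q.h2).conj_mem _ ⟨b, rfl⟩ r⁻¹
  choose f hf using h1
  choose g hg using h2
  refine ⟨{ toFun := f, invFun := g, left_inv := fun b => ?_, right_inv := fun b => ?_, map_mul' := fun a b => ?_ }, hf⟩
  · apply q.h2.ii
    rw [hg, hf]; group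
  · apply q.h2.ii
    rw [hf, hg]; group
  · apply q.h2.ii
    rw [hf, map_mul, map_mul, hf, hf]; group

theorem Quad.val_rc (χ : B → ℂ) (hχ : Over (i.comp j) lam χ) (hi : Inv k r χ) :
    (lam zr : ℂ) * χ (i x * c) = χ (i x * c) := by
  have h1 : k (i (j zr) * (i x * c)) = r * k (i x * c) * r⁻¹ := by
    rw [map_mul, map_mul]
    have h3 : r * (k (i x) * k c) * r⁻¹ = (r * k (i x)) * (k c * r⁻¹) := by group
    rw [h3, q.rx]
    have h4 : k (i x) * r * (k c * r⁻¹) = k (i x) * (r * k c * r⁻¹) := by group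
    rw [h4, q.rc, ← mul_assoc, ← mul_assoc]
    congr 1
    exact q.h2.cen zr (k (i x))
  have h2 := hi _ _ h1
  have h5 := hχ zr (i x * c)
  rw [MonoidHom.comp_apply, h2] at h5
  exact h5.symm

/-- `r`-conjugate of a character of `B` that extends an `r`-invariant character and does not vanish at `x c` -/
theorem Quad.inv_of_ext (hz : lam zr = 1) (χ : IrrCharacter B) (hχ : Over (i.comp j) lam (χ : B → ℂ))
    (η : IrrCharacter A) (he : ∀ t, (χ : B → ℂ) (i t) = (η : A → ℂ) t) (hη : Inv (k.comp i) r (η : A → ℂ))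
    (hc : (χ : B → ℂ) (i x * c) ≠ 0) : Inv k r (χ : B → ℂ) := by
  classical
  have := q.finB
  obtain ⟨ρ, hρ⟩ := q.exists_conj
  have hηc : Inv i c (η : A → ℂ) := by
    intro a a' ha
    rw [← he, ← he, ha]
    exact isIrr_isClassFunction χ.2 _ _
  let χ' : IrrCharacter B := ⟨(χ : B → ℂ) ∘ ρ, isIrr_comp ρ.toMonoidHom ρ.surjective χ.2⟩
  have he' : ∀ t, (χ' : B → ℂ) (i t) = (η : A → ℂ) t := by
    intro t
    obtain ⟨t', ht'⟩ := q.nA t
    have h1 : ρ (i t) = i t' := by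
      apply q.h2.ii
      rw [hρ, ht']
    change (χ : B → ℂ) (ρ (i t)) = _
    rw [h1, he]
    exact hη t t' ht'
  obtain ⟨χ₁, χ₂, hne, h1, h2, h3, h4⟩ := exists_ext q.h1 q.cB η hηc
  have hval : (χ' : B → ℂ) (i x * c) = (χ : B → ℂ) (i x * c) := by
    change (χ : B → ℂ) (ρ (i x * c)) = _
    have h5 : ρ (i x * c) = i (j zr) * (i x * c) := by
      apply q.h2.ii
      rw [hρ, map_mul, map_mul, map_mul]
      have h3 : r * (k (i x) * k c) * r⁻¹ = (r * k (i x)) * (k c * r⁻¹) := by group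
      rw [h3, q.rx]
      have h4 : k (i x) * r * (k c * r⁻¹) = k (i x) * (r * k c * r⁻¹) := by group
      rw [h4, q.rc, ← mul_assoc, ← mul_assoc]
      congr 1
      exact (q.h2.cen zr (k (i x))).symm
    rw [h5]
    have h6 := hχ zr (i x * c)
    rw [MonoidHom.comp_apply, hz, Units.val_one, one_mul] at h6
    exact h6
  have hxc : i x * c ∉ i.range := by
    intro h5
    have hxr : i x ∈ i.range := ⟨x, rfl⟩
    exact q.cB ((Subgroup.mul_mem_cancel_left _ hxr).1 h5)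
  have heq : χ' = χ := by
    rcases h4 χ' he' with h5 | h5 <;> rcases h4 χ he with h6 | h6
    · rw [h5, h6]
    · exfalso
      have h7 := h3 _ hxc
      rw [← h5, ← h6] at h7
      rw [hval] at h7
      exact hc (by linear_combination h7 / 2)
    · exfalso
      have h7 := h3 _ hxc
      rw [← h5, ← h6] at h7
      rw [hval] at h7
      exact hc (by linear_combination h7 / 2)
    · rw [h5, h6]
  intro a a' ha
  have h5 : a' = ρ a := by
    apply q.h2.ii
    rw [ha, hρ]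
  rw [h5]
  have h6 : (χ' : B → ℂ) a = (χ : B → ℂ) a := by rw [heq]
  exact h6

/-- **neutral, `β ≠ 1`** -/
theorem Quad.neu_neg (hz : lam zr ≠ 1) (hnv : ∀ χ : IrrCharacter B, Over (i.comp j) lam (χ : B → ℂ) →
      (χ : B → ℂ) (i x) ≠ 0 → (χ : B → ℂ) (i x * c) ≠ 0) (hn : nz (i.comp j) lam (i x) = 12) :
    nz (k.comp (i.comp j)) lam (k (i x)) = 6 := by
  classical
  have := q.finB
  have := finite_irr (G := B)
  have h1 := count_pair q.h2 q.rW lam q.rx
  have h2 : Nat.card {χ : IrrCharacter B // Over (i.comp j) lam (χ : B → ℂ) ∧ (χ : B → ℂ) (i x) ≠ 0 ∧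
      Inv k r (χ : B → ℂ)} = 0 := by
    apply Nat.card_eq_zero.2
    left
    constructor
    rintro ⟨χ, hχ, hx, hi⟩
    have h3 := q.val_rc (lam := lam) _ hχ hi
    have h4 := hnv χ hχ hx
    apply hz
    apply Units.ext
    rw [Units.val_one]
    apply mul_right_cancel₀ h4
    rw [h3, one_mul]
  have h3 : Nat.card {χ : IrrCharacter B // Over (i.comp j) lam (χ : B → ℂ) ∧ (χ : B → ℂ) (i x) ≠ 0 ∧
      ¬ Inv k r (χ : B → ℂ)} = nz (i.comp j) lam (i x) := by
    refine Nat.card_congr ⟨fun χ => ⟨χ.1, χ.2.1, χ.2.2.1⟩, fun χ => ⟨χ.1, χ.2.1, χ.2.2, fun hi => ?_⟩,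
      fun χ => rfl, fun χ => rfl⟩
    have : IsEmpty {χ : IrrCharacter B // Over (i.comp j) lam (χ : B → ℂ) ∧ (χ : B → ℂ) (i x) ≠ 0 ∧
      Inv k r (χ : B → ℂ)} := by
      rcases Nat.card_eq_zero.1 h2 with h | h
      · exact h
      · exact absurd (inferInstance : Finite _) (not_finite_iff_infinite.2 h)
    exact this.elim ⟨χ.1, χ.2.1, χ.2.2, hi⟩
  rw [h2, h3, hn] at h1
  omega

omit q in
theorem split_card {X : Type u} [Finite X] (D I : X → Prop) :
    Nat.card {χ // D χ} = Nat.card {χ // D χ ∧ I χ} + Nat.card {χ // D χ ∧ ¬ I χ} := by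
  classical
  rw [← Nat.card_sum]
  refine Nat.card_congr ⟨fun η => if h : I η.1 then Sum.inl ⟨η.1, η.2, h⟩ else
    Sum.inr ⟨η.1, η.2, h⟩, fun t => t.elim (fun η => ⟨η.1, η.2.1⟩) (fun η => ⟨η.1, η.2.1⟩),
    fun η => ?_, fun t => ?_⟩
  · by_cases h : I η.1
    · simp only [h, ↓reduceDIte, Sum.elim_inl]
    · simp only [h, ↓reduceDIte, Sum.elim_inr]
  · rcases t with η | η
    · have h := η.2.2
      simp only [Sum.elim_inl, h, ↓reduceDIte]
    · have h := η.2.2
      simp only [Sum.elim_inr, h, ↓reduceDIte]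

omit q in
theorem card_congr_iff {X : Type u} {D E : X → Prop} (h : ∀ χ, D χ ↔ E χ) :
    Nat.card {χ // D χ} = Nat.card {χ // E χ} :=
  Nat.card_congr (Equiv.subtypeEquivRight h)

omit q in
theorem card_zero_iff {X : Type u} [Finite X] {D : X → Prop} (h : ∀ χ, ¬ D χ) : Nat.card {χ // D χ} = 0 := by
  apply Nat.card_eq_zero.2
  left
  exact ⟨fun χ => h χ.1 χ.2⟩

/-- the restriction of an invariant character -/
theorem Quad.inv_res (χ : IrrCharacter B) (η : IrrCharacter A) (he : ∀ t, (χ : B → ℂ) (i t) = (η : A → ℂ) t)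
    (hi : Inv k r (χ : B → ℂ)) : Inv (k.comp i) r (η : A → ℂ) := by
  intro a a' ha
  rw [← he, ← he]
  exact hi _ _ ha

/-- value at `x` of a character vanishing off `A` -/
theorem Quad.val_off (χ : IrrCharacter B) (η : IrrCharacter A)
    (h : ∀ t t', i t' = c * i t * c⁻¹ → (χ : B → ℂ) (i t) = (η : A → ℂ) t + (η : A → ℂ) t') :
    (χ : B → ℂ) (i x) = 2 * (η : A → ℂ) x := by
  rw [h x x (by rw [q.cx, mul_inv_cancel_right]), two_mul]

/-- **neutral, `β = 1`** -/
theorem Quad.neu_pos (hz : lam zr = 1) (hnv : ∀ χ : IrrCharacter B, Over (i.comp j) lam (χ : B → ℂ) →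
      (χ : B → ℂ) (i x) ≠ 0 → (χ : B → ℂ) (i x * c) ≠ 0) (hn : nz (i.comp j) lam (i x) = 12)
    (hall : ∀ η : IrrCharacter A, Over j lam (η : A → ℂ) → (η : A → ℂ) x ≠ 0 → Inv i c (η : A → ℂ))
    (hf : Nat.card {η : IrrCharacter A // Over j lam (η : A → ℂ) ∧ (η : A → ℂ) x ≠ 0 ∧ Inv (k.comp i) r (η : A → ℂ)} = 4) :
    nz (k.comp (i.comp j)) lam (k (i x)) = 18 := by
  classical
  have := q.finB
  have := q.finA
  have := finite_irr (G := B)
  have := finite_irr (G := A)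
  have h1 := count_pair q.h2 q.rW lam q.rx
  have h3 := card_genh q.h1 q.cB
    (fun χ => Over (i.comp j) lam (χ : B → ℂ) ∧ (χ : B → ℂ) (i x) ≠ 0 ∧ Inv k r (χ : B → ℂ))
    (fun η => Over j lam (η : A → ℂ) ∧ (η : A → ℂ) x ≠ 0 ∧ Inv (k.comp i) r (η : A → ℂ)) (by
      intro χ η _ hne
      rw [over_iff q.h1 χ η _ lam hne]
      refine and_congr_right fun ho => ?_
      rcases cases_of_inner q.h1 q.cB χ η hne with ⟨h4, h5⟩ | ⟨h4, h5, h6⟩
      · rw [h4]
        refine and_congr_right fun hx => ⟨fun hi => q.inv_res χ η h4 hi, fun hi => ?_⟩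
        have hχo := (over_iff q.h1 χ η _ lam hne).2 ho
        exact q.inv_of_ext hz χ hχo η h4 hi (hnv χ hχo (by rw [h4]; exact hx))
      · have h7 : (η : A → ℂ) x = 0 := by
          by_contra hx
          exact h5 (hall η ho hx)
        rw [q.val_off χ η h6, h7, mul_zero]
        simp)
  have h5 : Nat.card {η : IrrCharacter A // (Over j lam (η : A → ℂ) ∧ (η : A → ℂ) x ≠ 0 ∧
      Inv (k.comp i) r (η : A → ℂ)) ∧ Inv i c (η : A → ℂ)} = 4 := by
    rw [← hf]
    exact card_congr_iff fun η => ⟨fun h => h.1, fun h => ⟨h, hall η h.1 h.2.1⟩⟩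
  have h6 : Nat.card {η : IrrCharacter A // (Over j lam (η : A → ℂ) ∧ (η : A → ℂ) x ≠ 0 ∧
      Inv (k.comp i) r (η : A → ℂ)) ∧ ¬ Inv i c (η : A → ℂ)} = 0 :=
    card_zero_iff fun η h => h.2 (hall η h.1.1 h.1.2.1)
  rw [h5, h6] at h3
  have h7 : Nat.card {χ : IrrCharacter B // Over (i.comp j) lam (χ : B → ℂ) ∧ (χ : B → ℂ) (i x) ≠ 0} = 12 := hn
  have h8 := split_card (fun χ : IrrCharacter B => Over (i.comp j) lam (χ : B → ℂ) ∧ (χ : B → ℂ) (i x) ≠ 0)
    (fun χ => Inv k r (χ : B → ℂ))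
  simp only [and_assoc] at h8
  rw [h7] at h8
  omega

end four

end Cfsg.Agent.H155.TI
end

-- part: H155/TI/Fus
section
/-!
# The row `PSL₃(4)`: fusion (helper155)
-/

set_option autoImplicit false
set_option linter.unusedSectionVars false

namespace Cfsg.Agent.H155.TI

open Cfsg
open scoped Pointwise

universe u

/-- Sylow conjugacy inside a subgroup -/
theorem conj_in {Γ : Type u} [Group Γ] [Finite Γ] {p : ℕ} [Fact p.Prime] (C P₁ P₂ : Subgroup Γ) (h1 : P₁ ≤ C) (h2 : P₂ ≤ C)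
    (hp1 : IsPGroup p P₁) (hp2 : IsPGroup p P₂) (hi1 : ¬ p ∣ P₁.index) (hi2 : ¬ p ∣ P₂.index) :
    ∃ c ∈ C, ∀ y, y ∈ P₁ ↔ c * y * c⁻¹ ∈ P₂ := by
  have key : ∀ Q : Subgroup Γ, Q ≤ C → IsPGroup p Q → ¬ p ∣ Q.index →
      ∃ S : Sylow p C, (S : Subgroup C) = Q.subgroupOf C := by
    intro Q hQ hpQ hiQ
    have h3 : IsPGroup p (Q.subgroupOf C) :=
      hpQ.of_injective (Subgroup.subgroupOfEquivOfLe hQ).toMonoidHom (Subgroup.subgroupOfEquivOfLe hQ).injective
    refine ⟨h3.toSylow (fun h => hiQ ?_), rfl⟩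
    exact h.trans (Subgroup.relIndex_dvd_index_of_le hQ)
  obtain ⟨S₁, hS₁⟩ := key P₁ h1 hp1 hi1
  obtain ⟨S₂, hS₂⟩ := key P₂ h2 hp2 hi2
  obtain ⟨c, hc⟩ := MulAction.exists_smul_eq C S₁ S₂
  refine ⟨c, c.2, fun y => ?_⟩
  have h3 : ∀ y : C, y ∈ (S₁ : Subgroup C) ↔ c * y * c⁻¹ ∈ (S₂ : Subgroup C) := by
    intro y
    rw [← hc, Sylow.coe_subgroup_smul, Subgroup.mem_pointwise_smul_iff_inv_smul_mem]
    have h4 : (MulAut.conj c)⁻¹ • (c * y * c⁻¹) = y := by
      rw [← map_inv, MulAut.smul_def, MulAut.conj_apply]; group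
    rw [h4]
  constructor
  · intro hy
    have h4 := (h3 ⟨y, h1 hy⟩).1 (by rw [hS₁]; exact hy)
    rw [hS₂] at h4
    exact h4
  · intro hy
    have h5 : c * y * (c : Γ)⁻¹ ∈ C := h2 hy
    have h6 : y ∈ C := by
      have : y = (c : Γ)⁻¹ * (c * y * (c : Γ)⁻¹) * c := by group
      rw [this]
      exact mul_mem (mul_mem (inv_mem c.2) h5) c.2
    have h4 := (h3 ⟨y, h6⟩).2 (by rw [hS₂]; exact hy)
    rw [hS₁] at h4
    exact h4

variable {Γ : Type u} [Group Γ] {Z L P H : Subgroup Γ} {x d a b : Γ}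

namespace Frame

variable (F : Frame Z L P H x d a b)
include F

theorem pgroup : IsPGroup 3 P := IsPGroup.of_card (n := 2) (by rw [F.Pc]; rfl)

/-- `l⁻¹ e l ∈ Z e` for `l ∈ H ∩ L`, `e` centralizing `P` -/
theorem comm_mod {e l : Γ} (heH : e ∈ H) (heP : ∀ y ∈ P, e * y = y * e) (hlH : l ∈ H) (hlL : l ∈ L) :
    ∃ z : Z, l * e * l⁻¹ = z * e := by
  have h1 : l * e * l⁻¹ * e⁻¹ ∈ Z := by
    refine F.cH _ (mul_mem (mul_mem (mul_mem hlH heH) (inv_mem hlH)) (inv_mem heH)) ?_ x F.xP F.x1 ?_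
    · have : l * e * l⁻¹ * e⁻¹ = l * (e * l⁻¹ * e⁻¹) := by group
      rw [this]
      exact mul_mem hlL (F.Ln.conj_mem _ (inv_mem hlL) _)
    · have h2 : ∀ y ∈ P, l * e * l⁻¹ * e⁻¹ * y = y * (l * e * l⁻¹ * e⁻¹) := by
        intro y hy
        have h3 : l⁻¹ * y * l⁻¹⁻¹ ∈ P := (Subgroup.mem_normalizer_iff.1 (F.HN (inv_mem hlH)) _).1 hy
        have h4 := heP _ h3
        have h5 : e⁻¹ * y = y * e⁻¹ := by
          rw [inv_mul_eq_iff_eq_mul, ← mul_assoc, heP y hy, mul_inv_cancel_right]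
        calc l * e * l⁻¹ * e⁻¹ * y = l * e * l⁻¹ * (e⁻¹ * y) := by group
          _ = l * (e * (l⁻¹ * y * l⁻¹⁻¹)) * l⁻¹ * e⁻¹ := by rw [h5]; group
          _ = l * ((l⁻¹ * y * l⁻¹⁻¹) * e) * l⁻¹ * e⁻¹ := by rw [h4]
          _ = y * (l * e * l⁻¹ * e⁻¹) := by group
      exact h2 x F.xP
  exact ⟨⟨_, h1⟩, by group⟩

/-- fusion of `e` in `C(P)` -/
theorem fus [Finite Γ] {e g : Γ} (heH : e ∈ H) (heP : ∀ y ∈ P, e * y = y * e) (hee : e * e ∈ L) (hg : g ∈ Le L e)
    (hgP : ∀ q ∈ P, g * e * g⁻¹ * q = q * (g * e * g⁻¹)) : ∃ l ∈ H, l ∈ L ∧ ∃ z : Z, g * e * g⁻¹ = z * e ∧ l * e * l⁻¹ = z * e := by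
  set C : Subgroup Γ := Le L e ⊓ Subgroup.centralizer {e} with hC
  have hPL : P ≤ Le L e := F.PL.trans le_sup_left
  set P₂ : Subgroup Γ := P.map (MulAut.conj g⁻¹).toMonoidHom with hP₂
  have hmem : ∀ y, y ∈ P₂ ↔ g * y * g⁻¹ ∈ P := by
    intro y
    rw [hP₂, Subgroup.mem_map]
    constructor
    · rintro ⟨t, ht, rfl⟩
      have : g * ((MulAut.conj g⁻¹).toMonoidHom t) * g⁻¹ = t := by
        change g * (g⁻¹ * t * g⁻¹⁻¹) * g⁻¹ = t
        group
      rw [this]; exact ht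
    · intro h
      exact ⟨_, h, by change g⁻¹ * (g * y * g⁻¹) * g⁻¹⁻¹ = y; group⟩
  have h1 : P ≤ C := fun y hy => ⟨hPL hy, Subgroup.mem_centralizer_singleton_iff.2 (heP y hy).symm⟩
  have h2 : P₂ ≤ C := by
    intro y hy
    rw [hmem] at hy
    have hyL : y ∈ Le L e := by
      have : y = g⁻¹ * (g * y * g⁻¹) * g := by group
      rw [this]
      exact mul_mem (mul_mem (inv_mem hg) (hPL hy)) hg
    refine ⟨hyL, Subgroup.mem_centralizer_singleton_iff.2 ?_⟩
    have h3 := hgP _ hy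
    have h4 : g * (e * y) * g⁻¹ = g * (y * e) * g⁻¹ := by
      calc g * (e * y) * g⁻¹ = g * e * g⁻¹ * (g * y * g⁻¹) := by group
        _ = (g * y * g⁻¹) * (g * e * g⁻¹) := h3
        _ = _ := by group
    exact (mul_left_cancel (mul_right_cancel h4)).symm
  have hi2 : ¬ 3 ∣ P₂.index := by
    rw [hP₂, Subgroup.index_map_of_bijective (MulAut.conj g⁻¹).bijective]
    exact F.Pidx
  obtain ⟨c, hc, hc'⟩ := conj_in (p := 3) C P P₂ h1 h2 F.pgroup (F.pgroup.map _) F.Pidx hi2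
  -- n = g c normalizes P
  have hn : g * c ∈ Subgroup.normalizer (P : Set Γ) := by
    rw [Subgroup.mem_normalizer_iff]
    intro y
    rw [hc' y, hmem]
    have : g * (c * y * c⁻¹) * g⁻¹ = g * c * y * (g * c)⁻¹ := by group
    rw [this]
  obtain ⟨y, hy, h, hh, hgc⟩ := F.N _ hn
  have hce : c * e = e * c := Subgroup.mem_centralizer_singleton_iff.1 hc.2
  have h3 : g * e * g⁻¹ = (g * c) * e * (g * c)⁻¹ := by
    have : (g * c) * e * (g * c)⁻¹ = g * (c * e * c⁻¹) * g⁻¹ := by group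
    rw [this, hce, mul_inv_cancel_right]
  have hgq : g * e * g⁻¹ ∈ Subgroup.centralizer (P : Set Γ) := by
    rw [Subgroup.mem_centralizer_iff]
    intro q hq
    exact (hgP q hq).symm
  have h4 : g * e * g⁻¹ = h * e * h⁻¹ := by
    have h5 : g * e * g⁻¹ = y * (h * e * h⁻¹) * y⁻¹ := by rw [h3, hgc]; group
    have h6 : y⁻¹ * (g * e * g⁻¹) * y = h * e * h⁻¹ := by rw [h5]; group
    rw [← h6]
    have h7 := Subgroup.mem_centralizer_iff.1 hgq y⁻¹ (inv_mem hy)
    rw [h7, mul_assoc (g * e * g⁻¹), inv_mul_cancel, mul_one]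
  have hhL : h ∈ Le L e := by
    have h5 : h = y⁻¹ * (g * c) := by rw [hgc]; group
    rw [h5]
    exact mul_mem (inv_mem (hPL hy)) (mul_mem hg hc.1)
  rw [mem_Le F.Ln hee] at hhL
  rcases hhL with h5 | ⟨l, hl, h5⟩
  · obtain ⟨z, hz⟩ := F.comm_mod heH heP hh h5
    exact ⟨h, hh, h5, z, h4.trans hz, hz⟩
  · have hlH : l ∈ H := by
      have : l = h * e⁻¹ := by rw [h5]; group
      rw [this]; exact mul_mem hh (inv_mem heH)
    obtain ⟨z, hz⟩ := F.comm_mod heH heP hlH hl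
    refine ⟨l, hlH, hl, z, ?_, hz⟩
    rw [h4, h5]
    have : l * e * e * (l * e)⁻¹ = l * e * l⁻¹ := by group
    rw [this, hz]

end Frame

end Cfsg.Agent.H155.TI
end

-- part: H395/TI34/UV
section
/-!
# Row `PSL₃(4)` of S4819, S4820, piece c : the integers `u`, `v`, `p`, `q`
-/

set_option autoImplicit false

namespace Cfsg.Agent.H395.TI34

open Cfsg Cfsg.Agent.H155.TI Cfsg.Agent.Characters.Central Cfsg.Agent.HKS.ModPSpec

section Op

variable {V : Type*} [AddCommGroup V] [Module ℂ V] [FiniteDimensional ℂ V]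

theorem op_half (C : Module.End ℂ V) (hC : C * C = 1) (s : ℂ) (hs : s * s = 1) :
    ∃ a : ℕ, LinearMap.trace ℂ V 1 + s * LinearMap.trace ℂ V C = 2 * a := by
  have hE : ((1 / 2 : ℂ) • (1 + s • C)) * ((1 / 2 : ℂ) • (1 + s • C)) = (1 / 2 : ℂ) • (1 + s • C) := by
    have h1 : ((1 / 2 : ℂ) • (1 + s • C)) * ((1 / 2 : ℂ) • (1 + s • C)) =
        (1 / 4 : ℂ) • ((1 : Module.End ℂ V) + (2 * s) • C + (s * s) • (C * C)) := by
      simp only [smul_mul_assoc, mul_smul_comm, mul_add, add_mul, mul_one, one_mul, smul_add, smul_smul]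
      module
    rw [h1, hC, hs]
    module
  obtain ⟨a, ha⟩ := exists_nat_trace _ hE
  refine ⟨a, ?_⟩
  rw [map_smul, map_add, map_smul, smul_eq_mul, smul_eq_mul] at ha
  linear_combination 2 * ha

theorem op_sixth (C X : Module.End ℂ V) (hC : C * C = 1) (hX : X * X * X = 1) (hCX : C * X = X * C)
    (h1 : LinearMap.trace ℂ V (X * X) = LinearMap.trace ℂ V X)
    (h2 : LinearMap.trace ℂ V (C * (X * X)) = LinearMap.trace ℂ V (C * X)) (s : ℂ) (hs : s * s = 1) :
    ∃ a : ℕ, LinearMap.trace ℂ V 1 - LinearMap.trace ℂ V X +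
      s * (LinearMap.trace ℂ V C - LinearMap.trace ℂ V (C * X)) = 6 * a := by
  obtain ⟨w, hw⟩ := IsAlgClosed.exists_pow_nat_eq (-3 : ℂ) (n := 2) (by norm_num)
  set ω : ℂ := (-1 + w) / 2 with hω
  have hq : ω * ω + ω + 1 = 0 := by rw [hω]; linear_combination hw / 4
  have h3 : ω * ω * ω = 1 := by linear_combination (ω - 1) * hq
  set F : Module.End ℂ V := (1 / 3 : ℂ) • (1 + (ω * ω) • X + ω • (X * X)) with hF
  have hXX : X * (X * X) = 1 := by rw [← mul_assoc]; exact hX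
  have hX4 : (X * X) * (X * X) = X := by rw [mul_assoc, hXX, mul_one]
  have hX3 : X * X * X = 1 := hX
  have hFF : F * F = F := by
    have e1 : F * F = (1 / 9 : ℂ) • ((1 : Module.End ℂ V) + (2 * (ω * ω)) • X + (2 * ω) • (X * X) +
        (ω * ω * (ω * ω)) • (X * X) + (ω * ω * ω) • (X * (X * X)) + (ω * (ω * ω)) • (X * X * X) +
        (ω * ω) • ((X * X) * (X * X))) := by
      rw [hF]
      simp only [smul_mul_assoc, mul_smul_comm, mul_add, add_mul, mul_one, one_mul, smul_add, smul_smul]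
      module
    rw [e1, hXX, hX4, hX3, hF]
    have e2 : ω * ω * (ω * ω) = ω := by linear_combination ω * h3
    have e3 : ω * (ω * ω) = 1 := by linear_combination h3
    rw [e2, e3, h3]
    module
  have hcF : C * F = F * C := by
    rw [hF]
    have e1 : C * (X * X) = (X * X) * C := by rw [← mul_assoc, hCX, mul_assoc, hCX, mul_assoc]
    simp only [smul_mul_assoc, mul_smul_comm, mul_add, add_mul, mul_one, one_mul]
    rw [e1, hCX]
  set D : Module.End ℂ V := (1 / 2 : ℂ) • (1 + s • C) with hD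
  have hDD : D * D = D := by
    have h1 : D * D = (1 / 4 : ℂ) • ((1 : Module.End ℂ V) + (2 * s) • C + (s * s) • (C * C)) := by
      rw [hD]
      simp only [smul_mul_assoc, mul_smul_comm, mul_add, add_mul, mul_one, one_mul, smul_add, smul_smul]
      module
    rw [h1, hC, hs, hD]
    module
  have hDF : D * F = F * D := by
    rw [hD]
    simp only [smul_mul_assoc, mul_smul_comm, mul_add, add_mul, mul_one, one_mul]
    rw [hcF]
  have hE : (D * F) * (D * F) = D * F := by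
    rw [mul_assoc, ← mul_assoc F, ← hDF, mul_assoc D F F, hFF, ← mul_assoc, hDD]
  obtain ⟨a, ha⟩ := exists_nat_trace _ hE
  refine ⟨a, ?_⟩
  have e4 : D * F = (1 / 6 : ℂ) • ((1 : Module.End ℂ V) + (ω * ω) • X + ω • (X * X) + s • C +
      (s * (ω * ω)) • (C * X) + (s * ω) • (C * (X * X))) := by
    rw [hD, hF]
    simp only [smul_mul_assoc, mul_smul_comm, mul_add, add_mul, mul_one, one_mul, smul_add, smul_smul]
    module
  rw [e4] at ha
  simp only [map_smul, map_add, smul_eq_mul] at ha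
  rw [h1, h2] at ha
  linear_combination 6 * ha - (LinearMap.trace ℂ V X + s * LinearMap.trace ℂ V (C * X)) * hq

theorem op_uv (C X : Module.End ℂ V) (hC : C * C = 1) (hX : X * X * X = 1) (hCX : C * X = X * C)
    (h1 : LinearMap.trace ℂ V (X * X) = LinearMap.trace ℂ V X)
    (h2 : LinearMap.trace ℂ V (C * (X * X)) = LinearMap.trace ℂ V (C * X)) :
    ∃ u v p q : ℤ, LinearMap.trace ℂ V 1 = p + q ∧ LinearMap.trace ℂ V C = p - q ∧
      LinearMap.trace ℂ V X = u + v ∧ LinearMap.trace ℂ V (C * X) = u - v ∧ 3 ∣ u - p ∧ 3 ∣ v - q := by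
  obtain ⟨p, hp⟩ := op_half C hC 1 (by norm_num)
  obtain ⟨q, hq⟩ := op_half C hC (-1) (by norm_num)
  obtain ⟨a, ha⟩ := op_sixth C X hC hX hCX h1 h2 1 (by norm_num)
  obtain ⟨b, hb⟩ := op_sixth C X hC hX hCX h1 h2 (-1) (by norm_num)
  refine ⟨p - 3 * a, q - 3 * b, p, q, ?_, ?_, ?_, ?_, ⟨-a, by ring⟩, ⟨-b, by ring⟩⟩
  · push_cast
    linear_combination (hp + hq) / 2
  · push_cast
    linear_combination (hp - hq) / 2
  · push_cast
    linear_combination (hp + hq - ha - hb) / 2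
  · push_cast
    linear_combination (hp - hq - ha + hb) / 2

end Op

universe u

variable {Z A W : Type u} [Group Z] [Group A] [Group W] [Finite W] {j : Z →* A} {i : A →* W} {lam : Z →* ℂˣ}
  {x : A} {c d : W} {zc : Z} {m : ℂ} {n : ℕ}

theorem m_ne_zero (e : Elt j i lam x c d zc m n) : m ≠ 0 := by
  intro h
  have h1 := e.mm
  rw [h] at h1
  exact (lam zc).ne_zero (by rw [← h1]; norm_num)

/-- **L34-c**: the integers `u`, `v`, `p`, `q` -/
theorem uv (h : Pair j i) (e : Elt j i lam x c d zc m n) (χ : IrrCharacter W) (hχ : Over (i.comp j) lam (χ : W → ℂ)) :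
    ∃ u v p q : ℤ, (χ : W → ℂ) 1 = p + q ∧ (χ : W → ℂ) c = m * (p - q) ∧ (χ : W → ℂ) (i x) = u + v ∧
      (χ : W → ℂ) (i x * c) = m * (u - v) ∧ 3 ∣ u - p ∧ 3 ∣ v - q := by
  obtain ⟨χ, k, ρ, hρ, rfl⟩ := χ
  have hm := m_ne_zero e
  have hz : ∀ z : Z, ρ (i (j z)) = (lam z : ℂ) • (1 : Module.End ℂ (Fin k → ℂ)) := by
    intro z
    have h1 := eq_trace_smul_of_comm ρ hρ (ρ (i (j z))) (fun g => by
      rw [← map_mul, ← map_mul, h.cen])
    have h2 : LinearMap.trace ℂ (Fin k → ℂ) (ρ (i (j z))) = (lam z : ℂ) * ρ.character 1 := by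
      have h3 := hχ z 1
      rw [mul_one] at h3
      exact h3
    rw [h2, mul_div_assoc, div_self (char_one_ne_zero ρ hρ), mul_one] at h1
    exact h1
  have hm2 : m * m = (lam zc : ℂ) := by rw [← e.mm]; ring
  set C : Module.End ℂ (Fin k → ℂ) := m⁻¹ • ρ c with hCdef
  set X : Module.End ℂ (Fin k → ℂ) := ρ (i x) with hXdef
  have hC : C * C = 1 := by
    rw [hCdef]
    simp only [smul_mul_assoc, mul_smul_comm, smul_smul]
    rw [← map_mul, e.cc, hz, smul_smul, ← hm2]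
    have : m⁻¹ * m⁻¹ * (m * m) = 1 := by field_simp
    rw [this, one_smul]
  have hX : X * X * X = 1 := by
    rw [hXdef, ← map_mul, ← map_mul, ← map_mul, ← map_mul]
    have : x * x * x = 1 := by rw [← e.x3]; simp [pow_succ]
    rw [this, map_one, map_one]
  have hCX : C * X = X * C := by
    rw [hCdef, hXdef]
    simp only [smul_mul_assoc, mul_smul_comm]
    rw [← map_mul, ← map_mul, e.cx]
  have hx2 : i x * i x = (i x)⁻¹ := by
    rw [← map_mul, ← map_inv]
    congr 1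
    rw [eq_inv_iff_mul_eq_one, ← e.x3]
    simp [pow_succ]
  have hcl : ∀ g y : W, ρ.character (g * y * g⁻¹) = ρ.character y := fun g y => Representation.char_conj ρ y g
  have h1 : LinearMap.trace ℂ _ (X * X) = LinearMap.trace ℂ _ X := by
    rw [hXdef, ← map_mul, hx2, ← e.dx]
    exact hcl d (i x)
  have hcd : d * (c * i x) * d⁻¹ = c * (i x * i x) := by
    rw [hx2, ← e.dx, ← mul_assoc d c, e.dc]
    group
  have h2 : LinearMap.trace ℂ _ (C * (X * X)) = LinearMap.trace ℂ _ (C * X) := by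
    rw [hCdef, hXdef]
    simp only [smul_mul_assoc, map_smul]
    rw [← map_mul ρ, ← map_mul ρ, ← map_mul ρ, ← hcd]
    congr 1
    exact hcl d (c * i x)
  obtain ⟨u, v, p, q, a1, a2, a3, a4, a5, a6⟩ := op_uv C X hC hX hCX h1 h2
  refine ⟨u, v, p, q, ?_, ?_, a3, ?_, a5, a6⟩
  · rw [← a1]
    exact congrArg _ (map_one ρ)
  · rw [← a2, hCdef, map_smul, smul_eq_mul, ← mul_assoc, mul_inv_cancel₀ hm, one_mul]
    rfl
  · rw [← a4, hCdef, hXdef, smul_mul_assoc, ← map_mul, map_smul, smul_eq_mul, ← mul_assoc, mul_inv_cancel₀ hm,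
      one_mul, e.cx]
    rfl

end Cfsg.Agent.H395.TI34
end

-- part: H395/TI34/Comb
section
/-!
# Row `PSL₃(4)` of S4819, S4820, piece c : a small counting lemma
-/

set_option autoImplicit false

namespace Cfsg.Agent.H395.TI34

theorem odd_sq (a : ℤ) (h : Odd a) : ∃ t : ℕ, a ^ 2 = 1 + 8 * t := by
  obtain ⟨b, rfl⟩ := h
  obtain ⟨r, hr⟩ := Int.even_mul_succ_self b
  have h0 : 0 ≤ r := by linarith only [hr, sq_nonneg (2 * b + 1)]
  refine ⟨r.toNat, ?_⟩
  rw [Int.toNat_of_nonneg h0]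
  linear_combination 4 * hr

theorem comb {I : Type*} [Fintype I] [DecidableEq I] (δ : I → ℤ) (s : I) (k : ℕ) (hk : Fintype.card I = k + 1)
    (hko : Odd k) (hk5 : k ≤ 5) (he : Even (δ s)) (ho : ∀ η, η ≠ s → Odd (δ η)) (n : ℕ) (hs : ∑ η, δ η ^ 2 = n) :
    (n = 3 → Fintype.card I = 4 ∧ δ s = 0) ∧
    (n = 9 → (Fintype.card I = 6 ∧ ∀ η, ¬ (3 : ℤ) ∣ δ η) ∨
      (Fintype.card I = 2 ∧ δ s = 0 ∧ ∀ η, η ≠ s → δ η = 3 ∨ δ η = -3)) := by
  obtain ⟨y, hy⟩ := he
  have h1 : ∀ η, ∃ t : ℕ, η ≠ s → δ η ^ 2 = 1 + 8 * (t : ℤ) := by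
    intro η
    by_cases h : η = s
    · exact ⟨0, fun h' => absurd h h'⟩
    · obtain ⟨t, ht⟩ := odd_sq _ (ho η h)
      exact ⟨t, fun _ => ht⟩
  choose t ht using h1
  have h2 : ∑ η, δ η ^ 2 = δ s ^ 2 + ∑ η ∈ Finset.univ.erase s, δ η ^ 2 := by
    exact (Finset.add_sum_erase Finset.univ (fun η => δ η ^ 2) (Finset.mem_univ s)).symm
  have h3 : ∑ η ∈ Finset.univ.erase s, δ η ^ 2 = k + 8 * ((∑ η ∈ Finset.univ.erase s, t η : ℕ) : ℤ) := by
    rw [Finset.sum_congr rfl (fun η hη => ht η (Finset.ne_of_mem_erase hη)), Finset.sum_add_distrib]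
    rw [Finset.sum_const, Finset.card_erase_of_mem (Finset.mem_univ s), Finset.card_univ, hk, ← Finset.mul_sum,
      Nat.cast_sum]
    simp only [_root_.add_tsub_cancel_right, _root_.Int.nsmul_eq_mul, _root_.mul_one, _root_.Finset.mem_univ, _root_.Finset.sum_erase_eq_sub]
  set T : ℕ := ∑ η ∈ Finset.univ.erase s, t η with hT
  have h4 : (n : ℤ) = 4 * y ^ 2 + k + 8 * T := by
    rw [← hs, h2, h3, hy]; ring
  have hy0 : 0 ≤ y ^ 2 := sq_nonneg y
  have hle : ∀ η, η ≠ s → t η ≤ T := fun η hη =>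
    Finset.single_le_sum (f := t) (fun _ _ => Nat.zero_le _) (Finset.mem_erase.2 ⟨hη, Finset.mem_univ η⟩)
  obtain ⟨b, hb⟩ := hko
  constructor
  · rintro rfl
    push_cast at h4
    have hy1 : y ^ 2 = 0 := by (clear * - hy0 h4; omega)
    have hy' : y = 0 := by nlinarith only [hy1]
    refine ⟨by (clear * - hk hk5 h4; omega), by rw [hy, hy']; norm_num⟩
  · rintro rfl
    push_cast at h4
    have hy2 : y ^ 2 ≤ 2 := by omega
    have hy3 : y ^ 2 = 0 ∨ y ^ 2 = 1 := by
      have : y ≤ 1 := by nlinarith only [h4]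
      have : -1 ≤ y := by nlinarith only [h4]
      interval_cases y <;> norm_num
    have hb3 : b = 0 ∨ b = 1 ∨ b = 2 := by (clear * - hk5 hb; omega)
    rcases hb3 with rfl | rfl | rfl
    · -- k = 1
      right
      have hk1 : k = 1 := by omega
      subst hk1
      rcases hy3 with h | h
      · have hT1 : T = 1 := by push_cast at h4; omega
        have hy' : y = 0 := by nlinarith only [h]
        refine ⟨hk, by rw [hy, hy']; norm_num, fun η hη => ?_⟩
        -- the only other one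
        have h5 : ∀ η', η' ∈ Finset.univ.erase s → η' = η := by
          intro η' h'
          have : (Finset.univ.erase s).card = 1 := by
            rw [Finset.card_erase_of_mem (Finset.mem_univ s), Finset.card_univ, hk]
          obtain ⟨a, ha⟩ := Finset.card_eq_one.1 this
          have e1 : η' ∈ ({a} : Finset I) := ha ▸ h'
          have e2 : η ∈ ({a} : Finset I) := ha ▸ (Finset.mem_erase.2 ⟨hη, Finset.mem_univ η⟩)
          rw [Finset.mem_singleton.1 e1, Finset.mem_singleton.1 e2]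
        have h6 : T = t η := by
          rw [hT]
          apply Finset.sum_eq_single η
          · intro b hb hne
            exact absurd (h5 b hb) hne
          · intro h'
            exact absurd (Finset.mem_erase.2 ⟨hη, Finset.mem_univ η⟩) h'
        have h7 := ht η hη
        rw [← h6, hT1] at h7
        have h8 : (δ η - 3) * (δ η + 3) = 0 := by push_cast at h7; linear_combination h7
        rcases mul_eq_zero.1 h8 with h9 | h9
        · left; omega
        · right; omega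
      · exfalso
        push_cast at h4
        omega
    · exfalso
      omega
    · left
      have hk1 : k = 5 := by omega
      subst hk1
      rcases hy3 with h | h
      · exfalso
        push_cast at h4
        omega
      · have hT1 : T = 0 := by push_cast at h4; omega
        refine ⟨hk, fun η hd => ?_⟩
        by_cases hη : η = s
        · subst hη
          obtain ⟨r, hr⟩ := hd
          have e1 : y = 1 ∨ y = -1 := by
            have : (y - 1) * (y + 1) = 0 := by linear_combination h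
            rcases mul_eq_zero.1 this with h9 | h9
            · left; omega
            · right; omega
          rcases e1 with h | h <;> omega
        · have h7 := ht η hη
          have h8 : t η = 0 := by have := hle η hη; omega
          rw [h8] at h7
          obtain ⟨r, hr⟩ := hd
          rw [hr] at h7
          push_cast at h7
          have : 9 * r ^ 2 = 1 := by linear_combination h7
          omega

end Cfsg.Agent.H395.TI34
end

-- part: H395/TI34/Two
section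
/-!
# Row `PSL₃(4)` of S4819, S4820, piece c : the number of invariant members (`two3`, `two9`)
-/

set_option autoImplicit false

namespace Cfsg.Agent.H395.TI34

open Cfsg Cfsg.Agent.H155.TI Cfsg.Agent.Characters.Central Cfsg.Agent.Characters.Core
open scoped ComplexConjugate

universe u

/-- central elements act by scalars -/
theorem irr_central {G : Type u} [Group G] (χ : IrrCharacter G) (z : G) (hz : ∀ g, z * g = g * z) (g : G) :
    (χ : G → ℂ) (z * g) * (χ : G → ℂ) 1 = (χ : G → ℂ) z * (χ : G → ℂ) g := by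
  obtain ⟨χ, k, ρ, hρ, rfl⟩ := χ
  have h1 := eq_trace_smul_of_comm ρ hρ (ρ z) (fun g => by rw [← map_mul, ← map_mul, hz])
  have h0 := char_one_ne_zero ρ hρ
  have h2 : ρ.character (z * g) = (ρ.character z / ρ.character 1) * ρ.character g := by
    change LinearMap.trace ℂ _ (ρ (z * g)) = _
    rw [map_mul, h1, smul_mul_assoc, one_mul, map_smul, smul_eq_mul]
    rfl
  change ρ.character (z * g) * ρ.character 1 = ρ.character z * ρ.character g
  rw [h2]
  field_simp

theorem irr_one_ne {G : Type u} [Group G] (χ : IrrCharacter G) : (χ : G → ℂ) 1 ≠ 0 := by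
  obtain ⟨χ, k, ρ, hρ, rfl⟩ := χ
  exact char_one_ne_zero ρ hρ

variable {Z A W : Type u} [Group Z] [Group A] [Group W] {j : Z →* A} {i : A →* W} {lam : Z →* ℂˣ}
  {x : A} {c d : W} {zc : Z} {m : ℂ} {n : ℕ}

/-- conjugation by `c` on `A` -/
theorem exists_sigma (h : Pair j i) (c : W) : ∃ σ : A ≃* A, ∀ a, i (σ a) = c * i a * c⁻¹ := by
  have hN : i.range.Normal := Subgroup.normal_of_index_eq_two h.idx
  let E : A ≃* i.range := MonoidHom.ofInjective h.ii
  refine ⟨(E.trans (MulAut.conjNormal c)).trans E.symm, fun a => ?_⟩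
  have h1 : ∀ b : i.range, i (E.symm b) = (b : W) := by
    intro b
    have h2 : E (E.symm b) = b := E.apply_symm_apply b
    exact congrArg Subtype.val h2
  change i (E.symm (MulAut.conjNormal c (E a))) = _
  rw [h1, MulAut.conjNormal_apply]
  rfl

theorem jz_central (h : Pair j i) (z : Z) (a : A) : j z * a = a * j z :=
  h.ii (by rw [map_mul, map_mul, h.cen])

theorem over_of_ext (h : Pair j i) (χ : IrrCharacter W) (η : IrrCharacter A)
    (hη : ∀ t, (χ : W → ℂ) (i t) = (η : A → ℂ) t) (ho : Over j lam (η : A → ℂ)) :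
    Over (i.comp j) lam (χ : W → ℂ) := by
  intro z w
  have h1 := irr_central χ (i (j z)) (fun g => h.cen z g) w
  have h2 : (χ : W → ℂ) (i (j z)) = (lam z : ℂ) * (χ : W → ℂ) 1 := by
    have h3 := ho z 1
    rw [mul_one, ← hη, ← hη, map_one] at h3
    exact h3
  rw [h2] at h1
  have h0 := irr_one_ne χ
  apply mul_right_cancel₀ h0
  change (χ : W → ℂ) (i (j z) * w) * (χ : W → ℂ) 1 = _
  rw [h1]
  ring

theorem over_res (χ : IrrCharacter W) (ho : Over (i.comp j) lam (χ : W → ℂ)) :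
    Over j lam (fun t => (χ : W → ℂ) (i t)) := by
  intro z a
  have h1 := ho z (i a)
  rw [← h1]
  simp only [_root_.map_mul, _root_.MonoidHom.coe_comp, _root_.Function.comp_apply]

/-- the conjugate of an irreducible character of `A` -/
def cj (σ : A ≃* A) (η : IrrCharacter A) : IrrCharacter A :=
  ⟨(η : A → ℂ) ∘ σ, isIrr_comp σ.toMonoidHom σ.surjective η.2⟩

theorem cj_apply (σ : A ≃* A) (η : IrrCharacter A) (a : A) : (cj σ η : A → ℂ) a = (η : A → ℂ) (σ a) := rfl

theorem inv_iff (h : Pair j i) {σ : A ≃* A} (hσ : ∀ a, i (σ a) = c * i a * c⁻¹) (η : IrrCharacter A) :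
    _root_.Cfsg.Agent.H155.TI.Inv i c (η : A → ℂ) ↔ cj σ η = η := by
  constructor
  · intro hI
    apply Subtype.ext
    funext a
    exact hI a (σ a) (hσ a)
  · intro he a a' ha
    have h1 : a' = σ a := h.ii (by rw [ha, hσ])
    rw [h1, ← cj_apply, he]

theorem sigma_j (h : Pair j i) {σ : A ≃* A} (hσ : ∀ a, i (σ a) = c * i a * c⁻¹) (z : Z) : σ (j z) = j z :=
  h.ii (by rw [hσ, ← h.cen, mul_inv_cancel_right])

theorem sigma_x (h : Pair j i) {σ : A ≃* A} (hσ : ∀ a, i (σ a) = c * i a * c⁻¹) (hx : c * i x = i x * c) :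
    σ x = x :=
  h.ii (by rw [hσ, hx, mul_inv_cancel_right])

theorem sigma_sigma (h : Pair j i) {σ : A ≃* A} (hσ : ∀ a, i (σ a) = c * i a * c⁻¹) (hc : c * c = i (j zc)) (a : A) :
    σ (σ a) = a := by
  apply h.ii
  rw [hσ, hσ]
  have h1 : c * (c * i a * c⁻¹) * c⁻¹ = (c * c) * i a * (c * c)⁻¹ := by group
  rw [h1, hc, h.cen, mul_inv_cancel_right]

theorem over_cj (h : Pair j i) {σ : A ≃* A} (hσ : ∀ a, i (σ a) = c * i a * c⁻¹) (η : IrrCharacter A)
    (ho : Over j lam (η : A → ℂ)) : Over j lam (cj σ η : A → ℂ) := by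
  intro z a
  rw [cj_apply, cj_apply, map_mul, sigma_j h hσ, ho]

theorem cj_cj (h : Pair j i) {σ : A ≃* A} (hσ : ∀ a, i (σ a) = c * i a * c⁻¹) (hc : c * c = i (j zc))
    (η : IrrCharacter A) : cj σ (cj σ η) = η := by
  apply Subtype.ext
  funext a
  rw [cj_apply, cj_apply, sigma_sigma h hσ hc]

/-- the non-invariant constituents of a character over `lam` -/
theorem over_of_red (h : Pair j i) (χ : IrrCharacter W) (ho : Over (i.comp j) lam (χ : W → ℂ)) (η η' : IrrCharacter A)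
    (h1 : ∀ t, (χ : W → ℂ) (i t) = (η : A → ℂ) t + (η' : A → ℂ) t)
    (h2 : ∀ t t', i t' = c * i t * c⁻¹ → (η : A → ℂ) t' = (η' : A → ℂ) t) :
    Over j lam (η : A → ℂ) := by
  intro z a
  have hz : (η : A → ℂ) (j z) = (η' : A → ℂ) (j z) := h2 _ _ (by rw [← h.cen, mul_inv_cancel_right])
  have h11 : (η : A → ℂ) 1 = (η' : A → ℂ) 1 := h2 _ _ (by simp)
  have h3 := irr_central η (j z) (fun g => jz_central h z g) a
  have h0 := irr_one_ne η
  have h4 : (η : A → ℂ) (j z) = (lam z : ℂ) * (η : A → ℂ) 1 := by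
    have h5 := ho z 1
    rw [mul_one, ← map_one i, h1 1] at h5
    have h6 : (χ : W → ℂ) ((i.comp j) z) = (η : A → ℂ) (j z) + (η' : A → ℂ) (j z) := h1 (j z)
    rw [h6, ← hz, ← h11] at h5
    linear_combination h5 / 2
  rw [h4] at h3
  apply mul_right_cancel₀ h0
  rw [h3]
  ring

/-! ### The count on the level of `A` -/

/-- the invariant members not vanishing at `x` -/
abbrev IA (j : Z →* A) (i : A →* W) (lam : Z →* ℂˣ) (x : A) (c : W) : Type u :=
  {η : IrrCharacter A // Over j lam (η : A → ℂ) ∧ (η : A → ℂ) x ≠ 0 ∧ _root_.Cfsg.Agent.H155.TI.Inv i c (η : A → ℂ)}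

theorem vals (s : Six j lam x) (η : IrrCharacter A) (ho : Over j lam (η : A → ℂ)) (hx : (η : A → ℂ) x ≠ 0) :
    ((η : A → ℂ) x = 1 ∨ (η : A → ℂ) x = -1) ∨ ((η : A → ℂ) x = 2 ∨ (η : A → ℂ) x = -2) := by
  obtain ⟨w, hw, hl⟩ := s.int η ho
  rw [hw] at hx ⊢
  have hw0 : w ≠ 0 := by rintro rfl; simp at hx
  obtain ⟨h1, h2⟩ := abs_le.1 hl
  have h3 : w = 1 ∨ w = -1 ∨ w = 2 ∨ w = -2 := by omega
  rcases h3 with rfl | rfl | rfl | rfl
  · left; left; norm_num
  · left; right; norm_num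
  · right; left; norm_num
  · right; right; norm_num

theorem count_A [Finite A] (h : Pair j i) (hcx : c * i x = i x * c) (hcc : c * c = i (j zc)) (s : Six j lam x) :
    ∃ (k : ℕ) (t : IA j i lam x c), Nat.card (IA j i lam x c) = k + 1 ∧ Odd k ∧ k ≤ 5 ∧
      ((t.1 : A → ℂ) x = 2 ∨ (t.1 : A → ℂ) x = -2) ∧
      (∀ η : IA j i lam x c, η ≠ t → (η.1 : A → ℂ) x = 1 ∨ (η.1 : A → ℂ) x = -1) ∧
      (k = 5 → ∀ η : IrrCharacter A, Over j lam (η : A → ℂ) → (η : A → ℂ) x ≠ 0 → _root_.Cfsg.Agent.H155.TI.Inv i c (η : A → ℂ)) := by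
  classical
  obtain ⟨σ, hσ⟩ := exists_sigma h c
  have hx := sigma_x h hσ hcx
  haveI : Finite (IrrCharacter A) := finite_irr
  letI : Fintype (IrrCharacter A) := Fintype.ofFinite _
  -- the member `t`
  obtain ⟨hsub, hne⟩ := Nat.card_eq_one_iff_unique.1 s.one
  obtain ⟨t, ht, htx⟩ := hne.some
  have htI : _root_.Cfsg.Agent.H155.TI.Inv i c (t : A → ℂ) := by
    rw [inv_iff h hσ]
    have h1 : (⟨cj σ t, over_cj h hσ t ht, by rw [cj_apply, hx]; exact htx⟩ :
        {η : IrrCharacter A // Over j lam (η : A → ℂ) ∧ ((η : A → ℂ) x = 2 ∨ (η : A → ℂ) x = -2)}) = ⟨t, ht, htx⟩ :=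
      Subsingleton.elim _ _
    exact congrArg Subtype.val h1
  have htx0 : (t : A → ℂ) x ≠ 0 := by
    rcases htx with h1 | h1 <;> rw [h1] <;> norm_num
  have huniq : ∀ η : IrrCharacter A, Over j lam (η : A → ℂ) → ((η : A → ℂ) x = 2 ∨ (η : A → ℂ) x = -2) → η = t := by
    intro η h1 h2
    have h3 : (⟨η, h1, h2⟩ : {η : IrrCharacter A // Over j lam (η : A → ℂ) ∧
      ((η : A → ℂ) x = 2 ∨ (η : A → ℂ) x = -2)}) = ⟨t, ht, htx⟩ := Subsingleton.elim _ _
    exact congrArg Subtype.val h3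
  set SI : Finset (IrrCharacter A) := Finset.univ.filter (fun η : IrrCharacter A =>
    Over j lam (η : A → ℂ) ∧ (η : A → ℂ) x ≠ 0 ∧ _root_.Cfsg.Agent.H155.TI.Inv i c (η : A → ℂ)) with hSI
  set SO : Finset (IrrCharacter A) := Finset.univ.filter (fun η : IrrCharacter A =>
    Over j lam (η : A → ℂ) ∧ ((η : A → ℂ) x = 1 ∨ (η : A → ℂ) x = -1) ∧ _root_.Cfsg.Agent.H155.TI.Inv i c (η : A → ℂ)) with hSO
  set SF : Finset (IrrCharacter A) := Finset.univ.filter (fun η : IrrCharacter A =>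
    Over j lam (η : A → ℂ) ∧ ((η : A → ℂ) x = 1 ∨ (η : A → ℂ) x = -1)) with hSF
  have hcI : Nat.card (IA j i lam x c) = SI.card := by
    rw [Nat.card_eq_fintype_card, Fintype.card_subtype]
  have hcF : SF.card = 5 := by
    rw [← s.five, Nat.card_eq_fintype_card, Fintype.card_subtype]
  have hISO : SI = insert t SO := by
    ext η
    simp only [hSI, hSO, Finset.mem_filter, Finset.mem_univ, true_and, Finset.mem_insert]
    constructor
    · rintro ⟨h1, h2, h3⟩
      rcases vals s η h1 h2 with h4 | h4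
      · exact Or.inr ⟨h1, h4, h3⟩
      · exact Or.inl (huniq η h1 h4)
    · rintro (rfl | ⟨h1, h2, h3⟩)
      · exact ⟨ht, htx0, htI⟩
      · exact ⟨h1, by rcases h2 with h4 | h4 <;> rw [h4] <;> norm_num, h3⟩
  have htSO : t ∉ SO := by
    intro h1
    rcases (Finset.mem_filter.1 h1).2.2.1 with h2 | h2 <;> rcases htx with h3 | h3 <;> rw [h3] at h2 <;> norm_num at h2
  have hcard : SI.card = SO.card + 1 := by rw [hISO, Finset.card_insert_of_notMem htSO]
  have hOF : SO ⊆ SF := by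
    intro η h1
    obtain ⟨h2, h3, h4, h5⟩ := Finset.mem_filter.1 h1
    exact Finset.mem_filter.2 ⟨h2, h3, h4⟩
  have hodd : Odd SO.card := by
    -- the involution on `SF`
    let O := {η : IrrCharacter A // Over j lam (η : A → ℂ) ∧ ((η : A → ℂ) x = 1 ∨ (η : A → ℂ) x = -1)}
    let f : Function.End O := fun o => ⟨cj σ o.1, over_cj h hσ o.1 o.2.1, by rw [cj_apply, hx]; exact o.2.2⟩
    have hf : f ^ 2 ^ 1 = 1 := by
      rw [pow_one, sq]
      funext o
      apply Subtype.ext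
      exact cj_cj h hσ hcc o.1
    letI : Fintype O := Fintype.ofFinite _
    have h1 := Equiv.Perm.card_fixedPoints_modEq (p := 2) (n := 1) hf
    have h2 : Fintype.card O = 5 := by rw [← s.five, Nat.card_eq_fintype_card]
    have h3 : Fintype.card f.fixedPoints = SO.card := by
      rw [← Nat.card_eq_fintype_card]
      have e1 : f.fixedPoints ≃ SO :=
        { toFun := fun o => ⟨o.1.1, Finset.mem_filter.2 ⟨Finset.mem_univ _, o.1.2.1, o.1.2.2,
            (inv_iff h hσ _).2 (congrArg Subtype.val o.2)⟩⟩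
          invFun := fun η => ⟨⟨η.1, (Finset.mem_filter.1 η.2).2.1, (Finset.mem_filter.1 η.2).2.2.1⟩,
            Subtype.ext ((inv_iff h hσ η.1).1 (Finset.mem_filter.1 η.2).2.2.2)⟩
          left_inv := fun o => rfl
          right_inv := fun o => rfl }
      rw [Nat.card_congr e1, Nat.card_eq_fintype_card, Fintype.card_coe]
    rw [h2, h3] at h1
    rw [Nat.odd_iff]
    exact h1.symm
  refine ⟨SO.card, ⟨t, ht, htx0, htI⟩, by rw [hcI, hcard], hodd, by rw [← hcF]; exact Finset.card_le_card hOF, htx, ?_,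
    ?_⟩
  · intro η hη
    rcases vals s η.1 η.2.1 η.2.2.1 with h4 | h4
    · exact h4
    · exact absurd (Subtype.ext (huniq η.1 η.2.1 h4)) hη
  · intro h5 η h1 h2
    have h6 : SO = SF := Finset.eq_of_subset_of_card_le hOF (by rw [hcF, h5])
    rcases vals s η h1 h2 with h4 | h4
    · have h7 : η ∈ SO := by rw [h6]; exact Finset.mem_filter.2 ⟨Finset.mem_univ _, h1, h4⟩
      exact (Finset.mem_filter.1 h7).2.2.2
    · rw [huniq η h1 h4]; exact htI

end Cfsg.Agent.H395.TI34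
end

-- part: H395/TI34/Main
section
/-!
# Row `PSL₃(4)` of S4819, S4820, piece c : `two3`, `two9` from the pieces a, b
-/

set_option autoImplicit false

namespace Cfsg.Agent.H395.TI34

open Cfsg Cfsg.Agent.H155.TI Cfsg.Agent.Characters.Central Cfsg.Agent.Characters.Core
open scoped ComplexConjugate

universe u

variable {Z A W : Type u} [Group Z] [Group A] [Group W] [Finite W] {j : Z →* A} {i : A →* W} {lam : Z →* ℂˣ}
  {x : A} {c d : W} {zc : Z} {m : ℂ} {n : ℕ}

/-- `res_cases` (piece a) -/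
def ResCases (i : A →* W) (c : W) : Prop :=
  ∀ χ : IrrCharacter W,
    (IsIrrCharacter A (fun t => (χ : W → ℂ) (i t)) ∧ _root_.Cfsg.Agent.H155.TI.Inv i c (fun t => (χ : W → ℂ) (i t))) ∨
    ((∀ w, w ∉ i.range → (χ : W → ℂ) w = 0) ∧ ∃ η η' : IrrCharacter A, η ≠ η' ∧
      (∀ t, (χ : W → ℂ) (i t) = (η : A → ℂ) t + (η' : A → ℂ) t) ∧
      (∀ t t', i t' = c * i t * c⁻¹ → (η : A → ℂ) t' = (η' : A → ℂ) t) ∧ ¬ _root_.Cfsg.Agent.H155.TI.Inv i c (η : A → ℂ))

/-- `exists_ext` (piece a) -/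
def ExistsExt (i : A →* W) (c : W) : Prop :=
  ∀ η : IrrCharacter A, _root_.Cfsg.Agent.H155.TI.Inv i c (η : A → ℂ) →
    ∃ χ χ' : IrrCharacter W, χ ≠ χ' ∧ (∀ t, (χ : W → ℂ) (i t) = (η : A → ℂ) t) ∧ (∀ t, (χ' : W → ℂ) (i t) = (η : A → ℂ) t) ∧
      (∀ w, w ∉ i.range → (χ' : W → ℂ) w = - (χ : W → ℂ) w) ∧
      (∀ ψ : IrrCharacter W, (∀ t, (ψ : W → ℂ) (i t) = (η : A → ℂ) t) → ψ = χ ∨ ψ = χ')

/-- `col_self` (piece b) for `y = x c` -/
def ColSelf (j : Z →* W) (lam : Z →* ℂˣ) (y : W) : Prop :=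
  ∀ [Fintype {χ : IrrCharacter W // Over j lam (χ : W → ℂ)}],
    (Nat.card Z : ℂ) * ∑ χ : {χ : IrrCharacter W // Over j lam (χ : W → ℂ)}, (χ.1 : W → ℂ) y * conj ((χ.1 : W → ℂ) y) =
      Nat.card (Subgroup.centralizer ({y} : Set W))

theorem xc_notMem (e : Elt j i lam x c d zc m n) : i x * c ∉ i.range := by
  intro h
  apply e.cA
  have h1 := i.range.mul_mem (i.range.inv_mem ⟨x, rfl⟩) h
  rwa [inv_mul_cancel_left] at h1

theorem m_norm (h : Pair j i) (e : Elt j i lam x c d zc m n) : m * conj m = 1 := by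
  haveI : Finite Z := Finite.of_injective (i.comp j) (h.ii.comp h.ji)
  have h1 : ((lam zc : ℂˣ) : ℂ) ^ Nat.card Z = 1 := by
    rw [← Units.val_pow_eq_pow_val, ← map_pow, pow_card_eq_one', map_one, Units.val_one]
  have h2 : ‖(lam zc : ℂ)‖ = 1 := Complex.norm_eq_one_of_pow_eq_one h1 Nat.card_pos.ne'
  have h3 : ‖m‖ ^ 2 = 1 := by rw [← norm_pow, e.mm, h2]
  rw [Complex.mul_conj, Complex.normSq_eq_norm_sq, h3]
  norm_num

/-- the value at `x c` is `m δ`, `δ ≡ χ(x)` mod 2 -/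
theorem exists_delta (h : Pair j i) (e : Elt j i lam x c d zc m n) (χ : IrrCharacter W)
    (hχ : Over (i.comp j) lam (χ : W → ℂ)) :
    ∃ δ w : ℤ, (χ : W → ℂ) (i x * c) = m * δ ∧ (χ : W → ℂ) (i x) = w ∧ Even (w - δ) := by
  obtain ⟨u, v, p, q, -, -, h1, h2, -, -⟩ := uv h e χ hχ
  exact ⟨u - v, u + v, by rw [h2]; push_cast; ring, by rw [h1]; push_cast; ring, ⟨v, by ring⟩⟩

/-- the main count -/
theorem main_count (h : Pair j i) (e : Elt j i lam x c d zc m n) (s : Six j lam x) (hres : ResCases i c)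
    (hext : ExistsExt i c) (hcol : ColSelf (i.comp j) lam (i x * c)) :
    ∃ (k : ℕ) (t : IA j i lam x c) (δ : IA j i lam x c → ℤ), Nat.card (IA j i lam x c) = k + 1 ∧
      (n = 3 → Nat.card (IA j i lam x c) = 4 ∧ δ t = 0) ∧
      (n = 9 → (Nat.card (IA j i lam x c) = 6 ∧ k = 5 ∧ ∀ η, ¬ (3 : ℤ) ∣ δ η) ∨
        (Nat.card (IA j i lam x c) = 2 ∧ δ t = 0 ∧ ∀ η, η ≠ t → δ η = 3 ∨ δ η = -3)) ∧
      (∀ (η : IA j i lam x c) (χ : IrrCharacter W), (∀ a, (χ : W → ℂ) (i a) = (η.1 : A → ℂ) a) →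
        (χ : W → ℂ) (i x * c) = m * δ η ∨ (χ : W → ℂ) (i x * c) = - (m * δ η)) ∧
      ((t.1 : A → ℂ) x = 2 ∨ (t.1 : A → ℂ) x = -2) ∧
      (∀ η : IA j i lam x c, η ≠ t → (η.1 : A → ℂ) x = 1 ∨ (η.1 : A → ℂ) x = -1) ∧
      (k = 5 → ∀ η : IrrCharacter A, Over j lam (η : A → ℂ) → (η : A → ℂ) x ≠ 0 → _root_.Cfsg.Agent.H155.TI.Inv i c (η : A → ℂ)) := by
  classical
  haveI : Finite A := Finite.of_injective i h.ii
  haveI : Finite Z := Finite.of_injective (i.comp j) (h.ii.comp h.ji)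
  haveI : Finite (IrrCharacter A) := finite_irr
  haveI : Finite (IrrCharacter W) := finite_irr
  obtain ⟨k, t, hk, hko, hk5, ht, hother, hall⟩ := count_A (lam := lam) (zc := zc) h e.cx e.cc s
  letI : Fintype (IA j i lam x c) := Fintype.ofFinite _
  letI : Fintype {χ : IrrCharacter W // Over (i.comp j) lam (χ : W → ℂ)} := Fintype.ofFinite _
  have hm := m_norm h e
  have hm0 := m_ne_zero e
  have hxc := xc_notMem e
  -- the extensions
  have h1 : ∀ η : IA j i lam x c, ∃ χ χ' : IrrCharacter W, χ ≠ χ' ∧ (∀ t, (χ : W → ℂ) (i t) = (η.1 : A → ℂ) t) ∧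
      (∀ t, (χ' : W → ℂ) (i t) = (η.1 : A → ℂ) t) ∧ (χ' : W → ℂ) (i x * c) = - (χ : W → ℂ) (i x * c) ∧
      (∀ ψ : IrrCharacter W, (∀ t, (ψ : W → ℂ) (i t) = (η.1 : A → ℂ) t) → ψ = χ ∨ ψ = χ') := by
    intro η
    obtain ⟨χ, χ', a1, a2, a3, a4, a5⟩ := hext η.1 η.2.2.2
    exact ⟨χ, χ', a1, a2, a3, a4 _ hxc, a5⟩
  choose X X' hne hX hX' hneg huniq using h1
  have h2 : ∀ η : IA j i lam x c, ∃ δ w : ℤ, (X η : W → ℂ) (i x * c) = m * δ ∧ (X η : W → ℂ) (i x) = w ∧
      Even (w - δ) := fun η => exists_delta h e (X η) (over_of_ext h _ η.1 (hX η) η.2.1)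
  choose δ w hδ hw hpar using h2
  -- the injection
  let E : IA j i lam x c × Bool → {χ : IrrCharacter W // Over (i.comp j) lam (χ : W → ℂ)} := fun p =>
    if p.2 then ⟨X p.1, over_of_ext h _ p.1.1 (hX p.1) p.1.2.1⟩ else ⟨X' p.1, over_of_ext h _ p.1.1 (hX' p.1) p.1.2.1⟩
  have hE1 : ∀ η, (E (η, true)).1 = X η := fun η => rfl
  have hE2 : ∀ η, (E (η, false)).1 = X' η := fun η => rfl
  have hEr : ∀ p a, ((E p).1 : W → ℂ) (i a) = (p.1.1 : A → ℂ) a := by
    rintro ⟨η, b⟩ a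
    cases b
    · rw [hE2]; exact hX' η a
    · rw [hE1]; exact hX η a
  have hEinj : Function.Injective E := by
    rintro ⟨η, b⟩ ⟨η', b'⟩ heq
    have h3 : η = η' := by
      apply Subtype.ext
      apply Subtype.ext
      funext a
      have h4 := hEr (η, b) a
      have h5 := hEr (η', b') a
      rw [← heq, h4] at h5
      exact h5
    subst h3
    cases b <;> cases b'
    · rfl
    · exfalso
      have h4 := congrArg Subtype.val heq
      rw [hE1, hE2] at h4
      exact hne η h4.symm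
    · exfalso
      have h4 := congrArg Subtype.val heq
      rw [hE1, hE2] at h4
      exact hne η h4
    · rfl
  have hsum := Fintype.sum_of_injective E hEinj (fun p => ((E p).1 : W → ℂ) (i x * c) * conj (((E p).1 : W → ℂ) (i x * c)))
    (fun χ => (χ.1 : W → ℂ) (i x * c) * conj ((χ.1 : W → ℂ) (i x * c))) (by
      intro χ hχ
      by_cases h0 : (χ.1 : W → ℂ) (i x * c) = 0
      · change (χ.1 : W → ℂ) (i x * c) * _ = 0
        rw [h0, zero_mul]
      · exfalso
        rcases hres χ.1 with ⟨b1, b2⟩ | ⟨b1, -⟩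
        · have h3 : (χ.1 : W → ℂ) (i x) ≠ 0 := fun h4 => h0 (e.van χ.1 χ.2 h4)
          let η : IA j i lam x c := ⟨⟨_, b1⟩, over_res χ.1 χ.2, h3, b2⟩
          rcases huniq η χ.1 (fun t => rfl) with h4 | h4
          · exact hχ ⟨(η, true), Subtype.ext h4.symm⟩
          · exact hχ ⟨(η, false), Subtype.ext h4.symm⟩
        · exact h0 (b1 _ hxc)) (fun p => rfl)
  have hcol' := hcol
  rw [← hsum, e.card, Fintype.sum_prod_type] at hcol'
  have h3 : ∀ η : IA j i lam x c, ∑ b : Bool, ((E (η, b)).1 : W → ℂ) (i x * c) * conj (((E (η, b)).1 : W → ℂ) (i x * c)) =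
      2 * ((δ η ^ 2 : ℤ) : ℂ) := by
    intro η
    rw [Fintype.sum_bool, hE1, hE2, hneg, hδ]
    simp only [map_neg, map_mul, map_intCast]
    push_cast
    linear_combination 2 * (δ η : ℂ) ^ 2 * hm
  have h4 : ∑ η : IA j i lam x c, δ η ^ 2 = n := by
    have h5 : (Nat.card Z : ℂ) * ∑ η : IA j i lam x c, 2 * ((δ η ^ 2 : ℤ) : ℂ) = ((2 * n * Nat.card Z : ℕ) : ℂ) := by
      rw [← hcol']
      congr 1
      apply Finset.sum_congr rfl
      intro η _
      exact (h3 η).symm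
    rw [← Finset.mul_sum, ← Int.cast_sum] at h5
    have h6 : (Nat.card Z : ℂ) ≠ 0 := by
      exact_mod_cast Nat.card_pos.ne'
    have h7 : ((∑ η : IA j i lam x c, δ η ^ 2 : ℤ) : ℂ) = ((n : ℤ) : ℂ) := by
      push_cast at h5 ⊢
      apply mul_left_cancel₀ h6
      linear_combination h5 / 2
    exact_mod_cast h7
  have hwx : ∀ η, ((w η : ℤ) : ℂ) = (η.1 : A → ℂ) x := by
    intro η
    rw [← hw η, hX]
  have he : Even (δ t) := by
    have h5 : w t = 2 ∨ w t = -2 := by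
      rcases ht with h6 | h6
      · left; have := hwx t; rw [h6] at this; exact_mod_cast this
      · right; have := hwx t; rw [h6] at this; exact_mod_cast this
    obtain ⟨r, hr⟩ := hpar t
    rcases h5 with h6 | h6 <;> rw [h6] at hr
    · exact ⟨1 - r, by omega⟩
    · exact ⟨-1 - r, by omega⟩
  have ho : ∀ η, η ≠ t → Odd (δ η) := by
    intro η hη
    have h5 : w η = 1 ∨ w η = -1 := by
      rcases hother η hη with h6 | h6
      · left; have := hwx η; rw [h6] at this; exact_mod_cast this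
      · right; have := hwx η; rw [h6] at this; exact_mod_cast this
    obtain ⟨r, hr⟩ := hpar η
    rcases h5 with h6 | h6 <;> rw [h6] at hr
    · exact ⟨-r, by omega⟩
    · exact ⟨-r - 1, by omega⟩
  have hk' : Fintype.card (IA j i lam x c) = k + 1 := by rw [← hk, Nat.card_eq_fintype_card]
  obtain ⟨c1, c2⟩ := comb δ t k hk' hko hk5 he ho n h4
  rw [← Nat.card_eq_fintype_card] at c1 c2
  refine ⟨k, t, δ, hk, c1, ?_, ?_, ht, hother, hall⟩
  · intro hn
    rcases c2 hn with ⟨d1, d2⟩ | d1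
    · exact Or.inl ⟨d1, by omega, d2⟩
    · exact Or.inr d1
  · intro η χ hχ
    rcases huniq η χ hχ with h5 | h5
    · left; rw [h5, hδ]
    · right; rw [h5, hneg, hδ]

theorem two3_of (h : Pair j i) (e : Elt j i lam x c d zc m 3) (s : Six j lam x) (hres : ResCases i c)
    (hext : ExistsExt i c) (hcol : ColSelf (i.comp j) lam (i x * c)) :
    Nat.card {η : IrrCharacter A // Over j lam (η : A → ℂ) ∧ (η : A → ℂ) x ≠ 0 ∧ _root_.Cfsg.Agent.H155.TI.Inv i c (η : A → ℂ)} = 4 ∧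
      ∀ χ : IrrCharacter W, Over (i.comp j) lam (χ : W → ℂ) → (χ : W → ℂ) (i x) ^ 2 = 4 →
        (χ : W → ℂ) (i x * c) = 0 := by
  obtain ⟨k, t, δ, h1, h2, -, hv, ht, hother, hall⟩ := main_count h e s hres hext hcol
  refine ⟨(h2 rfl).1, fun χ ho h4 => ?_⟩
  have hxc := xc_notMem e
  rcases hres χ with ⟨b1, b2⟩ | ⟨b1, -⟩
  · have hx : (χ : W → ℂ) (i x) ≠ 0 := by
      intro h5
      rw [h5] at h4
      norm_num at h4
    let η : IA j i lam x c := ⟨⟨_, b1⟩, over_res χ ho, hx, b2⟩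
    have hη : η = t := by
      by_contra hη
      have h8 : (χ : W → ℂ) (i x) = (η.1 : A → ℂ) x := rfl
      rcases hother η hη with h9 | h9 <;> rw [h8, h9] at h4 <;> norm_num at h4
    rcases hv η χ (fun a => rfl) with h6 | h6
    · rw [h6, hη, (h2 rfl).2]; simp
    · rw [h6, hη, (h2 rfl).2]; simp
  · exact b1 _ hxc

theorem two9_of (h : Pair j i) (e : Elt j i lam x c d zc m 9) (s : Six j lam x) (hres : ResCases i c)
    (hext : ExistsExt i c) (hcol : ColSelf (i.comp j) lam (i x * c)) :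
    (Nat.card {η : IrrCharacter A // Over j lam (η : A → ℂ) ∧ (η : A → ℂ) x ≠ 0 ∧ _root_.Cfsg.Agent.H155.TI.Inv i c (η : A → ℂ)} = 6 ∧
      ∀ χ : IrrCharacter W, Over (i.comp j) lam (χ : W → ℂ) → (χ : W → ℂ) (i x) ≠ 0 →
        ∃ k : ℤ, (χ : W → ℂ) (i x * c) = m * k ∧ ¬ 3 ∣ k) ∨
    (Nat.card {η : IrrCharacter A // Over j lam (η : A → ℂ) ∧ (η : A → ℂ) x ≠ 0 ∧ _root_.Cfsg.Agent.H155.TI.Inv i c (η : A → ℂ)} = 2 ∧
      ∀ χ : IrrCharacter W, Over (i.comp j) lam (χ : W → ℂ) →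
        ((χ : W → ℂ) (i x * c) = 0 ∨ (χ : W → ℂ) (i x * c) = 3 * m ∨ (χ : W → ℂ) (i x * c) = -(3 * m)) ∧
        (IsIrrCharacter A (fun t => (χ : W → ℂ) (i t)) → (χ : W → ℂ) (i x) ^ 2 = 1 → (χ : W → ℂ) (i x * c) ≠ 0) ∧
        ((χ : W → ℂ) (i x) ^ 2 = 4 → (χ : W → ℂ) (i x * c) = 0)) := by
  obtain ⟨k, t, δ, h1, -, h2, hv, ht, hother, hall⟩ := main_count h e s hres hext hcol
  have hxc := xc_notMem e
  have hm0 := m_ne_zero e
  rcases h2 rfl with ⟨h3, h4, h5⟩ | ⟨h3, h4, h5⟩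
  · left
    refine ⟨h3, fun χ ho hx => ?_⟩
    rcases hres χ with ⟨b1, b2⟩ | ⟨-, η, η', b2, b3, b4, b5⟩
    · let η : IA j i lam x c := ⟨⟨_, b1⟩, over_res χ ho, hx, b2⟩
      rcases hv η χ (fun a => rfl) with h6 | h6
      · exact ⟨δ η, h6, h5 η⟩
      · exact ⟨-δ η, by rw [h6]; push_cast; ring, fun h7 => h5 η ((Int.dvd_neg).1 h7)⟩
    · exfalso
      apply b5
      have h6 : (η : A → ℂ) x = (η' : A → ℂ) x := b4 x x (by rw [e.cx, mul_inv_cancel_right])
      apply hall h4 η (over_of_red h χ ho η η' b3 b4)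
      intro h7
      apply hx
      rw [b3, ← h6, h7, add_zero]
  · right
    refine ⟨h3, fun χ ho => ?_⟩
    rcases hres χ with ⟨b1, b2⟩ | ⟨b1, η, η', b2, b3, b4, b5⟩
    · by_cases hx : (χ : W → ℂ) (i x) = 0
      · have h6 := e.van χ ho hx
        refine ⟨Or.inl h6, fun _ h7 => ?_, fun _ => h6⟩
        rw [hx] at h7
        norm_num at h7
      · let η : IA j i lam x c := ⟨⟨_, b1⟩, over_res χ ho, hx, b2⟩
        by_cases hη : η = t
        · have h6 : (χ : W → ℂ) (i x * c) = 0 := by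
            rcases hv η χ (fun a => rfl) with h6 | h6
            · rw [h6, hη, h4]; simp
            · rw [h6, hη, h4]; simp
          refine ⟨Or.inl h6, fun _ h7 => ?_, fun _ => h6⟩
          exfalso
          have h8 : (χ : W → ℂ) (i x) = (t.1 : A → ℂ) x := by rw [← hη]
          rcases ht with h9 | h9 <;> rw [h8, h9] at h7 <;> norm_num at h7
        · have h6 : (χ : W → ℂ) (i x * c) = 3 * m ∨ (χ : W → ℂ) (i x * c) = -(3 * m) := by
            rcases hv η χ (fun a => rfl) with h6 | h6 <;> rcases h5 η hη with h7 | h7 <;> rw [h6, h7]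
            · left; push_cast; ring
            · right; push_cast; ring
            · right; push_cast; ring
            · left; push_cast; ring
          refine ⟨Or.inr h6, fun _ _ => ?_, fun h7 => ?_⟩
          · rcases h6 with h6 | h6 <;> rw [h6]
            · exact mul_ne_zero (by norm_num) hm0
            · exact neg_ne_zero.2 (mul_ne_zero (by norm_num) hm0)
          · exfalso
            have h8 : (χ : W → ℂ) (i x) = (η.1 : A → ℂ) x := rfl
            rcases hother η hη with h9 | h9 <;> rw [h8, h9] at h7 <;> norm_num at h7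
    · have h6 := b1 _ hxc
      refine ⟨Or.inl h6, fun hirr _ => ?_, fun _ => h6⟩
      exfalso
      -- the restriction is not irreducible
      have hA : Finite A := Finite.of_injective i h.ii
      have hF : Nonempty (Fintype A) := ⟨Fintype.ofFinite A⟩
      obtain ⟨_⟩ := hF
      have e1 : (fun t => (χ : W → ℂ) (i t)) = (η : A → ℂ) + (η' : A → ℂ) := funext b3
      have hne : (η : A → ℂ) ≠ (η' : A → ℂ) := fun h7 => b2 (Subtype.ext h7)
      have e2 : classInner (fun t => (χ : W → ℂ) (i t)) (η : A → ℂ) = 1 := by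
        rw [e1, classInner_add_left, classInner_irr_self η.2, classInner_irr_ne η'.2 η.2 hne.symm, add_zero]
      have e3 : classInner (fun t => (χ : W → ℂ) (i t)) (η' : A → ℂ) = 1 := by
        rw [e1, classInner_add_left, classInner_irr_self η'.2, classInner_irr_ne η.2 η'.2 hne, zero_add]
      have e4 : (fun t => (χ : W → ℂ) (i t)) = (η : A → ℂ) := by
        by_contra h7
        rw [classInner_irr_ne hirr η.2 h7] at e2
        norm_num at e2
      have e5 : (fun t => (χ : W → ℂ) (i t)) = (η' : A → ℂ) := by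
        by_contra h7
        rw [classInner_irr_ne hirr η'.2 h7] at e3
        norm_num at e3
      exact hne (e4.symm.trans e5)

end Cfsg.Agent.H395.TI34
end

-- part: H395/TI34/Final
section
/-!
# Row `PSL₃(4)` of S4819, S4820, piece c : final form
-/

set_option autoImplicit false

namespace Cfsg.Agent.H395.TI34

open Cfsg Cfsg.Agent.H155.TI Cfsg.Agent.Characters.Central Cfsg.Agent.Characters.Core
open scoped ComplexConjugate

universe u

variable {Z A W : Type u} [Group Z] [Group A] [Group W] [Finite W]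

theorem lam_conj [Finite Z] (lam : Z →* ℂˣ) (z : Z) : ((lam z : ℂˣ) : ℂ) * conj ((lam z : ℂˣ) : ℂ) = 1 := by
  have h1 : ((lam z : ℂˣ) : ℂ) ^ Nat.card Z = 1 := by
    rw [← Units.val_pow_eq_pow_val, ← map_pow, pow_card_eq_one', map_one, Units.val_one]
  have h2 : ‖(lam z : ℂ)‖ = 1 := Complex.norm_eq_one_of_pow_eq_one h1 Nat.card_pos.ne'
  rw [Complex.mul_conj, Complex.normSq_eq_norm_sq, h2]
  norm_num

/-- `col_self` (piece b), the version in which `y` is not conjugate to `z y` for `z ≠ 1` -/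
theorem col_self_one {j : Z →* W} (hj : Function.Injective j) (hZ : ∀ z w, j z * w = w * j z) (lam : Z →* ℂˣ) (y : W)
    (hy : ∀ z : Z, IsConj y (j z * y) → z = 1) [Fintype {χ : IrrCharacter W // Over j lam (χ : W → ℂ)}] :
    (Nat.card Z : ℂ) * ∑ χ : {χ : IrrCharacter W // Over j lam (χ : W → ℂ)}, (χ.1 : W → ℂ) y * conj ((χ.1 : W → ℂ) y) =
      Nat.card (Subgroup.centralizer ({y} : Set W)) := by
  classical
  haveI : Finite Z := Finite.of_injective j hj
  letI : Fintype Z := Fintype.ofFinite Z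
  haveI : Finite (IrrCharacter W) := finite_irr
  letI : Fintype (IrrCharacter W) := Fintype.ofFinite _
  have h1 : ∑ z : Z, conj ((lam z : ℂˣ) : ℂ) * ∑ χ : IrrCharacter W, (χ : W → ℂ) (j z * y) * conj ((χ : W → ℂ) y) =
      Nat.card (Subgroup.centralizer ({y} : Set W)) := by
    rw [Finset.sum_eq_single 1]
    · rw [map_one, map_one, one_mul, Units.val_one, map_one, one_mul, ← S0848.column_orth]
      congr 1
      apply Nat.card_congr
      refine ⟨fun a => ⟨a.1, ?_⟩, fun a => ⟨a.1, ?_⟩, fun a => rfl, fun a => rfl⟩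
      · rw [Subgroup.mem_centralizer_singleton_iff]
        exact mul_inv_eq_iff_eq_mul.1 a.2
      · have := Subgroup.mem_centralizer_singleton_iff.1 a.2
        exact mul_inv_eq_iff_eq_mul.2 this
    · intro z _ hz
      rw [← S0848.column_orth]
      have h2 : IsEmpty {a : W // a * (j z * y) * a⁻¹ = y} := by
        constructor
        rintro ⟨a, ha⟩
        apply hz
        apply hy
        rw [isConj_comm, isConj_iff]
        exact ⟨a, ha⟩
      rw [Nat.card_of_isEmpty, Nat.cast_zero, mul_zero]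
    · intro h2
      exact absurd (Finset.mem_univ _) h2
  rw [← h1]
  simp only [Finset.mul_sum]
  rw [Finset.sum_comm]
  have h3 : ∀ χ : IrrCharacter W, ∑ z : Z, conj ((lam z : ℂˣ) : ℂ) * ((χ : W → ℂ) (j z * y) * conj ((χ : W → ℂ) y)) =
      if Over j lam (χ : W → ℂ) then (Nat.card Z : ℂ) * ((χ : W → ℂ) y * conj ((χ : W → ℂ) y)) else 0 := by
    intro χ
    split_ifs with ho
    · have h4 : ∀ z : Z, conj ((lam z : ℂˣ) : ℂ) * ((χ : W → ℂ) (j z * y) * conj ((χ : W → ℂ) y)) =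
          (χ : W → ℂ) y * conj ((χ : W → ℂ) y) := by
        intro z
        rw [ho]
        linear_combination ((χ : W → ℂ) y * conj ((χ : W → ℂ) y)) * lam_conj lam z
      rw [Finset.sum_congr rfl (fun z _ => h4 z), Finset.sum_const, Finset.card_univ, nsmul_eq_mul,
        Nat.card_eq_fintype_card]
    · set S : W → ℂ := fun w => ∑ z : Z, conj ((lam z : ℂˣ) : ℂ) * (χ : W → ℂ) (j z * w) with hS
      have h4 : S y = 0 := by
        by_contra hne
        apply ho
        intro z0 w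
        have h5 : S (j z0 * y) = ((lam z0 : ℂˣ) : ℂ) * S y := by
          simp only [hS]
          rw [Finset.mul_sum]
          apply Fintype.sum_equiv (Equiv.mulRight z0)
          intro z
          change conj ((lam z : ℂˣ) : ℂ) * (χ : W → ℂ) (j z * (j z0 * y)) =
            ((lam z0 : ℂˣ) : ℂ) * (conj ((lam (z * z0) : ℂˣ) : ℂ) * (χ : W → ℂ) (j (z * z0) * y))
          rw [map_mul, map_mul, Units.val_mul, map_mul, mul_assoc (j z)]
          linear_combination -(conj ((lam z : ℂˣ) : ℂ) * (χ : W → ℂ) (j z * (j z0 * y))) * lam_conj lam z0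
        have h6 : S (j z0 * y) * (χ : W → ℂ) 1 = (χ : W → ℂ) (j z0) * S y := by
          simp only [hS]
          rw [Finset.sum_mul, Finset.mul_sum]
          apply Finset.sum_congr rfl
          intro z _
          have h7 := irr_central χ (j z0) (hZ z0) (j z * y)
          have h8 : j z * (j z0 * y) = j z0 * (j z * y) := by rw [← mul_assoc, ← mul_assoc, hZ z (j z0)]
          rw [h8]
          linear_combination (conj ((lam z : ℂˣ) : ℂ)) * h7
        rw [h5] at h6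
        have h9 : (χ : W → ℂ) (j z0) = ((lam z0 : ℂˣ) : ℂ) * (χ : W → ℂ) 1 := by
          apply mul_right_cancel₀ hne
          linear_combination -h6
        have h10 := irr_central χ (j z0) (hZ z0) w
        rw [h9] at h10
        apply mul_right_cancel₀ (irr_one_ne χ)
        linear_combination h10
      have h5 : ∑ z : Z, conj ((lam z : ℂˣ) : ℂ) * ((χ : W → ℂ) (j z * y) * conj ((χ : W → ℂ) y)) =
          S y * conj ((χ : W → ℂ) y) := by
        simp only [hS]
        rw [Finset.sum_mul]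
        apply Finset.sum_congr rfl
        intro z _
        ring
      rw [h5, h4, zero_mul]
  rw [Finset.sum_congr rfl (fun χ _ => h3 χ), ← Finset.sum_filter]
  symm
  apply Finset.sum_subtype
  intro χ
  simp only [_root_.Finset.mem_filter, _root_.Finset.mem_univ, _root_.true_and]

variable {j : Z →* A} {i : A →* W} {lam : Z →* ℂˣ} {x : A} {c d : W} {zc : Z} {m : ℂ} {n : ℕ}

theorem colSelf (h : Pair j i) (e : Elt j i lam x c d zc m n) : ColSelf (i.comp j) lam (i x * c) := by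
  intro _
  exact col_self_one (j := i.comp j) (h.ii.comp h.ji) h.cen lam (i x * c) e.good

theorem resCases (h : Pair j i) (e : Elt j i lam x c d zc m n) : ResCases i c :=
  fun χ => Cfsg.Agent.H41.TI.res_cases h e.cA χ

theorem existsExt (h : Pair j i) (e : Elt j i lam x c d zc m n) : ExistsExt i c :=
  fun η hη => Cfsg.Agent.H41.TI.exists_ext h e.cA η hη

/-- **L34-c**, `two3` -/
theorem two3 (h : Pair j i) (e : Elt j i lam x c d zc m 3) (s : Six j lam x) :
    Nat.card {η : IrrCharacter A // Over j lam (η : A → ℂ) ∧ (η : A → ℂ) x ≠ 0 ∧ _root_.Cfsg.Agent.H155.TI.Inv i c (η : A → ℂ)} = 4 ∧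
      ∀ χ : IrrCharacter W, Over (i.comp j) lam (χ : W → ℂ) → (χ : W → ℂ) (i x) ^ 2 = 4 →
        (χ : W → ℂ) (i x * c) = 0 :=
  two3_of h e s (resCases h e) (existsExt h e) (colSelf h e)

/-- **L34-c**, `two9` -/
theorem two9 (h : Pair j i) (e : Elt j i lam x c d zc m 9) (s : Six j lam x) :
    (Nat.card {η : IrrCharacter A // Over j lam (η : A → ℂ) ∧ (η : A → ℂ) x ≠ 0 ∧ _root_.Cfsg.Agent.H155.TI.Inv i c (η : A → ℂ)} = 6 ∧
      ∀ χ : IrrCharacter W, Over (i.comp j) lam (χ : W → ℂ) → (χ : W → ℂ) (i x) ≠ 0 →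
        ∃ k : ℤ, (χ : W → ℂ) (i x * c) = m * k ∧ ¬ 3 ∣ k) ∨
    (Nat.card {η : IrrCharacter A // Over j lam (η : A → ℂ) ∧ (η : A → ℂ) x ≠ 0 ∧ _root_.Cfsg.Agent.H155.TI.Inv i c (η : A → ℂ)} = 2 ∧
      ∀ χ : IrrCharacter W, Over (i.comp j) lam (χ : W → ℂ) →
        ((χ : W → ℂ) (i x * c) = 0 ∨ (χ : W → ℂ) (i x * c) = 3 * m ∨ (χ : W → ℂ) (i x * c) = -(3 * m)) ∧
        (IsIrrCharacter A (fun t => (χ : W → ℂ) (i t)) → (χ : W → ℂ) (i x) ^ 2 = 1 → (χ : W → ℂ) (i x * c) ≠ 0) ∧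
        ((χ : W → ℂ) (i x) ^ 2 = 4 → (χ : W → ℂ) (i x * c) = 0)) :=
  two9_of h e s (resCases h e) (existsExt h e) (colSelf h e)

end Cfsg.Agent.H395.TI34
end

-- part: H155/TI/Res
section
/-!
# The row `PSL₃(4)`: the index 2 step for `L ∩ K < L⟨e⟩ ∩ K` (helper155)
-/

set_option autoImplicit false
set_option linter.unusedSectionVars false

namespace Cfsg.Agent.H155.TI

open Cfsg Cfsg.Agent.Characters.Core
open Cfsg.Agent.H41.TI (count_pair res_cases exists_ext over_iff)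
open Cfsg.Agent.H395.TI34 (uv two3 two9)
open scoped Pointwise

universe u

section type

variable {Z A W : Type u} [Group Z] [Group A] [Group W] [Finite W] {j : Z →* A} {i : A →* W} {lam : Z →* ℂˣ}
  {x : A} {c d : W} {zc : Z} {m : ℂ} {n : ℕ}

theorem finite_left (h : Pair j i) : Finite A := Finite.of_injective _ h.ii

theorem over_of_res (h : Pair j i) (χ : IrrCharacter W) (η : IrrCharacter A)
    (he : ∀ t, (χ : W → ℂ) (i t) = (η : A → ℂ) t) (hη : Over j lam (η : A → ℂ)) :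
    Over (i.comp j) lam (χ : W → ℂ) := by
  have := finite_left h
  have ht := Fintype.ofFinite A
  refine (over_iff h χ η ht lam ?_).2 hη
  have h1 : (fun t => (χ : W → ℂ) (i t)) = (η : A → ℂ) := funext he
  rw [h1, classInner_irr_self η.2]
  exact one_ne_zero

/-- the members with nonzero value: six -/
theorem Six.card_ne [Finite A] (s : Six j lam x) :
    Nat.card {η : IrrCharacter A // Over j lam (η : A → ℂ) ∧ (η : A → ℂ) x ≠ 0} = 6 := by
  classical
  have := finite_irr (G := A)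
  have h1 : Nat.card {η : IrrCharacter A // Over j lam (η : A → ℂ) ∧ (η : A → ℂ) x ≠ 0} =
      Nat.card {η : IrrCharacter A // Over j lam (η : A → ℂ) ∧ ((η : A → ℂ) x = 1 ∨ (η : A → ℂ) x = -1)} +
      Nat.card {η : IrrCharacter A // Over j lam (η : A → ℂ) ∧ ((η : A → ℂ) x = 2 ∨ (η : A → ℂ) x = -2)} := by
    rw [← Nat.card_sum]
    symm
    refine Nat.card_congr (Equiv.ofBijective (fun t => t.elim
      (fun η => (⟨η.1, η.2.1, by rcases η.2.2 with h | h <;> rw [h] <;> norm_num⟩ :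
        {η : IrrCharacter A // Over j lam (η : A → ℂ) ∧ (η : A → ℂ) x ≠ 0}))
      (fun η => ⟨η.1, η.2.1, by rcases η.2.2 with h | h <;> rw [h] <;> norm_num⟩)) ⟨?_, ?_⟩)
    · rintro (η | η) (η' | η') h
      · have h2 := congrArg Subtype.val h
        have h3 : η.1 = η'.1 := h2
        exact congrArg _ (Subtype.ext h3)
      · exfalso
        have h2 : η.1 = η'.1 := congrArg Subtype.val h
        have h3 := η.2.2
        have h4 := η'.2.2
        rw [← h2] at h4
        rcases h3 with h3 | h3 <;> rcases h4 with h4 | h4 <;> rw [h3] at h4 <;> norm_num at h4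
      · exfalso
        have h2 : η.1 = η'.1 := congrArg Subtype.val h
        have h3 := η.2.2
        have h4 := η'.2.2
        rw [← h2] at h4
        rcases h3 with h3 | h3 <;> rcases h4 with h4 | h4 <;> rw [h3] at h4 <;> norm_num at h4
      · have h2 := congrArg Subtype.val h
        have h3 : η.1 = η'.1 := h2
        exact congrArg _ (Subtype.ext h3)
    · rintro ⟨η, hη, hne⟩
      obtain ⟨w, hw, hw2⟩ := s.int η hη
      have h5 : w ≠ 0 := fun h => hne (by rw [hw, h, Int.cast_zero])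
      rcases (show w = 1 ∨ w = -1 ∨ w = 2 ∨ w = -2 by
        rw [abs_le] at hw2; omega) with h | h | h | h
      · exact ⟨Sum.inl ⟨η, hη, Or.inl (by rw [hw, h]; norm_num)⟩, rfl⟩
      · exact ⟨Sum.inl ⟨η, hη, Or.inr (by rw [hw, h]; norm_num)⟩, rfl⟩
      · exact ⟨Sum.inr ⟨η, hη, Or.inl (by rw [hw, h]; norm_num)⟩, rfl⟩
      · exact ⟨Sum.inr ⟨η, hη, Or.inr (by rw [hw, h]; norm_num)⟩, rfl⟩
  rw [h1, s.five, s.one]

/-- the count from the number of invariant members -/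
theorem nz_of_card (h : Pair j i) (hc : c ∉ i.range) (hcx : c * i x = i x * c) (s : Six j lam x) {f : ℕ}
    (hf : Nat.card {η : IrrCharacter A // Over j lam (η : A → ℂ) ∧ (η : A → ℂ) x ≠ 0 ∧ Inv i c (η : A → ℂ)} = f) :
    2 * nz (i.comp j) lam (i x) = 3 * f + 6 := by
  classical
  have := finite_left h
  have := finite_irr (G := A)
  have h1 := count_pair h hc lam hcx
  have h2 : Nat.card {η : IrrCharacter A // Over j lam (η : A → ℂ) ∧ (η : A → ℂ) x ≠ 0} =
      Nat.card {η : IrrCharacter A // Over j lam (η : A → ℂ) ∧ (η : A → ℂ) x ≠ 0 ∧ Inv i c (η : A → ℂ)} +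
      Nat.card {η : IrrCharacter A // Over j lam (η : A → ℂ) ∧ (η : A → ℂ) x ≠ 0 ∧ ¬ Inv i c (η : A → ℂ)} := by
    rw [← Nat.card_sum]
    refine Nat.card_congr ⟨fun η => if h : Inv i c (η.1 : A → ℂ) then Sum.inl ⟨η.1, η.2.1, η.2.2, h⟩ else
      Sum.inr ⟨η.1, η.2.1, η.2.2, h⟩, fun t => t.elim (fun η => ⟨η.1, η.2.1, η.2.2.1⟩) (fun η => ⟨η.1, η.2.1, η.2.2.1⟩),
      fun η => ?_, fun t => ?_⟩
    · by_cases h : Inv i c (η.1 : A → ℂ)
      · simp only [h, ↓reduceDIte, Sum.elim_inl]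
      · simp only [h, ↓reduceDIte, Sum.elim_inr]
    · rcases t with η | η
      · have h := η.2.2.2
        simp only [Sum.elim_inl, h, ↓reduceDIte]
      · have h := η.2.2.2
        simp only [Sum.elim_inr, h, ↓reduceDIte]
  rw [s.card_ne, hf] at h2
  rw [hf] at h1
  omega

theorem exists_m (u : ℂˣ) : ∃ m : ℂ, m ^ 2 = (u : ℂ) ∧ m ≠ 0 := by
  obtain ⟨m, hm⟩ := IsAlgClosed.exists_pow_nat_eq (u : ℂ) (n := 2) (by norm_num)
  refine ⟨m, hm, fun h => ?_⟩
  rw [h] at hm
  exact u.ne_zero (by rw [← hm]; norm_num)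

theorem Elt.m_ne (e : Elt j i lam x c d zc m n) : m ≠ 0 := by
  intro h
  have h1 := e.mm
  rw [h] at h1
  exact (lam zc).ne_zero (by rw [← h1]; norm_num)

/-- `c` fused to `z c` with `lam z ≠ 1`: two invariant members -/
theorem two9_non (h : Pair j i) (e : Elt j i lam x c d zc m 9) (s : Six j lam x) {g : W} {z : Z}
    (hg : g * c * g⁻¹ = i (j z) * c) (hz : lam z ≠ 1) :
    Nat.card {η : IrrCharacter A // Over j lam (η : A → ℂ) ∧ (η : A → ℂ) x ≠ 0 ∧ Inv i c (η : A → ℂ)} = 2 ∧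
      ∀ χ : IrrCharacter W, Over (i.comp j) lam (χ : W → ℂ) →
        ((χ : W → ℂ) (i x * c) = 0 ∨ (χ : W → ℂ) (i x * c) = 3 * m ∨ (χ : W → ℂ) (i x * c) = -(3 * m)) ∧
        (IsIrrCharacter A (fun t => (χ : W → ℂ) (i t)) → (χ : W → ℂ) (i x) ^ 2 = 1 → (χ : W → ℂ) (i x * c) ≠ 0) ∧
        ((χ : W → ℂ) (i x) ^ 2 = 4 → (χ : W → ℂ) (i x * c) = 0) := by
  have hfin := finite_left h
  rcases two9 h e s with ⟨h1, h2⟩ | h1
  · exfalso
    have hne : Nonempty {η : IrrCharacter A // Over j lam (η : A → ℂ) ∧ (η : A → ℂ) x ≠ 0 ∧ Inv i c (η : A → ℂ)} := by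
      apply not_isEmpty_iff.1
      intro h3
      rw [Nat.card_of_isEmpty] at h1
      omega
    obtain ⟨η, hη, hηx, hηc⟩ := hne
    obtain ⟨χ, -, -, hχ, -⟩ := exists_ext h e.cA η hηc
    have hχo := over_of_res h χ η hχ hη
    obtain ⟨k, hk, hk3⟩ := h2 χ hχo (by rw [hχ]; exact hηx)
    obtain ⟨u, v, p, q, -, hc, -, hxc, h3u, h3v⟩ := uv h e χ hχo
    have h4 : (χ : W → ℂ) (g * c * g⁻¹) = (χ : W → ℂ) c := isIrr_isClassFunction χ.2 c g
    have h5 := hχo z c
    rw [MonoidHom.comp_apply, ← hg, h4] at h5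
    have h6 : (χ : W → ℂ) c = 0 := by
      have h7 : ((lam z : ℂ) - 1) * (χ : W → ℂ) c = 0 := by linear_combination -h5
      rcases mul_eq_zero.1 h7 with h8 | h8
      · exact absurd (Units.ext (by rw [Units.val_one]; linear_combination h8)) hz
      · exact h8
    have hm := e.m_ne
    have h7 : (p : ℂ) = q := by
      rw [h6] at hc
      rcases mul_eq_zero.1 hc.symm with h8 | h8
      · exact absurd h8 hm
      · linear_combination h8
    have h8 : p = q := by exact_mod_cast h7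
    have h9 : (k : ℂ) = ((u - v : ℤ) : ℂ) := by
      rw [hk] at hxc
      push_cast
      exact mul_left_cancel₀ hm hxc
    have h10 : k = u - v := by exact_mod_cast h9
    apply hk3
    rw [h10]
    omega
  · exact h1

/-- neutral case: six invariant members -/
theorem two9_neu (h : Pair j i) (e : Elt j i lam x c d zc m 9) (s : Six j lam x)
    (hnv : ∀ χ : IrrCharacter W, Over (i.comp j) lam (χ : W → ℂ) → ¬ 3 ∣ charDegree (χ : W → ℂ) →
      ∃ k : ℤ, (χ : W → ℂ) c = m * k ∧ ¬ (3 : ℤ) ∣ k) :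
    Nat.card {η : IrrCharacter A // Over j lam (η : A → ℂ) ∧ (η : A → ℂ) x ≠ 0 ∧ Inv i c (η : A → ℂ)} = 6 ∧
      ∀ χ : IrrCharacter W, Over (i.comp j) lam (χ : W → ℂ) → (χ : W → ℂ) (i x) ≠ 0 → (χ : W → ℂ) (i x * c) ≠ 0 := by
  classical
  have hfin := finite_left h
  have hm := e.m_ne
  rcases two9 h e s with ⟨h1, h2⟩ | ⟨h1, h2⟩
  · refine ⟨h1, fun χ hχ hx h0 => ?_⟩
    obtain ⟨k, hk, hk3⟩ := h2 χ hχ hx
    rw [h0] at hk
    rcases mul_eq_zero.1 hk.symm with h3 | h3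
    · exact hm h3
    · exact hk3 (by rw [Int.cast_eq_zero] at h3; rw [h3]; exact dvd_zero _)
  · exfalso
    have := finite_irr (G := A)
    -- an invariant member with value ±1
    have hex : ∃ η : IrrCharacter A, Over j lam (η : A → ℂ) ∧ Inv i c (η : A → ℂ) ∧ ((η : A → ℂ) x) ^ 2 = 1 := by
      by_contra hno
      push Not at hno
      have h3 : Nat.card {η : IrrCharacter A // Over j lam (η : A → ℂ) ∧ (η : A → ℂ) x ≠ 0 ∧ Inv i c (η : A → ℂ)} ≤
          Nat.card {η : IrrCharacter A // Over j lam (η : A → ℂ) ∧ ((η : A → ℂ) x = 2 ∨ (η : A → ℂ) x = -2)} := by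
        refine Nat.card_le_card_of_injective (fun η => ⟨η.1, η.2.1, ?_⟩) ?_
        · obtain ⟨w, hw, hw2⟩ := s.int η.1 η.2.1
          have h4 := hno η.1 η.2.1 η.2.2.2
          have h5 : w ≠ 0 := fun h => η.2.2.1 (by rw [hw, h, Int.cast_zero])
          rw [hw] at h4 ⊢
          rcases (show w = 1 ∨ w = -1 ∨ w = 2 ∨ w = -2 by rw [abs_le] at hw2; omega) with h | h | h | h
          · exact absurd (by rw [h]; norm_num) h4
          · exact absurd (by rw [h]; norm_num) h4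
          · left; rw [h]; norm_num
          · right; rw [h]; norm_num
        · intro η η' hh
          have h5 := congrArg Subtype.val hh
          have h6 : η.1 = η'.1 := h5
          exact Subtype.ext h6
      rw [h1, s.one] at h3
      omega
    obtain ⟨η, hη, hηc, hη1⟩ := hex
    obtain ⟨χ, -, -, hχ, -⟩ := exists_ext h e.cA η hηc
    have hχo := over_of_res h χ η hχ hη
    obtain ⟨u, v, p, q, h1', hc, hx', hxc, h3u, h3v⟩ := uv h e χ hχo
    have h4 : (fun t => (χ : W → ℂ) (i t)) = (η : A → ℂ) := funext hχ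
    have h5 : (χ : W → ℂ) (i x) ^ 2 = 1 := by rw [hχ]; exact hη1
    have h6 := (h2 χ hχo).2.1 (by rw [h4]; exact η.2) h5
    have h7 := (h2 χ hχo).1
    have h8 : (u + v) ^ 2 = 1 := by
      rw [hx'] at h5
      exact_mod_cast h5
    have h9 : ((charDegree (χ : W → ℂ) : ℤ) : ℂ) = ((p + q : ℤ) : ℂ) := by
      rw [Int.cast_natCast, ← Blocks.Basic.irr_one_eq_charDegree χ.2, h1']
      push_cast
      rfl
    have h10 : (charDegree (χ : W → ℂ) : ℤ) = p + q := by exact_mod_cast h9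
    have h11 : u + v = 1 ∨ u + v = -1 := by
      have : (u + v - 1) * (u + v + 1) = 0 := by linear_combination h8
      rcases mul_eq_zero.1 this with h | h
      · left; omega
      · right; omega
    obtain ⟨k, hk, hk3⟩ := hnv χ hχo (by omega)
    have h12 : (k : ℂ) = ((p - q : ℤ) : ℂ) := by
      rw [hc] at hk
      push_cast
      exact (mul_left_cancel₀ hm hk).symm
    have h13 : k = p - q := by exact_mod_cast h12
    have h14 : u - v = 3 ∨ u - v = -3 := by
      rw [hxc] at h6 h7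
      rcases h7 with h7 | h7 | h7
      · exact absurd h7 h6
      · left
        have : ((u - v : ℤ) : ℂ) = ((3 : ℤ) : ℂ) := by
          push_cast
          apply mul_left_cancel₀ hm
          rw [h7]; ring
        exact_mod_cast this
      · right
        have : ((u - v : ℤ) : ℂ) = ((-3 : ℤ) : ℂ) := by
          push_cast
          apply mul_left_cancel₀ hm
          rw [h7]; ring
        exact_mod_cast this
    apply hk3
    rw [h13]
    omega

end type

end Cfsg.Agent.H155.TI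
end

-- part: H155/TI/FourNon
section
/-!
# The row `PSL₃(4)`: the index 4 step, `c` not neutral (helper155)
-/

set_option autoImplicit false
set_option linter.unusedSectionVars false
set_option linter.unusedVariables false

namespace Cfsg.Agent.H155.TI

open Cfsg Cfsg.Agent.Characters.Core Cfsg.Agent.Characters.Clifford
open Cfsg.Agent.H41.TI (count_pair res_cases exists_ext over_iff nrm)

universe u

section conj

variable {Z A V : Type u} [Group Z] [Group A] [Group V] [Finite A] {j : Z →* A} {ι : A →* V} {lam : Z →* ℂˣ}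
  {x : A} {v w : V}

/-- conjugation by `v` -/
theorem exists_conjA (hι : Function.Injective ι) (hn : ∀ a, ∃ a', ι a' = v * ι a * v⁻¹) :
    ∃ ρ : A ≃* A, ∀ a, ι (ρ a) = v * ι a * v⁻¹ := by
  choose f hf using hn
  have hm : ∀ a b, f (a * b) = f a * f b := by
    intro a b
    apply hι
    rw [hf, map_mul, map_mul, hf, hf]; group
  have hinj : Function.Injective f := by
    intro a b hab
    apply hι
    have h1 : v * ι a * v⁻¹ = v * ι b * v⁻¹ := by rw [← hf, ← hf, hab]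
    exact mul_left_cancel (mul_right_cancel h1)
  refine ⟨MulEquiv.ofBijective (MonoidHom.mk' f hm) (Finite.injective_iff_bijective.1 hinj), hf⟩

/-- the conjugate of a character -/
theorem exists_conjChar (hι : Function.Injective ι) (hn : ∀ a, ∃ a', ι a' = v * ι a * v⁻¹) (η : IrrCharacter A) :
    ∃ η' : IrrCharacter A, ∀ a a', ι a' = v * ι a * v⁻¹ → (η' : A → ℂ) a = (η : A → ℂ) a' := by
  obtain ⟨ρ, hρ⟩ := exists_conjA hι hn
  refine ⟨⟨(η : A → ℂ) ∘ ρ, isIrr_comp ρ.toMonoidHom ρ.surjective η.2⟩, fun a a' ha => ?_⟩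
  have h1 : a' = ρ a := hι (by rw [ha, hρ])
  rw [h1]
  rfl

theorem conj_over (hι : Function.Injective ι) (hn : ∀ a, ∃ a', ι a' = v * ι a * v⁻¹)
    (hz : ∀ z, ι (j z) * v = v * ι (j z)) {η η' : IrrCharacter A}
    (h : ∀ a a', ι a' = v * ι a * v⁻¹ → (η' : A → ℂ) a = (η : A → ℂ) a') (ho : Over j lam (η : A → ℂ)) :
    Over j lam (η' : A → ℂ) := by
  intro z a
  obtain ⟨a', ha'⟩ := hn a
  rw [h a a' ha', h (j z * a) (j z * a') ?_, ho z a']
  rw [map_mul, map_mul, ha']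
  have h3 : v * (ι (j z) * ι a) * v⁻¹ = (v * ι (j z)) * ι a * v⁻¹ := by group
  rw [h3, ← hz]; group

theorem inv_of_eq {η η' : IrrCharacter A} (h : ∀ a a', ι a' = v * ι a * v⁻¹ → (η' : A → ℂ) a = (η : A → ℂ) a')
    (he : η' = η) : Inv ι v (η : A → ℂ) := by
  intro a a' ha
  rw [← h a a' ha, he]

/-- the special member is invariant -/
theorem special_inv (s : Six j lam x) (hι : Function.Injective ι) (hn : ∀ a, ∃ a', ι a' = v * ι a * v⁻¹)
    (hz : ∀ z, ι (j z) * v = v * ι (j z)) (hx : v * ι x = ι x * v) {η : IrrCharacter A} (ho : Over j lam (η : A → ℂ))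
    (h4 : (η : A → ℂ) x ^ 2 = 4) : Inv ι v (η : A → ℂ) := by
  obtain ⟨η', h⟩ := exists_conjChar hι hn η
  have ho' := conj_over hι hn hz h ho
  have hx' : (η' : A → ℂ) x = (η : A → ℂ) x := h x x (by rw [hx, mul_inv_cancel_right])
  have hsq : ∀ u : ℂ, u ^ 2 = 4 → u = 2 ∨ u = -2 := by
    intro u hu
    have h1 : (u - 2) * (u + 2) = 0 := by linear_combination hu
    rcases mul_eq_zero.1 h1 with h2 | h2
    · left; linear_combination h2
    · right; linear_combination h2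
  have h1 := s.one
  have h2 : Subsingleton {η : IrrCharacter A // Over j lam (η : A → ℂ) ∧ ((η : A → ℂ) x = 2 ∨ (η : A → ℂ) x = -2)} :=
    (Nat.card_eq_one_iff_unique.1 h1).1
  have h3 := h2.elim ⟨η', ho', hsq _ (by rw [hx']; exact h4)⟩ ⟨η, ho, hsq _ h4⟩
  have h5 : η' = η := congrArg Subtype.val h3
  exact inv_of_eq h h5

end conj

section four

variable {Z A B W : Type u} [Group Z] [Group A] [Group B] [Group W] [Finite W] {j : Z →* A} {i : A →* B} {k : B →* W}
  {lam : Z →* ℂˣ} {x : A} {c : B} {r : W} {zr : Z}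

variable (q : Quad j i k x c r zr)
include q

omit q in
theorem Six.dich (s : Six j lam x) {η : IrrCharacter A} (ho : Over j lam (η : A → ℂ)) (hx : (η : A → ℂ) x ≠ 0) :
    (η : A → ℂ) x ^ 2 = 1 ∨ (η : A → ℂ) x ^ 2 = 4 := by
  obtain ⟨w, hw, hw2⟩ := s.int η ho
  have h5 : w ≠ 0 := fun h => hx (by rw [hw, h, Int.cast_zero])
  rw [hw]
  rcases (show w = 1 ∨ w = -1 ∨ w = 2 ∨ w = -2 by rw [abs_le] at hw2; omega) with h | h | h | h
  · left; rw [h]; norm_num
  · left; rw [h]; norm_num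
  · right; rw [h]; norm_num
  · right; rw [h]; norm_num

omit q in
theorem Six.uniq (s : Six j lam x) {η η' : IrrCharacter A} (ho : Over j lam (η : A → ℂ)) (ho' : Over j lam (η' : A → ℂ))
    (h : (η : A → ℂ) x ^ 2 = 4) (h' : (η' : A → ℂ) x ^ 2 = 4) : η = η' := by
  have hsq : ∀ u : ℂ, u ^ 2 = 4 → u = 2 ∨ u = -2 := by
    intro u hu
    have h1 : (u - 2) * (u + 2) = 0 := by linear_combination hu
    rcases mul_eq_zero.1 h1 with h2 | h2
    · left; linear_combination h2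
    · right; linear_combination h2
  have h2 := (Nat.card_eq_one_iff_unique.1 s.one).1
  have h3 := h2.elim ⟨η, ho, hsq _ h⟩ ⟨η', ho', hsq _ h'⟩
  exact congrArg Subtype.val h3

omit q in
theorem Six.exists_special (s : Six j lam x) : ∃ η : IrrCharacter A, Over j lam (η : A → ℂ) ∧ (η : A → ℂ) x ^ 2 = 4 := by
  obtain ⟨η, ho, h⟩ := (Nat.card_eq_one_iff_unique.1 s.one).2
  refine ⟨η, ho, ?_⟩
  rcases h with h | h <;> rw [h] <;> norm_num

theorem Quad.nrmA : ∀ a, ∃ a', i a' = c * i a * c⁻¹ := by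
  intro a
  have := q.finB
  have h1 : c * i a * c⁻¹ ∈ i.range := (nrm q.h1).conj_mem _ ⟨a, rfl⟩ c
  exact h1

theorem Quad.kinj : Function.Injective (k.comp i) := q.h2.ii.comp q.h1.ii

/-- invariance under `c` seen in `W` -/
theorem Quad.inv_c {η : A → ℂ} : Inv (k.comp i) (k c) η ↔ Inv i c η := by
  constructor
  · intro h a a' ha
    refine h a a' ?_
    rw [MonoidHom.comp_apply, ha, map_mul, map_mul, map_inv]
    rfl
  · intro h a a' ha
    refine h a a' (q.h2.ii ?_)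
    rw [map_mul, map_mul, map_inv]
    exact ha

/-- `r k(c) y k(c)⁻¹ r⁻¹ = k(c) r y r⁻¹ k(c)⁻¹` -/
theorem Quad.swap (y : W) : r * (k c * y * (k c)⁻¹) * r⁻¹ = k c * (r * y * r⁻¹) * (k c)⁻¹ := by
  have h1 : r * k c = k (i (j zr)) * (k c * r) := by
    have := q.rc
    rw [mul_inv_eq_iff_eq_mul] at this
    rw [this, mul_assoc]
  have h2 : r * (k c * y * (k c)⁻¹) * r⁻¹ = (r * k c) * y * (r * k c)⁻¹ := by group
  rw [h2, h1]
  have h3 : k (i (j zr)) * (k c * r) * y * (k (i (j zr)) * (k c * r))⁻¹ =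
      k (i (j zr)) * ((k c * r) * y * (k c * r)⁻¹) * (k (i (j zr)))⁻¹ := by group
  have h4 := q.h2.cen zr ((k c * r) * y * (k c * r)⁻¹)
  rw [MonoidHom.comp_apply] at h4
  rw [h3, h4]
  group

theorem Quad.inv_mul {η : A → ℂ} (h1 : Inv (k.comp i) r η) (h2 : Inv (k.comp i) (k c) η) :
    Inv (k.comp i) (k c * r) η := by
  intro a a' ha
  obtain ⟨b, hb⟩ := q.nA a
  rw [← h1 a b hb]
  refine h2 b a' ?_
  rw [ha, MonoidHom.comp_apply]
  rw [MonoidHom.comp_apply, hb]
  group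

theorem Quad.inv_of_both {η : A → ℂ} (h1 : Inv (k.comp i) r η) (h2 : Inv (k.comp i) (k c * r) η) :
    Inv (k.comp i) (k c) η := by
  have := q.finA
  obtain ⟨ρ, hρ⟩ := exists_conjA (v := r) q.kinj q.nA
  intro a a' ha
  -- a = ρ b
  obtain ⟨b, rfl⟩ := ρ.surjective a
  have h3 : (k.comp i) (ρ b) = r * (k.comp i) b * r⁻¹ := hρ b
  rw [h1 b (ρ b) h3]
  refine h2 b a' ?_
  rw [ha, h3]
  group

/-- the invariants: every member not vanishing at `x` is invariant under `r` or `c r`, the `c`-invariant ones under `r` -/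
theorem Quad.invs (s : Six j lam x)
    (hfc : Nat.card {η : IrrCharacter A // Over j lam (η : A → ℂ) ∧ (η : A → ℂ) x ≠ 0 ∧ Inv i c (η : A → ℂ)} = 2)
    (hfr : Nat.card {η : IrrCharacter A // Over j lam (η : A → ℂ) ∧ (η : A → ℂ) x ≠ 0 ∧
      Inv (k.comp i) r (η : A → ℂ)} = 4)
    (hfcr : Nat.card {η : IrrCharacter A // Over j lam (η : A → ℂ) ∧ (η : A → ℂ) x ≠ 0 ∧
      Inv (k.comp i) (k c * r) (η : A → ℂ)} = 4) :
    (∀ η : IrrCharacter A, Over j lam (η : A → ℂ) → (η : A → ℂ) x ≠ 0 → Inv i c (η : A → ℂ) →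
      Inv (k.comp i) r (η : A → ℂ)) ∧
    (∀ η : IrrCharacter A, Over j lam (η : A → ℂ) → (η : A → ℂ) x ≠ 0 →
      Inv (k.comp i) r (η : A → ℂ) ∨ Inv (k.comp i) (k c * r) (η : A → ℂ)) ∧
    Nat.card {η : IrrCharacter A // (Over j lam (η : A → ℂ) ∧ (η : A → ℂ) x ≠ 0 ∧ (η : A → ℂ) x ^ 2 = 4) ∧
      Inv i c (η : A → ℂ)} = 1 ∧
    Nat.card {η : IrrCharacter A // (Over j lam (η : A → ℂ) ∧ (η : A → ℂ) x ≠ 0 ∧ (η : A → ℂ) x ^ 2 = 1) ∧
      Inv i c (η : A → ℂ)} = 1 := by
  classical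
  have := q.finA
  have := q.finB
  have := finite_irr (G := A)
  have := Fintype.ofFinite (IrrCharacter A)
  set X : Finset (IrrCharacter A) := Finset.univ.filter fun η => Over j lam (η : A → ℂ) ∧ (η : A → ℂ) x ≠ 0 with hX
  set C := X.filter fun η : IrrCharacter A => Inv i c (η : A → ℂ) with hC
  set R := X.filter fun η : IrrCharacter A => Inv (k.comp i) r (η : A → ℂ) with hR
  set R' := X.filter fun η : IrrCharacter A => Inv (k.comp i) (k c * r) (η : A → ℂ) with hR'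
  have key : ∀ (D : IrrCharacter A → Prop) [DecidablePred D], Nat.card {η // D η} = (Finset.univ.filter D).card := by
    intro D _
    rw [Nat.card_eq_fintype_card, Fintype.card_subtype]
  have cC : C.card = 2 := by
    rw [← hfc, key, hC, hX, Finset.filter_filter]
    congr 1; ext η; simp only [Finset.mem_filter, Finset.mem_univ, true_and, and_assoc]
  have cR : R.card = 4 := by
    rw [← hfr, key, hR, hX, Finset.filter_filter]
    congr 1; ext η; simp only [Finset.mem_filter, Finset.mem_univ, true_and, and_assoc]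
  have cR' : R'.card = 4 := by
    rw [← hfcr, key, hR', hX, Finset.filter_filter]
    congr 1; ext η; simp only [Finset.mem_filter, Finset.mem_univ, true_and, and_assoc]
  have cX : X.card = 6 := by
    rw [hX, ← key]
    exact s.card_ne
  have mX : ∀ η, η ∈ X ↔ Over j lam (η : A → ℂ) ∧ (η : A → ℂ) x ≠ 0 := fun η => by
    rw [hX, Finset.mem_filter]; simp only [_root_.Finset.mem_univ, _root_.ne_eq, _root_.true_and]
  have mR : ∀ η, η ∈ R ↔ η ∈ X ∧ Inv (k.comp i) r (η : A → ℂ) := fun η => by rw [hR, Finset.mem_filter]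
  have mR' : ∀ η, η ∈ R' ↔ η ∈ X ∧ Inv (k.comp i) (k c * r) (η : A → ℂ) := fun η => by rw [hR', Finset.mem_filter]
  -- the special member
  obtain ⟨σ, hσ, hσ4⟩ := s.exists_special
  have hz : ∀ z, (k.comp i) (j z) * r = r * (k.comp i) (j z) := fun z => q.h2.cen z r
  have hzc : ∀ z, i (j z) * c = c * i (j z) := fun z => q.h1.cen z c
  have hσx : (σ : A → ℂ) x ≠ 0 := fun h => by rw [h] at hσ4; norm_num at hσ4
  have hσc : Inv i c (σ : A → ℂ) := special_inv s q.h1.ii q.nrmA hzc q.cx hσ hσ4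
  have hσr : Inv (k.comp i) r (σ : A → ℂ) := special_inv s q.kinj q.nA hz q.rx hσ hσ4
  have hσC : σ ∈ C := by rw [hC, Finset.mem_filter, mX]; exact ⟨⟨hσ, hσx⟩, hσc⟩
  -- c-invariant → r-invariant
  have hCr : ∀ η ∈ C, Inv (k.comp i) r (η : A → ℂ) := by
    intro η hη
    by_cases hησ : η = σ
    · rw [hησ]; exact hσr
    · rw [hC, Finset.mem_filter, mX] at hη
      obtain ⟨⟨ho, hx⟩, hc⟩ := hη
      obtain ⟨η', h⟩ := exists_conjChar q.kinj q.nA η
      have ho' := conj_over q.kinj q.nA hz h ho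
      have hx' : (η' : A → ℂ) x = (η : A → ℂ) x := h x x (by
        change k (i x) = r * k (i x) * r⁻¹
        rw [q.rx, mul_inv_cancel_right])
      have hη'c : Inv i c (η' : A → ℂ) := by
        intro a a' ha
        obtain ⟨b, hb⟩ := q.nA a
        obtain ⟨b', hb'⟩ := q.nA a'
        rw [h a b hb, h a' b' hb']
        refine hc b b' (q.h2.ii ?_)
        rw [map_mul, map_mul, map_inv, hb, hb', ha, map_mul, map_mul, map_inv]
        exact q.swap _
      have hη'C : η' ∈ C := by rw [hC, Finset.mem_filter, mX]; exact ⟨⟨ho', by rw [hx']; exact hx⟩, hη'c⟩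
      have hη'σ : η' ≠ σ := by
        intro h1
        apply hησ
        rw [h1] at hx'
        exact s.uniq ho hσ (by rw [← hx']; exact hσ4) hσ4
      have hηC : η ∈ C := by rw [hC, Finset.mem_filter, mX]; exact ⟨⟨ho, hx⟩, hc⟩
      have h2 : η' = η := by
        by_contra hne
        have h3 : ({σ, η, η'} : Finset (IrrCharacter A)) ⊆ C := by
          intro t ht
          simp only [Finset.mem_insert, Finset.mem_singleton] at ht
          rcases ht with rfl | rfl | rfl <;> assumption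
        have h4 := Finset.card_le_card h3
        rw [cC, Finset.card_insert_of_notMem, Finset.card_insert_of_notMem, Finset.card_singleton] at h4
        · omega
        · rw [Finset.mem_singleton]; exact fun h5 => hne h5.symm
        · rw [Finset.mem_insert, Finset.mem_singleton]
          rintro (h5 | h5)
          · exact hησ h5.symm
          · exact hη'σ h5.symm
      exact inv_of_eq h h2
  have hCR : C ⊆ R := by
    intro η hη
    rw [hR, Finset.mem_filter]
    exact ⟨(Finset.mem_filter.1 hη).1, hCr η hη⟩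
  have hint : R ∩ R' = C := by
    apply Finset.Subset.antisymm
    · intro η hη
      rw [Finset.mem_inter, mR, mR'] at hη
      rw [hC, Finset.mem_filter]
      exact ⟨hη.1.1, q.inv_c.1 (q.inv_of_both hη.1.2 hη.2.2)⟩
    · intro η hη
      rw [Finset.mem_inter]
      refine ⟨hCR hη, ?_⟩
      rw [mR']
      exact ⟨(Finset.mem_filter.1 hη).1, q.inv_mul (hCr η hη) (q.inv_c.2 (Finset.mem_filter.1 hη).2)⟩
  have hun : R ∪ R' = X := by
    apply Finset.eq_of_subset_of_card_le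
    · exact Finset.union_subset (Finset.filter_subset _ _) (Finset.filter_subset _ _)
    · have h1 := Finset.card_union_add_card_inter R R'
      rw [hint, cC, cR, cR'] at h1
      omega
  refine ⟨fun η ho hx hc => hCr η (by rw [hC, Finset.mem_filter, mX]; exact ⟨⟨ho, hx⟩, hc⟩), fun η ho hx => ?_, ?_, ?_⟩
  · have h1 : η ∈ R ∪ R' := by rw [hun, mX]; exact ⟨ho, hx⟩
    rw [Finset.mem_union, mR, mR'] at h1
    exact h1.imp And.right And.right
  · rw [Nat.card_eq_one_iff_unique]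
    refine ⟨⟨fun η η' => Subtype.ext (s.uniq η.2.1.1 η'.2.1.1 η.2.1.2.2 η'.2.1.2.2)⟩, ⟨⟨σ, ⟨hσ, hσx, hσ4⟩, hσc⟩⟩⟩
  · have h1 : (Finset.univ.filter fun η : IrrCharacter A => (Over j lam (η : A → ℂ) ∧ (η : A → ℂ) x ≠ 0 ∧
        (η : A → ℂ) x ^ 2 = 1) ∧ Inv i c (η : A → ℂ)) = C.erase σ := by
      ext η
      rw [Finset.mem_filter, Finset.mem_erase, hC, Finset.mem_filter, mX]
      constructor
      · rintro ⟨-, ⟨ho, hx, h2⟩, hc⟩
        refine ⟨fun h3 => ?_, ⟨ho, hx⟩, hc⟩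
        rw [h3, hσ4] at h2
        norm_num at h2
      · rintro ⟨hne, ⟨ho, hx⟩, hc⟩
        refine ⟨Finset.mem_univ _, ⟨ho, hx, ?_⟩, hc⟩
        rcases s.dich ho hx with h2 | h2
        · exact h2
        · exact absurd (s.uniq ho hσ h2 hσ4) hne
    rw [key, h1, Finset.card_erase_of_mem hσC, cC]

/-- characters of `B` vanishing off `A` over an `r`- or `c r`-invariant character are `r`-invariant -/
theorem Quad.off_inv (χ : IrrCharacter B) (η : IrrCharacter A) (hv : ∀ w, w ∉ i.range → (χ : B → ℂ) w = 0)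
    (h : ∀ t t', i t' = c * i t * c⁻¹ → (χ : B → ℂ) (i t) = (η : A → ℂ) t + (η : A → ℂ) t')
    (hη : Inv (k.comp i) r (η : A → ℂ) ∨ Inv (k.comp i) (k c * r) (η : A → ℂ)) : Inv k r (χ : B → ℂ) := by
  have := q.finA
  have := q.finB
  intro b b' hb
  by_cases hbr : b ∈ i.range
  · obtain ⟨a, rfl⟩ := hbr
    obtain ⟨a₁, ha₁⟩ := q.nA a
    have hb' : b' = i a₁ := by
      apply q.h2.ii
      rw [hb, ha₁]
    rw [hb']
    obtain ⟨a₂, ha₂⟩ := q.nrmA a
    obtain ⟨a₃, ha₃⟩ := q.nrmA a₁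
    rw [h a a₂ ha₂, h a₁ a₃ ha₃]
    -- k i a₃ = r k i a₂ r⁻¹
    have h3 : k (i a₃) = r * k (i a₂) * r⁻¹ := by
      rw [ha₃, ha₂]
      simp only [map_mul, map_inv]
      rw [ha₁]
      exact (q.swap _).symm
    rcases hη with hη | hη
    · rw [hη a a₁ ha₁, hη a₂ a₃ h3]
    · have h4 : (η : A → ℂ) a₃ = (η : A → ℂ) a := by
        refine hη a a₃ ?_
        change k (i a₃) = k c * r * k (i a) * (k c * r)⁻¹
        rw [ha₃]
        simp only [map_mul, map_inv]
        rw [ha₁]; group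
      obtain ⟨z, hz⟩ := q.cc
      have h5 : (η : A → ℂ) a₁ = (η : A → ℂ) a₂ := by
        refine hη a₂ a₁ ?_
        change k (i a₁) = k c * r * k (i a₂) * (k c * r)⁻¹
        have h6 : k c * r * k (i a₂) * (k c * r)⁻¹ = k c * (r * (k c * k (i a) * (k c)⁻¹) * r⁻¹) * (k c)⁻¹ := by
          rw [ha₂]
          simp only [map_mul, map_inv]
          group
        rw [h6, q.swap, ← ha₁]
        have h7 : k c * (k c * k (i a₁) * (k c)⁻¹) * (k c)⁻¹ = (k c * k c) * k (i a₁) * (k c * k c)⁻¹ := by group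
        have h8 : k c * k c = k (i (j z)) := by rw [← map_mul, hz]
        have h9 := q.h2.cen z (k (i a₁))
        rw [MonoidHom.comp_apply] at h9
        rw [h7, h8, h9]
        group
      rw [h4, h5, add_comm]
  · have hbr' : b' ∉ i.range := by
      rintro ⟨a', ha'⟩
      apply hbr
      obtain ⟨ρ, hρ⟩ := exists_conjA (v := r) q.kinj q.nA
      obtain ⟨a, rfl⟩ := ρ.surjective a'
      refine ⟨a, q.h2.ii ?_⟩
      have h1 := hρ a
      change k (i (ρ a)) = r * k (i a) * r⁻¹ at h1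
      rw [ha', hb] at h1
      exact (mul_left_cancel (mul_right_cancel h1)).symm
    rw [hv b hbr, hv b' hbr']

/-- **`c` not neutral**: 9 -/
theorem Quad.non (s : Six j lam x)
    (hfc : Nat.card {η : IrrCharacter A // Over j lam (η : A → ℂ) ∧ (η : A → ℂ) x ≠ 0 ∧ Inv i c (η : A → ℂ)} = 2)
    (hfr : Nat.card {η : IrrCharacter A // Over j lam (η : A → ℂ) ∧ (η : A → ℂ) x ≠ 0 ∧
      Inv (k.comp i) r (η : A → ℂ)} = 4)
    (hfcr : Nat.card {η : IrrCharacter A // Over j lam (η : A → ℂ) ∧ (η : A → ℂ) x ≠ 0 ∧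
      Inv (k.comp i) (k c * r) (η : A → ℂ)} = 4)
    (hψ : ∀ χ : IrrCharacter B, Over (i.comp j) lam (χ : B → ℂ) → IsIrrCharacter A (fun t => (χ : B → ℂ) (i t)) →
      (χ : B → ℂ) (i x) ^ 2 = 1 → (χ : B → ℂ) (i x * c) ≠ 0)
    (hκ : ∀ χ : IrrCharacter B, Over (i.comp j) lam (χ : B → ℂ) → IsIrrCharacter A (fun t => (χ : B → ℂ) (i t)) →
      (χ : B → ℂ) (i x) ^ 2 = 4 → (Inv k r (χ : B → ℂ) ↔ lam zr ≠ 1)) :
    nz (k.comp (i.comp j)) lam (k (i x)) = 9 := by
  classical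
  have := q.finB
  have := q.finA
  have := finite_irr (G := B)
  have := finite_irr (G := A)
  obtain ⟨i1, i2, i3, i4⟩ := q.invs s hfc hfr hfcr
  have h1 := count_pair q.h2 q.rW lam q.rx
  have hnB := nz_of_card q.h1 q.cB q.cx s hfc
  have h3 := card_genh q.h1 q.cB
    (fun χ => Over (i.comp j) lam (χ : B → ℂ) ∧ (χ : B → ℂ) (i x) ≠ 0 ∧ Inv k r (χ : B → ℂ))
    (fun η => Over j lam (η : A → ℂ) ∧ (η : A → ℂ) x ≠ 0 ∧ (Inv i c (η : A → ℂ) →
      ((η : A → ℂ) x ^ 2 = 4 ↔ lam zr ≠ 1))) (by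
      intro χ η _ hne
      rw [over_iff q.h1 χ η _ lam hne]
      refine and_congr_right fun ho => ?_
      have hχo := (over_iff q.h1 χ η _ lam hne).2 ho
      rcases cases_of_inner q.h1 q.cB χ η hne with ⟨h4, h5⟩ | ⟨h4, h5, h6⟩
      · have hirr : IsIrrCharacter A (fun t => (χ : B → ℂ) (i t)) := by
          have : (fun t => (χ : B → ℂ) (i t)) = (η : A → ℂ) := funext h4
          rw [this]; exact η.2
        rw [h4]
        refine and_congr_right fun hx => ?_
        have h7 : (Inv i c (η : A → ℂ) → ((η : A → ℂ) x ^ 2 = 4 ↔ lam zr ≠ 1)) ↔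
            ((η : A → ℂ) x ^ 2 = 4 ↔ lam zr ≠ 1) := ⟨fun h => h h5, fun h _ => h⟩
        rw [h7]
        rcases s.dich ho hx with h8 | h8
        · have h9 : ¬ ((η : A → ℂ) x ^ 2 = 4) := by rw [h8]; norm_num
          have h10 : (χ : B → ℂ) (i x * c) ≠ 0 := hψ χ hχo hirr (by rw [h4]; exact h8)
          constructor
          · intro hi
            have h11 := q.val_rc (lam := lam) _ hχo hi
            have h12 : lam zr = 1 := by
              apply Units.ext
              rw [Units.val_one]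
              apply mul_right_cancel₀ h10
              rw [h11, one_mul]
            exact ⟨fun h => absurd h h9, fun h => absurd h12 h⟩
          · intro hi
            have h12 : lam zr = 1 := by
              by_contra h
              exact h9 (hi.2 h)
            exact q.inv_of_ext h12 χ hχo η h4 (i1 η ho hx h5) h10
        · rw [hκ χ hχo hirr (by rw [h4]; exact h8)]
          exact ⟨fun h => ⟨fun _ => h, fun _ => h8⟩, fun h => h.1 h8⟩
      · rw [q.val_off χ η h6]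
        have h7 : (2 * (η : A → ℂ) x ≠ 0 ↔ (η : A → ℂ) x ≠ 0) := by simp
        rw [h7]
        refine and_congr_right fun hx => ?_
        exact ⟨fun _ h => absurd h h5, fun _ => q.off_inv χ η h4 h6 (i2 η ho hx)⟩)
  have h5 : Nat.card {η : IrrCharacter A // (Over j lam (η : A → ℂ) ∧ (η : A → ℂ) x ≠ 0 ∧ (Inv i c (η : A → ℂ) →
      ((η : A → ℂ) x ^ 2 = 4 ↔ lam zr ≠ 1))) ∧ Inv i c (η : A → ℂ)} = 1 := by
    by_cases hz : lam zr = 1
    · rw [← i4]
      refine card_congr_iff fun η => ⟨fun h => ⟨⟨h.1.1, h.1.2.1, ?_⟩, h.2⟩, fun h => ⟨⟨h.1.1, h.1.2.1, fun _ => ?_⟩, h.2⟩⟩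
      · rcases s.dich h.1.1 h.1.2.1 with h8 | h8
        · exact h8
        · exact absurd hz ((h.1.2.2 h.2).1 h8)
      · constructor
        · intro h8
          rw [h.1.2.2] at h8
          norm_num at h8
        · intro h8; exact absurd hz h8
    · rw [← i3]
      refine card_congr_iff fun η => ⟨fun h => ⟨⟨h.1.1, h.1.2.1, (h.1.2.2 h.2).2 hz⟩, h.2⟩,
        fun h => ⟨⟨h.1.1, h.1.2.1, fun _ => ⟨fun _ => hz, fun _ => h.1.2.2⟩⟩, h.2⟩⟩
  have h6 : Nat.card {η : IrrCharacter A // (Over j lam (η : A → ℂ) ∧ (η : A → ℂ) x ≠ 0 ∧ (Inv i c (η : A → ℂ) →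
      ((η : A → ℂ) x ^ 2 = 4 ↔ lam zr ≠ 1))) ∧ ¬ Inv i c (η : A → ℂ)} = 4 := by
    have h7 := split_card (fun η : IrrCharacter A => Over j lam (η : A → ℂ) ∧ (η : A → ℂ) x ≠ 0)
      (fun η => Inv i c (η : A → ℂ))
    simp only [and_assoc] at h7
    rw [s.card_ne, hfc] at h7
    have h8 : Nat.card {η : IrrCharacter A // (Over j lam (η : A → ℂ) ∧ (η : A → ℂ) x ≠ 0 ∧ (Inv i c (η : A → ℂ) →
      ((η : A → ℂ) x ^ 2 = 4 ↔ lam zr ≠ 1))) ∧ ¬ Inv i c (η : A → ℂ)} =
        Nat.card {η : IrrCharacter A // Over j lam (η : A → ℂ) ∧ (η : A → ℂ) x ≠ 0 ∧ ¬ Inv i c (η : A → ℂ)} :=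
      card_congr_iff fun η => ⟨fun h => ⟨h.1.1, h.1.2.1, h.2⟩, fun h => ⟨⟨h.1, h.2.1, fun h9 => absurd h9 h.2.2⟩, h.2.2⟩⟩
    rw [h8]
    omega
  rw [h5, h6] at h3
  have h8 := split_card (fun χ : IrrCharacter B => Over (i.comp j) lam (χ : B → ℂ) ∧ (χ : B → ℂ) (i x) ≠ 0)
    (fun χ => Inv k r (χ : B → ℂ))
  simp only [and_assoc] at h8
  have h9 : Nat.card {χ : IrrCharacter B // Over (i.comp j) lam (χ : B → ℂ) ∧ (χ : B → ℂ) (i x) ≠ 0} =
    nz (i.comp j) lam (i x) := rfl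
  rw [h9] at h8
  omega

end four

end Cfsg.Agent.H155.TI
end

-- part: H155/TI/NonVan
section
/-!
# The row `PSL₃(4)`: the nonvanishing lemma (helper155)
-/

set_option autoImplicit false

namespace Cfsg.Agent.H155.TI

open Cfsg Cfsg.Agent.Characters Cfsg.Agent.Characters.Core Cfsg.Agent.Characters.Central Cfsg.Agent.HKS.ModPSpec
open scoped ComplexConjugate

universe u

variable {Z W : Type u} [Group Z] [Group W] [Finite W] {c : W} {zc : Z} {m : ℂ}

omit [Finite W] in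
theorem int_dvd_of_integral {N : ℤ} {p : ℕ} (hp : p ≠ 0) {z : ℂ} (hz : IsIntegral ℤ z) (h : (N : ℂ) = p * z) :
    (p : ℤ) ∣ N := by
  have hp' : (p : ℂ) ≠ 0 := by exact_mod_cast hp
  obtain ⟨k, hk⟩ := GaloisBasic.exists_int_of_isIntegral hz ⟨(N : ℚ) / p, by
    push_cast
    rw [h]; field_simp⟩
  refine ⟨k, ?_⟩
  rw [hk] at h
  exact_mod_cast h

omit [Finite W] in
/-- `χ(c) = m k` -/
theorem val_mk {j : Z →* W} (hZ : ∀ z w, j z * w = w * j z) (lam : Z →* ℂˣ) (hcc : c * c = j zc)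
    (hm : m ^ 2 = (lam zc : ℂ)) (χ : IrrCharacter W) (hχ : Over j lam (χ : W → ℂ)) :
    ∃ k : ℤ, (χ : W → ℂ) c = m * k := by
  obtain ⟨χ, n, ρ, hρ, rfl⟩ := χ
  have hm0 : m ≠ 0 := by
    intro h
    rw [h] at hm
    exact (lam zc).ne_zero (by rw [← hm]; norm_num)
  have hz : ∀ z : Z, ρ (j z) = (lam z : ℂ) • (1 : Module.End ℂ (Fin n → ℂ)) := by
    intro z
    have h1 := eq_trace_smul_of_comm ρ hρ (ρ (j z)) (fun g => by
      rw [← map_mul, ← map_mul, hZ])
    have h2 : LinearMap.trace ℂ (Fin n → ℂ) (ρ (j z)) = (lam z : ℂ) * ρ.character 1 := by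
      have h3 := hχ z 1
      rw [mul_one] at h3
      exact h3
    rw [h2, mul_div_assoc, div_self (char_one_ne_zero ρ hρ), mul_one] at h1
    exact h1
  have hm2 : m * m = (lam zc : ℂ) := by rw [← hm]; ring
  set C : Module.End ℂ (Fin n → ℂ) := m⁻¹ • ρ c with hCdef
  have hC : C * C = 1 := by
    rw [hCdef]
    simp only [smul_mul_assoc, mul_smul_comm, smul_smul]
    rw [← map_mul, hcc, hz, smul_smul, ← hm2]
    have : m⁻¹ * m⁻¹ * (m * m) = 1 := by field_simp
    rw [this, one_smul]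
  obtain ⟨a, ha⟩ := H395.TI34.op_half C hC 1 (by norm_num)
  have h1 : LinearMap.trace ℂ (Fin n → ℂ) (1 : Module.End ℂ (Fin n → ℂ)) = n := by
    rw [LinearMap.trace_one, Module.finrank_fin_fun]
  refine ⟨2 * a - n, ?_⟩
  have h2 : ρ.character c = m * LinearMap.trace ℂ _ C := by
    rw [hCdef, map_smul, smul_eq_mul, ← mul_assoc, mul_inv_cancel₀ hm0, one_mul]
    rfl
  change ρ.character c = _
  rw [h2]
  push_cast
  rw [h1, one_mul] at ha
  congr 1
  linear_combination ha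

/-- **nonvanishing**: `c` a square root of a central element centralizing a Sylow `p`-subgroup `Q` and fused in `C(Q)`
only to `z c`, `lam z = 1` -/
theorem nonvan {j : Z →* W} (hZ : ∀ z w, j z * w = w * j z) (lam : Z →* ℂˣ) {p : ℕ} [Fact p.Prime] (hpZ : ¬ p ∣ Nat.card Z)
    (Q : Sylow p W) (hcQ : ∀ q ∈ (Q : Subgroup W), c * q = q * c) (hcc : c * c = j zc) (hm : m ^ 2 = (lam zc : ℂ))
    (hf : ∀ g : W, (∀ q ∈ (Q : Subgroup W), g * c * g⁻¹ * q = q * (g * c * g⁻¹)) →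
      ∃ z : Z, g * c * g⁻¹ = j z * c ∧ lam z = 1)
    (χ : IrrCharacter W) (hχ : Over j lam (χ : W → ℂ)) (hp : ¬ p ∣ charDegree (χ : W → ℂ)) :
    ∃ k : ℤ, (χ : W → ℂ) c = m * k ∧ ¬ (p : ℤ) ∣ k := by
  classical
  have hpp : p.Prime := Fact.out
  let _ : Fintype W := Fintype.ofFinite W
  obtain ⟨k, hk⟩ := val_mk hZ lam hcc hm χ hχ
  refine ⟨k, hk, fun hpk => ?_⟩
  have hm0 : m ≠ 0 := by
    intro h
    rw [h] at hm
    exact (lam zc).ne_zero (by rw [← hm]; norm_num)
  -- the class of `c`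
  let K := {x : W // IsConj c x}
  let _ : MulAction (Q : Subgroup W) K :=
    { smul := fun a s => ⟨(a : W) * s * (a : W)⁻¹, s.2.trans (isConj_iff.2 ⟨a, rfl⟩)⟩
      one_smul := fun s => Subtype.ext (by show ((1 : (Q : Subgroup W)) : W) * s * ((1 : (Q : Subgroup W)) : W)⁻¹ = s; simp only [_root_.OneMemClass.coe_one, _root_.one_mul, _root_.inv_one, _root_.mul_one])
      mul_smul := fun a b s => Subtype.ext (by
        show ((a * b : (Q : Subgroup W)) : W) * s * ((a * b : (Q : Subgroup W)) : W)⁻¹ =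
          (a : W) * ((b : W) * s * (b : W)⁻¹) * (a : W)⁻¹
        push_cast
        group) }
  have hsmul : ∀ (a : (Q : Subgroup W)) (s : K), ((a • s : K) : W) = (a : W) * s * (a : W)⁻¹ := fun _ _ => rfl
  let f : K → AlgInt := fun s => ⟨(χ : W → ℂ) (s * c), GaloisBasic.isIntegral_apply (isIrr_isCharacter χ.2) _⟩
  obtain ⟨α, hα⟩ := Blocks.OrbitSum.sum_eq_sum_fixed_add_smul (p := p) Q.isPGroup' f (fun a s => by
    apply Subtype.ext
    change (χ : W → ℂ) ((a • s : K) * c) = (χ : W → ℂ) (s * c)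
    rw [hsmul]
    have h1 : (a : W) * s * (a : W)⁻¹ * c = (a : W) * (s * c) * (a : W)⁻¹ := by
      have h2 : (a : W)⁻¹ * c = c * (a : W)⁻¹ := by
        rw [inv_mul_eq_iff_eq_mul, ← mul_assoc, ← hcQ a a.2, mul_assoc, mul_inv_cancel, mul_one]
      rw [mul_assoc _ (a : W)⁻¹ c, h2]
      group
    rw [h1]
    exact isIrr_isClassFunction χ.2 _ _)
  -- fixed points
  have hfix : ∀ s : K, s ∈ MulAction.fixedPoints (Q : Subgroup W) K → (f s : ℂ) = m ^ 2 * (χ : W → ℂ) 1 := by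
    intro s hs
    obtain ⟨g, hg⟩ := isConj_iff.1 s.2
    obtain ⟨z, hz, hlz⟩ := hf g (fun q hq => by
      have h1 := congrArg Subtype.val (hs ⟨q, hq⟩)
      rw [hsmul] at h1
      rw [hg]
      exact (mul_inv_eq_iff_eq_mul.1 h1).symm)
    change (χ : W → ℂ) (s * c) = _
    rw [← hg, hz, mul_assoc, hcc, hχ z, hlz, Units.val_one, one_mul, hm, ← hχ zc 1, mul_one]
  set F := Finset.univ.filter (fun s : K => s ∈ MulAction.fixedPoints (Q : Subgroup W) K) with hF
  have hsum : ∑ s : K, (χ : W → ℂ) (s * c) = F.card * (m ^ 2 * (χ : W → ℂ) 1) + p * (α : ℂ) := by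
    have h1 := congrArg (fun t : AlgInt => (t : ℂ)) hα
    simp only [AddSubmonoidClass.coe_finsetSum, Subalgebra.coe_add] at h1
    rw [Finset.sum_congr rfl (fun s hs => hfix s (Finset.mem_filter.1 hs).2), Finset.sum_const, nsmul_eq_mul] at h1
    rw [← hF] at h1
    rw [show ∑ s : K, (χ : W → ℂ) (s * c) = ∑ s : K, (f s : ℂ) from rfl, h1]
    congr 1
    simp only [_root_.nsmul_eq_mul, _root_.MulMemClass.coe_mul, _root_.SubringClass.coe_natCast]
  have hid := Classification.TypeZ.Congr.sum_conj_mul χ.2 c c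
  rw [show (∑ s : {x : W // IsConj c x}, (χ : W → ℂ) (s * c)) = ∑ s : K, (χ : W → ℂ) (s * c) from rfl, hsum] at hid
  -- cards
  have hK : Nat.card K = (Subgroup.centralizer ({c} : Set W)).index := by
    rw [Subgroup.index_eq_card]
    refine (Nat.card_eq_of_bijective (f := fun q : W ⧸ Subgroup.centralizer ({c} : Set W) =>
      Quotient.liftOn' q (fun g => (⟨g * c * g⁻¹, isConj_iff.mpr ⟨g, rfl⟩⟩ : K)) ?_) ?_).symm
    · intro a b hab
      rw [QuotientGroup.leftRel_apply, Subgroup.mem_centralizer_singleton_iff] at hab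
      apply Subtype.ext
      show a * c * a⁻¹ = b * c * b⁻¹
      calc a * c * a⁻¹ = a * (c * (a⁻¹ * b)) * b⁻¹ := by group
        _ = a * (a⁻¹ * b * c) * b⁻¹ := by rw [hab]
        _ = b * c * b⁻¹ := by group
    · constructor
      · intro q q' h
        induction q using QuotientGroup.induction_on with | H a => ?_
        induction q' using QuotientGroup.induction_on with | H b => ?_
        have h1 : a * c * a⁻¹ = b * c * b⁻¹ := congrArg Subtype.val h
        rw [QuotientGroup.eq, Subgroup.mem_centralizer_singleton_iff]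
        calc a⁻¹ * b * c = a⁻¹ * (b * c * b⁻¹) * b := by group
          _ = a⁻¹ * (a * c * a⁻¹) * b := by rw [h1]
          _ = c * (a⁻¹ * b) := by group
      · rintro ⟨y, hy⟩
        obtain ⟨g, rfl⟩ := isConj_iff.1 hy
        exact ⟨(g : W ⧸ Subgroup.centralizer ({c} : Set W)), rfl⟩
  have hidx : ¬ p ∣ (Subgroup.centralizer ({c} : Set W)).index := by
    intro h
    have h1 : (Q : Subgroup W) ≤ Subgroup.centralizer ({c} : Set W) := fun q hq =>
      Subgroup.mem_centralizer_singleton_iff.2 (hcQ q hq).symm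
    exact Q.not_dvd_index (h.trans (Subgroup.index_dvd_of_le h1))
  have hcard : Nat.card K ≡ F.card [MOD p] := by
    have h1 := Q.isPGroup'.card_modEq_card_fixedPoints K
    have h2 : Nat.card (MulAction.fixedPoints (Q : Subgroup W) K) = F.card := by
      rw [hF, Nat.card_eq_fintype_card, ← Set.toFinset_card]
      congr 1
      ext s
      simp only [_root_.Set.mem_toFinset, _root_.MulAction.mem_fixedPoints, _root_.Subtype.forall, _root_.Finset.mem_filter, _root_.Finset.mem_univ, _root_.true_and]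
    rw [h2] at h1
    exact h1
  -- the conclusion
  have hZ0 : Nat.card Z ≠ 0 := fun h => hpZ (by rw [h]; exact dvd_zero p)
  have hl1 : ((lam zc)⁻¹ : ℂˣ) ^ Nat.card Z = 1 := by
    rw [inv_pow, ← map_pow, pow_card_eq_one', map_one, inv_one]
  have hint : IsIntegral ℤ (((lam zc)⁻¹ : ℂˣ) : ℂ) := by
    refine IsIntegral.of_pow (n := Nat.card Z) (Nat.pos_of_ne_zero hZ0) ?_
    rw [← Units.val_pow_eq_pow_val, hl1, Units.val_one]
    exact isIntegral_one
  have h1c : (χ : W → ℂ) 1 = (charDegree (χ : W → ℂ) : ℂ) := Blocks.Basic.irr_one_eq_charDegree χ.2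
  set n1 : ℕ := charDegree (χ : W → ℂ) with hn1
  have hn10 : (n1 : ℂ) ≠ 0 := by
    intro h
    apply hp
    rw [show n1 = 0 by exact_mod_cast h]
    exact dvd_zero p
  have hkey : ((((Subgroup.centralizer ({c} : Set W)).index : ℤ) * k ^ 2 - F.card * n1 ^ 2 : ℤ) : ℂ) =
      p * ((α : ℂ) * n1 * (((lam zc)⁻¹ : ℂˣ) : ℂ)) := by
    unfold centralChar at hid
    rw [hk, h1c] at hid
    have hm' : (((lam zc)⁻¹ : ℂˣ) : ℂ) = (m ^ 2)⁻¹ := by rw [Units.val_inv_eq_inv_val, hm]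
    rw [hm']
    push_cast
    field_simp at hid ⊢
    linear_combination (-1 : ℂ) * hid
  have hdvd := int_dvd_of_integral hpp.ne_zero ((α.2.mul (isIntegral_natCast (a := n1))).mul hint) hkey
  have h2 : (p : ℤ) ∣ F.card * n1 ^ 2 := by
    have h3 : (p : ℤ) ∣ ((Subgroup.centralizer ({c} : Set W)).index : ℤ) * k ^ 2 :=
      Dvd.dvd.mul_left (dvd_pow hpk two_ne_zero) _
    have h4 := dvd_sub h3 hdvd
    have h5 : ((Subgroup.centralizer ({c} : Set W)).index : ℤ) * k ^ 2 -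
        (((Subgroup.centralizer ({c} : Set W)).index : ℤ) * k ^ 2 - F.card * n1 ^ 2) = F.card * n1 ^ 2 := by ring
    rwa [h5] at h4
  have h3 : p ∣ F.card * n1 ^ 2 := by exact_mod_cast h2
  rcases (Nat.Prime.dvd_mul hpp).1 h3 with h4 | h4
  · apply hidx
    rw [← hK]
    exact (Nat.modEq_zero_iff_dvd.1 (hcard.trans (Nat.modEq_zero_iff_dvd.2 h4)))
  · exact hp (hpp.dvd_of_dvd_pow h4)

end Cfsg.Agent.H155.TI
end

-- part: H155/TI/Side
section
/-!
# The row `PSL₃(4)`: the two sides `K = Γ`, `K = N(P)` (helper155)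
-/

set_option autoImplicit false
set_option linter.unusedSectionVars false

namespace Cfsg.Agent.H155.TI

open Cfsg Cfsg.Agent.Characters.Core
open Cfsg.Agent.H41.TI (count_pair res_cases exists_ext over_iff)
open Cfsg.Agent.H395.TI34 (uv two3 two9)
open scoped Pointwise

universe u

variable {Γ : Type u} [Group Γ] {Z L P H : Subgroup Γ} {x d a b : Γ}

/-- invariance of a class function of the subgroup `A` under an element of `Γ` -/
def InvG {A : Subgroup Γ} (e : Γ) (η : A → ℂ) : Prop :=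
  ∀ a a' : A, (a' : Γ) = e * a * e⁻¹ → η a' = η a

theorem inv_iff {A M : Subgroup Γ} (h : A ≤ M) {e : Γ} (he : e ∈ M) (η : A → ℂ) :
    Inv (Subgroup.inclusion h) ⟨e, he⟩ η ↔ InvG e η := by
  constructor
  · intro h1 a a' ha
    exact h1 a a' (Subtype.ext ha)
  · intro h1 a a' ha
    exact h1 a a' (congrArg Subtype.val ha)

theorem inv_iff' {A B M : Subgroup Γ} (h : A ≤ B) (h' : B ≤ M) {e : Γ} (he : e ∈ M) (η : A → ℂ) :
    Inv ((Subgroup.inclusion h').comp (Subgroup.inclusion h)) ⟨e, he⟩ η ↔ InvG e η := by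
  constructor
  · intro h1 a a' ha
    exact h1 a a' (Subtype.ext ha)
  · intro h1 a a' ha
    exact h1 a a' (congrArg Subtype.val ha)

/-- the two sides: `K = ⊤` and `K = N(P)` -/
structure Side (Z L P H : Subgroup Γ) (x : Γ) (lam : Z →* ℂˣ) (K : Subgroup Γ) : Prop where
  PK : P ≤ K
  HK : H ≤ K
  six : ∀ (hZ : Z ≤ L ⊓ K) (hx : x ∈ L ⊓ K), Six (Subgroup.inclusion hZ) lam ⟨x, hx⟩
  van : ∀ M : Subgroup Γ, L ⊓ K ≤ M → M ≤ K → ∀ (hZ : Z ≤ M) (hx : x ∈ M) (χ : IrrCharacter M),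
    Over (Subgroup.inclusion hZ) lam (χ : M → ℂ) → (χ : M → ℂ) ⟨x, hx⟩ = 0 →
    ∀ e ∈ H, e * x = x * e → ∀ y : M, (y : Γ) = x * e → (χ : M → ℂ) y = 0

/-- the data of an element `e` -/
structure El (L H : Subgroup Γ) (x e : Γ) : Prop where
  eH : e ∈ H
  eL : e ∉ L
  ex : e * x = x * e
  ee : e * e ∈ L

section side

variable {lam : Z →* ℂˣ} {K : Subgroup Γ} (F : Frame Z L P H x d a b) (S : Side Z L P H x lam K)
include F S

theorem Side.ZK : Z ≤ K := F.ZH.trans S.HK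

theorem Side.ZA : Z ≤ L ⊓ K := le_inf F.ZL (S.ZK F)

theorem Side.xA : x ∈ L ⊓ K := ⟨F.PL F.xP, S.PK F.xP⟩

omit F S in
theorem AB {L K : Subgroup Γ} (e : Γ) : L ⊓ K ≤ Le L e ⊓ K := inf_le_inf_right K le_sup_left

omit F in
theorem Side.eB {e : Γ} (E : El L H x e) : e ∈ Le L e ⊓ K :=
  ⟨Subgroup.mem_sup_right (Subgroup.mem_zpowers e), S.HK E.eH⟩

theorem Side.dB {e : Γ} : d ∈ Le L e ⊓ K := ⟨Subgroup.mem_sup_left F.dL, S.HK F.dH⟩

/-- the package `Pair`, `Elt` -/
theorem Side.elt [Finite Γ] {e : Γ} (E : El L H x e) {n : ℕ}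
    (hn : Nat.card (P ⊓ Subgroup.centralizer ({e} : Set Γ) : Subgroup Γ) = n) :
    ∃ m : ℂ, Pair (Subgroup.inclusion (S.ZA F)) (Subgroup.inclusion (AB (K := K) e)) ∧
      Elt (Subgroup.inclusion (S.ZA F)) (Subgroup.inclusion (AB (K := K) e)) lam ⟨x, S.xA F⟩ ⟨e, S.eB E⟩ ⟨d, S.dB F⟩
        ⟨e * e, F.sq_mem E.eH E.ex E.ee⟩ m n := by
  obtain ⟨m, hm, -⟩ := exists_m (lam ⟨e * e, F.sq_mem E.eH E.ex E.ee⟩)
  refine ⟨m, F.pair E.eH E.eL E.ex E.ee S.HK _ _, F.elt lam E.eH E.eL E.ex E.ee S.PK S.HK _ _ _ _ _ hm hn ?_⟩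
  intro χ hχ h0
  exact S.van _ (AB e) inf_le_right ((S.ZA F).trans (AB e)) (AB e (S.xA F)) χ hχ h0 e E.eH E.ex _ rfl

end side

section counts

variable {lam : Z →* ℂˣ} {K : Subgroup Γ} (F : Frame Z L P H x d a b) (S : Side Z L P H x lam K)

/-- the number of `e`-invariant members not vanishing at `x` -/
noncomputable def fe (lam : Z →* ℂˣ) {A : Subgroup Γ} (hZ : Z ≤ A) (x : A) (e : Γ) : ℕ :=
  Nat.card {η : IrrCharacter A // Over (Subgroup.inclusion hZ) lam (η : A → ℂ) ∧ (η : A → ℂ) x ≠ 0 ∧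
    InvG e (η : A → ℂ)}

theorem fe_eq {A M : Subgroup Γ} (hZ : Z ≤ A) (x : A) (h : A ≤ M) {e : Γ} (he : e ∈ M) :
    Nat.card {η : IrrCharacter A // Over (Subgroup.inclusion hZ) lam (η : A → ℂ) ∧ (η : A → ℂ) x ≠ 0 ∧
      Inv (Subgroup.inclusion h) ⟨e, he⟩ (η : A → ℂ)} = fe lam hZ x e :=
  card_congr_iff fun χ => by rw [inv_iff]

theorem fe_eq' {A B M : Subgroup Γ} (hZ : Z ≤ A) (x : A) (h : A ≤ B) (h' : B ≤ M) {e : Γ} (he : e ∈ M) :
    Nat.card {η : IrrCharacter A // Over (Subgroup.inclusion hZ) lam (η : A → ℂ) ∧ (η : A → ℂ) x ≠ 0 ∧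
      Inv ((Subgroup.inclusion h').comp (Subgroup.inclusion h)) ⟨e, he⟩ (η : A → ℂ)} = fe lam hZ x e :=
  card_congr_iff fun χ => by rw [inv_iff']

include F S

/-- `e` does not centralize `P` : 4 invariant members -/
theorem Side.refl [Finite Γ] {e : Γ} (E : El L H x e) (hP : ¬ ∀ y ∈ P, e * y = y * e) :
    fe lam (S.ZA F) ⟨x, S.xA F⟩ e = 4 ∧
    ∀ χ : IrrCharacter (Le L e ⊓ K : Subgroup Γ), Over (Subgroup.inclusion ((S.ZA F).trans (AB e))) lam
      (χ : (Le L e ⊓ K : Subgroup Γ) → ℂ) → (χ : (Le L e ⊓ K : Subgroup Γ) → ℂ) ⟨x, AB e (S.xA F)⟩ ^ 2 = 4 →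
      ∀ y : (Le L e ⊓ K : Subgroup Γ), (y : Γ) = x * e → (χ : (Le L e ⊓ K : Subgroup Γ) → ℂ) y = 0 := by
  obtain ⟨m, h1, h2⟩ := S.elt F E (F.card_cent_P E.ex hP)
  have h3 := two3 h1 h2 (S.six _ _)
  refine ⟨by rw [← h3.1, fe_eq], fun χ hχ h4 y hy => ?_⟩
  have h5 : y = Subgroup.inclusion (AB e) ⟨x, S.xA F⟩ * ⟨e, S.eB E⟩ := Subtype.ext hy
  rw [h5]
  exact h3.2 χ hχ h4

/-- `e` centralizes `P`, not neutral : 2 invariant members -/
theorem Side.non [Finite Γ] {e : Γ} (E : El L H x e) (hP : ∀ y ∈ P, e * y = y * e) {l : Γ} (hlH : l ∈ H) (hlL : l ∈ L)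
    {z : Z} (hl : l * e * l⁻¹ = z * e) (hz : lam z ≠ 1) :
    fe lam (S.ZA F) ⟨x, S.xA F⟩ e = 2 ∧
    ∀ χ : IrrCharacter (Le L e ⊓ K : Subgroup Γ), Over (Subgroup.inclusion ((S.ZA F).trans (AB e))) lam
      (χ : (Le L e ⊓ K : Subgroup Γ) → ℂ) →
      ∀ y : (Le L e ⊓ K : Subgroup Γ), (y : Γ) = x * e →
        (IsIrrCharacter (L ⊓ K : Subgroup Γ) (fun t => (χ : (Le L e ⊓ K : Subgroup Γ) → ℂ) (Subgroup.inclusion (AB e) t)) →
          (χ : (Le L e ⊓ K : Subgroup Γ) → ℂ) ⟨x, AB e (S.xA F)⟩ ^ 2 = 1 → (χ : (Le L e ⊓ K : Subgroup Γ) → ℂ) y ≠ 0) ∧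
        ((χ : (Le L e ⊓ K : Subgroup Γ) → ℂ) ⟨x, AB e (S.xA F)⟩ ^ 2 = 4 → (χ : (Le L e ⊓ K : Subgroup Γ) → ℂ) y = 0) := by
  obtain ⟨m, h1, h2⟩ := S.elt F E (F.card_cent_P' hP)
  have hl' : l ∈ Le L e ⊓ K := ⟨Subgroup.mem_sup_left hlL, S.HK hlH⟩
  have h3 := two9_non h1 h2 (S.six _ _) (g := ⟨l, hl'⟩) (z := z) (Subtype.ext hl) hz
  refine ⟨by rw [← h3.1, fe_eq], fun χ hχ y hy => ?_⟩
  have h4 : y = Subgroup.inclusion (AB e) ⟨x, S.xA F⟩ * ⟨e, S.eB E⟩ := Subtype.ext hy
  rw [h4]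
  exact ⟨fun h5 h6 => (h3.2 χ hχ).2.1 h5 h6, fun h5 => (h3.2 χ hχ).2.2 h5⟩

/-- `e` centralizes `P`, neutral : 6 invariant members -/
theorem Side.neu [Finite Γ] {e : Γ} (E : El L H x e) (hP : ∀ y ∈ P, e * y = y * e)
    (hneu : ∀ l ∈ H, l ∈ L → ∀ z : Z, l * e * l⁻¹ = z * e → lam z = 1) :
    fe lam (S.ZA F) ⟨x, S.xA F⟩ e = 6 ∧
    ∀ χ : IrrCharacter (Le L e ⊓ K : Subgroup Γ), Over (Subgroup.inclusion ((S.ZA F).trans (AB e))) lam
      (χ : (Le L e ⊓ K : Subgroup Γ) → ℂ) → (χ : (Le L e ⊓ K : Subgroup Γ) → ℂ) ⟨x, AB e (S.xA F)⟩ ≠ 0 →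
      ∀ y : (Le L e ⊓ K : Subgroup Γ), (y : Γ) = x * e → (χ : (Le L e ⊓ K : Subgroup Γ) → ℂ) y ≠ 0 := by
  obtain ⟨m, h1, h2⟩ := S.elt F E (F.card_cent_P' hP)
  have : Fact (Nat.Prime 3) := ⟨Nat.prime_three⟩
  have hPB : P ≤ Le L e ⊓ K := le_inf (F.PL.trans le_sup_left) S.PK
  -- the Sylow subgroup
  have hpg : IsPGroup 3 (P.subgroupOf (Le L e ⊓ K)) :=
    F.pgroup.of_injective (Subgroup.subgroupOfEquivOfLe hPB).toMonoidHom (Subgroup.subgroupOfEquivOfLe hPB).injective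
  have hidx : ¬ 3 ∣ (P.subgroupOf (Le L e ⊓ K)).index := fun h =>
    F.Pidx (h.trans (Subgroup.relIndex_dvd_index_of_le hPB))
  have h3 := two9_neu h1 h2 (S.six _ _) (fun χ hχ h3 => by
    refine nonvan (j := (Subgroup.inclusion (AB (K := K) e)).comp (Subgroup.inclusion (S.ZA F))) (fun z w => ?_) lam
      F.Z3 (hpg.toSylow hidx) ?_ h2.cc h2.mm ?_ χ hχ h3
    · exact h1.cen z w
    · intro q hq
      exact Subtype.ext (hP q hq)
    · intro g hg
      obtain ⟨l, hlH, hlL, z, h4, h5⟩ := F.fus (g := (g : Γ)) E.eH hP E.ee g.2.1 (fun q hq => by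
        have h6 := hg ⟨q, hPB hq⟩ hq
        exact congrArg Subtype.val h6)
      exact ⟨z, Subtype.ext h4, hneu l hlH hlL z h5⟩)
  refine ⟨by rw [← h3.1, fe_eq], fun χ hχ h4 y hy => ?_⟩
  have h5 : y = Subgroup.inclusion (AB e) ⟨x, S.xA F⟩ * ⟨e, S.eB E⟩ := Subtype.ext hy
  rw [h5]
  exact h3.2 χ hχ h4

/-- index 2: the count on `L⟨e⟩ ∩ K` -/
theorem Side.nz_two [Finite Γ] {e : Γ} (E : El L H x e) {f : ℕ} (hf : fe lam (S.ZA F) ⟨x, S.xA F⟩ e = f) :
    2 * nz (Subgroup.inclusion ((S.ZA F).trans (AB e))) lam (⟨x, AB e (S.xA F)⟩ : (Le L e ⊓ K : Subgroup Γ)) = 3 * f + 6 := by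
  have h1 := F.pair E.eH E.eL E.ex E.ee S.HK (S.ZA F) (AB (K := K) e)
  have hcA : (⟨e, S.eB E⟩ : (Le L e ⊓ K : Subgroup Γ)) ∉ (Subgroup.inclusion (AB (K := K) e)).range := by
    rintro ⟨t, ht⟩
    apply E.eL
    have h1 := congrArg Subtype.val ht
    change (t : Γ) = e at h1
    rw [← h1]
    exact t.2.1
  have hcx : (⟨e, S.eB E⟩ : (Le L e ⊓ K : Subgroup Γ)) * Subgroup.inclusion (AB (K := K) e) ⟨x, S.xA F⟩ =
      Subgroup.inclusion (AB (K := K) e) ⟨x, S.xA F⟩ * ⟨e, S.eB E⟩ := Subtype.ext E.ex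
  exact nz_of_card h1 hcA hcx (S.six _ (S.xA F)) (by rw [fe_eq]; exact hf)

end counts

end Cfsg.Agent.H155.TI
end

-- part: H612/TI34/Abs
section
/-!
# S4819, S4820, row `PSL₃(4)`: characters of `N_L(P)` over `lam`, abstract form (helper612)

* `scal` : an element which is central modulo the kernel acts as a scalar;
* `dich` : a normal subgroup `P` is in the kernel or `∑_{y ∈ P} χ (g y) = 0`;
* `col` : columns over `lam`;
* `six_abs` : the six members.
-/

set_option autoImplicit false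
set_option linter.unusedSectionVars false

namespace Cfsg.Agent.H612.TI34

open Cfsg Cfsg.Agent.Characters Cfsg.Agent.H155.TI Cfsg.Agent.H686.CharKit
open scoped ComplexConjugate

universe u

section Gen

variable {W : Type u} [Group W] [Finite W]

/-- an element which is central modulo the kernel acts as a scalar -/
theorem scal (χ : IrrCharacter W) {g : W} (h : ∀ k : W, (χ : W → ℂ) (k * g * k⁻¹ * g⁻¹) = (χ : W → ℂ) 1) (w : W) :
    (χ : W → ℂ) (g * w) * (χ : W → ℂ) 1 = (χ : W → ℂ) g * (χ : W → ℂ) w := by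
  obtain ⟨n, ρ, hirr, hρ⟩ := Core.isIrrCharacter_def.1 χ.2
  have h1 : ∀ k : W, ρ (k * g * k⁻¹ * g⁻¹) = LinearMap.id := by
    intro k
    rw [← Values.character_eq_finrank_iff, hρ, h k, ← hρ, Representation.char_one]
  have h2 : ∀ k : W, ρ g * ρ k = ρ k * ρ g := by
    intro k
    have h3 : k * g = (k * g * k⁻¹ * g⁻¹) * (g * k) := by group
    have h4 : ρ (k * g) = ρ (g * k) := by
      conv_lhs => rw [h3, map_mul, h1 k]
      rfl
    rw [← map_mul, ← map_mul, h4]
  obtain ⟨c, hc⟩ := Central.exists_smul_of_comm ρ hirr (ρ g) h2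
  have h5 : ∀ v : W, (χ : W → ℂ) (g * v) = c * (χ : W → ℂ) v := by
    intro v
    rw [← hρ]
    show LinearMap.trace ℂ _ (ρ (g * v)) = c * LinearMap.trace ℂ _ (ρ v)
    rw [map_mul, hc, smul_mul_assoc, one_mul, map_smul, smul_eq_mul]
  have h6 := h5 1
  rw [mul_one] at h6
  rw [h5 w, h6]
  ring

/-- a normal subgroup is in the kernel or the sums over its cosets vanish -/
theorem dich (χ : IrrCharacter W) (P : Subgroup W) [P.Normal] [Fintype P] :
    (∀ y ∈ P, (χ : W → ℂ) y = (χ : W → ℂ) 1) ∨ ∀ g : W, ∑ y : P, (χ : W → ℂ) (g * y) = 0 := by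
  obtain ⟨n, ρ, hirr, hρ⟩ := Core.isIrrCharacter_def.1 χ.2
  set e : Module.End ℂ (Fin n → ℂ) := ∑ y : P, ρ (y : W) with he
  have h1 : ∀ k : W, e * ρ k = ρ k * e := by
    intro k
    rw [he, Finset.sum_mul, Finset.mul_sum]
    refine (Fintype.sum_equiv (MulAut.conjNormal (H := P) k⁻¹).toEquiv _ _ fun y => ?_)
    rw [← map_mul, ← map_mul]
    congr 1
    show (y : W) * k = k * ((MulAut.conjNormal (H := P) k⁻¹ y : P) : W)
    rw [MulAut.conjNormal_apply]
    group
  obtain ⟨c, hc⟩ := Central.exists_smul_of_comm ρ hirr e h1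
  have h2 : ∀ y : P, ρ (y : W) * e = e := by
    intro y
    rw [he, Finset.mul_sum]
    refine Fintype.sum_equiv (Equiv.mulLeft y) _ _ fun z => ?_
    rw [← map_mul]
    rfl
  by_cases h0 : c = 0
  · right
    intro g
    have h3 : ρ g * e = 0 := by rw [hc, h0, zero_smul, mul_zero]
    have h4 := congrArg (LinearMap.trace ℂ (Fin n → ℂ)) h3
    rw [map_zero, he, Finset.mul_sum, map_sum] at h4
    rw [← h4]
    refine Finset.sum_congr rfl fun y _ => ?_
    rw [← hρ, ← map_mul]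
    rfl
  · left
    intro y hy
    have h3 := h2 ⟨y, hy⟩
    rw [hc, mul_smul_comm, mul_one] at h3
    have h4 : ρ y = 1 := by
      have := congrArg (fun f => c⁻¹ • f) h3
      simpa only [smul_smul, inv_mul_cancel₀ h0, one_smul] using this
    rw [← hρ]
    have h5 : ρ 1 = 1 := map_one ρ
    show LinearMap.trace ℂ _ (ρ y) = LinearMap.trace ℂ _ (ρ 1)
    rw [h4, h5]

variable {Z : Type u} [Group Z] [Finite Z] {j : Z →* W}

/-- the central character -/
theorem central (hZ : ∀ z w, j z * w = w * j z) (χ : IrrCharacter W) (z : Z) (w : W) :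
    (χ : W → ℂ) (j z * w) * (χ : W → ℂ) 1 = (χ : W → ℂ) (j z) * (χ : W → ℂ) w := by
  refine scal χ (fun k => ?_) w
  have : k * j z * k⁻¹ * (j z)⁻¹ = 1 := by rw [← hZ z k]; group
  rw [this]

/-- the projection onto the characters over `lam` -/
theorem proj (hZ : ∀ z w, j z * w = w * j z) (lam : Z →* ℂˣ) [Fintype Z] (χ : IrrCharacter W) (y : W)
    [Decidable (Over j lam (χ : W → ℂ))] :
    ∑ z : Z, ((lam z)⁻¹ : ℂˣ) * (χ : W → ℂ) (j z * y) =
      if Over j lam (χ : W → ℂ) then (Nat.card Z : ℂ) * (χ : W → ℂ) y else 0 := by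
  have h1 := Core.isIrr_apply_one_ne_zero χ.2
  split_ifs with h
  · rw [Finset.sum_congr rfl fun z _ => by rw [h z y, ← mul_assoc, Units.inv_mul, one_mul], Finset.sum_const,
      nsmul_eq_mul, Finset.card_univ, Nat.card_eq_fintype_card]
  · -- there is `z₀` with `χ (j z₀) ≠ lam z₀ χ 1`
    have h2 : ∃ z₀ : Z, (χ : W → ℂ) (j z₀) ≠ lam z₀ * (χ : W → ℂ) 1 := by
      by_contra hcon
      refine h fun z w => ?_
      have h3 := central hZ χ z w
      have h3' : (χ : W → ℂ) (j z) = lam z * (χ : W → ℂ) 1 := by_contra fun hne => hcon ⟨z, hne⟩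
      rw [h3'] at h3
      have h4 : (χ : W → ℂ) 1 * (χ : W → ℂ) (j z * w) = (χ : W → ℂ) 1 * (lam z * (χ : W → ℂ) w) := by
        rw [mul_comm, h3]; ring
      exact mul_left_cancel₀ h1 h4
    obtain ⟨z₀, hz₀⟩ := h2
    set S := ∑ z : Z, ((lam z)⁻¹ : ℂˣ) * (χ : W → ℂ) (j z * y) with hS
    have h3 : S * (lam z₀ * (χ : W → ℂ) 1) = S * (χ : W → ℂ) (j z₀) := by
      have h4 : S = ∑ z : Z, ((lam (z₀ * z))⁻¹ : ℂˣ) * (χ : W → ℂ) (j (z₀ * z) * y) := by
        rw [hS]
        exact (Fintype.sum_equiv (Equiv.mulLeft z₀) _ _ fun z => rfl).symm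
      conv_lhs => rw [h4]
      rw [hS, Finset.sum_mul, Finset.sum_mul]
      refine Finset.sum_congr rfl fun z _ => ?_
      have h5 := central hZ χ z₀ (j z * y)
      rw [← mul_assoc, ← map_mul] at h5
      have h6 : (((lam (z₀ * z))⁻¹ : ℂˣ) : ℂ) * (lam z₀ : ℂ) = (((lam z)⁻¹ : ℂˣ) : ℂ) := by
        rw [map_mul, mul_inv_rev, Units.val_mul, mul_assoc, Units.inv_mul, mul_one]
      calc (((lam (z₀ * z))⁻¹ : ℂˣ) : ℂ) * (χ : W → ℂ) (j (z₀ * z) * y) * (lam z₀ * (χ : W → ℂ) 1) =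
          ((((lam (z₀ * z))⁻¹ : ℂˣ) : ℂ) * (lam z₀ : ℂ)) * ((χ : W → ℂ) (j (z₀ * z) * y) * (χ : W → ℂ) 1) := by ring
        _ = _ := by rw [h6, h5]; ring
    have h7 : S * (lam z₀ * (χ : W → ℂ) 1 - (χ : W → ℂ) (j z₀)) = 0 := by rw [mul_sub, h3, sub_self]
    rcases mul_eq_zero.1 h7 with h8 | h8
    · exact h8
    · exact absurd (sub_eq_zero.1 h8).symm hz₀

/-- the characters over `lam` -/
noncomputable def ov (j : Z →* W) (lam : Z →* ℂˣ) : Finset (IrrCharacter W) := by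
  classical
  exact @Finset.filter _ (fun χ => Over j lam (χ : W → ℂ)) _ (@Finset.univ _ (@Fintype.ofFinite _ Core.finite_irr))

theorem mem_ov {lam : Z →* ℂˣ} {χ : IrrCharacter W} : χ ∈ ov j lam ↔ Over j lam (χ : W → ℂ) := by
  classical
  unfold ov
  rw [Finset.mem_filter]
  exact ⟨fun h => h.2, fun h => ⟨@Finset.mem_univ _ (@Fintype.ofFinite _ Core.finite_irr) χ, h⟩⟩

/-- **columns over `lam`** -/
theorem col (hZ : ∀ z w, j z * w = w * j z) (lam : Z →* ℂˣ) [Fintype Z] (y y' : W)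
    [∀ z : Z, Decidable (IsConj (j z * y) y')] :
    (Nat.card Z : ℂ) * ∑ χ ∈ ov j lam, (χ : W → ℂ) y * conj ((χ : W → ℂ) y') =
      ∑ z : Z, ((lam z)⁻¹ : ℂˣ) * (if IsConj (j z * y) y' then
        (Nat.card (Subgroup.centralizer ({y'} : Set W)) : ℂ) else 0) := by
  classical
  let _ : Fintype (IrrCharacter W) := @Fintype.ofFinite _ Core.finite_irr
  have h1 : ∀ z : Z, (((lam z)⁻¹ : ℂˣ) : ℂ) * (if IsConj (j z * y) y' then
        (Nat.card (Subgroup.centralizer ({y'} : Set W)) : ℂ) else 0) =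
      ∑ χ : IrrCharacter W, (((lam z)⁻¹ : ℂˣ) : ℂ) * ((χ : W → ℂ) (j z * y) * conj ((χ : W → ℂ) y')) := by
    intro z
    rw [← col_orth (j z * y) y', Finset.mul_sum]
  rw [Finset.sum_congr rfl fun z _ => h1 z, Finset.sum_comm]
  have h3 : ∑ χ ∈ ov j lam, (χ : W → ℂ) y * conj ((χ : W → ℂ) y') =
      ∑ χ : IrrCharacter W, if Over j lam (χ : W → ℂ) then (χ : W → ℂ) y * conj ((χ : W → ℂ) y') else 0 := by
    rw [← Finset.sum_filter]
    refine Finset.sum_congr ?_ fun _ _ => rfl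
    ext χ
    rw [mem_ov, Finset.mem_filter]
    exact ⟨fun h => ⟨Finset.mem_univ _, h⟩, fun h => h.2⟩
  rw [h3, Finset.mul_sum]
  refine Finset.sum_congr rfl fun χ _ => ?_
  have h2 := proj hZ lam χ y
  rw [Finset.sum_congr rfl fun z _ => (mul_assoc _ _ _).symm, ← Finset.sum_mul, h2]
  split_ifs
  · ring
  · ring

/-- only `z = 1` contributes -/
theorem col_self (hZ : ∀ z w, j z * w = w * j z) (lam : Z →* ℂˣ) (y : W)
    (hy : ∀ z : Z, IsConj (j z * y) y → z = 1) :
    (Nat.card Z : ℂ) * ∑ χ ∈ ov j lam, (χ : W → ℂ) y * conj ((χ : W → ℂ) y) =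
      Nat.card (Subgroup.centralizer ({y} : Set W)) := by
  classical
  have : Fintype Z := Fintype.ofFinite Z
  rw [col hZ lam y y, Finset.sum_eq_single 1]
  · rw [map_one, map_one, one_mul, if_pos (IsConj.refl y), inv_one, Units.val_one, one_mul]
  · intro z _ hz
    rw [if_neg fun h => hz (hy z h), mul_zero]
  · intro h
    exact absurd (Finset.mem_univ _) h

/-- different columns -/
theorem col_ne (hZ : ∀ z w, j z * w = w * j z) (lam : Z →* ℂˣ) (y y' : W)
    (hy : ∀ z : Z, ¬ IsConj (j z * y) y') :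
    ∑ χ ∈ ov j lam, (χ : W → ℂ) y * conj ((χ : W → ℂ) y') = 0 := by
  classical
  have : Fintype Z := Fintype.ofFinite Z
  have h1 := (col hZ lam y y').trans (Finset.sum_eq_zero (fun z _ => by rw [if_neg (hy z), mul_zero]))
  rcases mul_eq_zero.1 h1 with h2 | h2
  · exact absurd h2 (by exact_mod_cast Nat.card_pos.ne')
  · exact h2

end Gen

/-- the frame: `W = N_L(P)`, `|W / Z| = 72`, `d` inverts `P`, `W / (P ⟨d⟩)` abelian, `P#` one class -/
structure NL {Z W : Type u} [Group Z] [Group W] (j : Z →* W) (P : Subgroup W) (x d : W) : Prop where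
  cen : ∀ z w, j z * w = w * j z
  card : Nat.card W = 72 * Nat.card Z
  cardx : Nat.card (Subgroup.centralizer ({x} : Set W)) = 9 * Nat.card Z
  cP : Nat.card P = 9
  xP : x ∈ P
  tr : ∀ y ∈ P, y ≠ 1 → IsConj x y
  g1 : ∀ z, IsConj (j z * 1) 1 → z = 1
  gx : ∀ z, IsConj (j z * x) x → z = 1
  gd : ∀ z, ¬ IsConj (j z * 1) d
  dP : ∀ y ∈ P, IsConj d (d * y)
  dc : ∀ k, k * d * k⁻¹ * d⁻¹ ∈ P
  dd : d * d = 1
  dab : ∃ a b, a * b * a⁻¹ * b⁻¹ = d
  ab : ∀ g h : W, g * h * g⁻¹ * h⁻¹ ∈ P ∨ g * h * g⁻¹ * h⁻¹ * d ∈ P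

section Six

variable {Z W : Type u} [Group Z] [Group W] [Finite W] {j : Z →* W} {P : Subgroup W} {x d : W}

/-- all commutators in the kernel: linear -/
theorem one_of_comm (χ : IrrCharacter W) (h : ∀ g k : W, (χ : W → ℂ) (k * g * k⁻¹ * g⁻¹) = (χ : W → ℂ) 1) :
    (χ : W → ℂ) 1 = 1 := by
  have : Fintype W := Fintype.ofFinite W
  have h0 := Core.classInner_irr_self χ.2
  have h1 : ∀ g : W, (χ : W → ℂ) g * conj ((χ : W → ℂ) g) = (χ : W → ℂ) 1 * (χ : W → ℂ) 1 := by
    intro g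
    rw [← Core.isCharacter_apply_inv (Core.isIrr_isCharacter χ.2), ← scal χ (h g) g⁻¹, mul_inv_cancel]
  rw [Core.classInner_def, Finset.sum_congr rfl fun g _ => h1 g, Finset.sum_const, nsmul_eq_mul, Finset.card_univ,
    ← Nat.card_eq_fintype_card, ← mul_assoc, inv_mul_cancel₀ Core.card_ne_zero_complex, one_mul] at h0
  obtain ⟨n, hn, hn1⟩ := Core.isIrr_apply_one χ.2
  rw [hn1] at h0 ⊢
  have h2 : n * n = 1 := by exact_mod_cast h0
  have h3 : n = 1 := Nat.eq_one_of_mul_eq_one_right h2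
  rw [h3, Nat.cast_one]

theorem NL.cases (N : NL j P x d) [P.Normal] (χ : IrrCharacter W) :
    ((χ : W → ℂ) 1 = 1 ∧ (χ : W → ℂ) x = 1 ∧ (χ : W → ℂ) d = 1) ∨
    ((χ : W → ℂ) x = (χ : W → ℂ) 1 ∧ (χ : W → ℂ) d = -(χ : W → ℂ) 1 ∧ (χ : W → ℂ) 1 ≠ 1) ∨
    (8 * (χ : W → ℂ) x = -(χ : W → ℂ) 1 ∧ (χ : W → ℂ) d = 0) := by
  classical
  have : Fintype W := Fintype.ofFinite W
  have h0 := Core.isIrr_apply_one_ne_zero χ.2
  rcases dich χ P with h | h
  · -- `P` in the kernel
    have hx := h x N.xP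
    have h1 := scal χ (g := d) (fun k => h _ (N.dc k)) d
    rw [N.dd] at h1
    have h2 : ((χ : W → ℂ) d - (χ : W → ℂ) 1) * ((χ : W → ℂ) d + (χ : W → ℂ) 1) = 0 := by
      linear_combination -h1
    rcases mul_eq_zero.1 h2 with h3 | h3
    · left
      have h3 : (χ : W → ℂ) d = (χ : W → ℂ) 1 := sub_eq_zero.1 h3
      have h4 : (χ : W → ℂ) 1 = 1 := by
        refine one_of_comm χ fun g k => ?_
        rcases N.ab k g with h5 | h5
        · exact h _ h5
        · have h6 : k * g * k⁻¹ * g⁻¹ = (k * g * k⁻¹ * g⁻¹ * d) * d := by rw [mul_assoc _ d d, N.dd, mul_one]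
          rw [h6, apply_mul_of_eq' (Core.isIrr_isCharacter χ.2) h3]
          exact h _ h5
      exact ⟨h4, hx.trans h4, h3.trans h4⟩
    · right; left
      have h3 : (χ : W → ℂ) d = -(χ : W → ℂ) 1 := by linear_combination h3
      refine ⟨hx, h3, fun h4 => ?_⟩
      obtain ⟨f, hf⟩ := Linear.exists_hom_of_isIrrCharacter χ.2 h4
      obtain ⟨a, b, hab⟩ := N.dab
      have h5 : (χ : W → ℂ) d = 1 := by
        rw [← hab, hf]
        simp only [map_mul, map_inv]
        have : f a * f b * (f a)⁻¹ * (f b)⁻¹ = 1 := by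
          rw [mul_comm (f a) (f b), mul_assoc (f b), mul_inv_cancel, mul_one, mul_inv_cancel]
        rw [this, Units.val_one]
      rw [h3, h4] at h5
      norm_num at h5
  · right; right
    have hcl := Core.isIrr_isClassFunction χ.2
    constructor
    · have h1 := h 1
      have h2 : ∀ y : P, (χ : W → ℂ) (1 * (y : W)) = if y = 1 then (χ : W → ℂ) 1 else (χ : W → ℂ) x := by
        intro y
        rw [one_mul]
        split_ifs with hy
        · rw [hy]; rfl
        · exact (Core.classFunction_apply_eq hcl (N.tr y y.2 fun h' => hy (Subtype.ext h'))).symm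
      rw [Finset.sum_congr rfl fun y _ => h2 y, Finset.sum_ite, Finset.sum_const, Finset.sum_const,
        Finset.filter_eq', if_pos (Finset.mem_univ _), Finset.card_singleton, Finset.filter_ne',
        Finset.card_erase_of_mem (Finset.mem_univ _), Finset.card_univ, ← Nat.card_eq_fintype_card, N.cP] at h1
      norm_num only [_root_.one_smul, _root_.nsmul_eq_mul] at h1
      linear_combination h1
    · have h1 := h d
      have h2 : ∀ y : P, (χ : W → ℂ) (d * (y : W)) = (χ : W → ℂ) d := fun y =>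
        (Core.classFunction_apply_eq hcl (N.dP y y.2)).symm
      rw [Finset.sum_congr rfl fun y _ => h2 y, Finset.sum_const, Finset.card_univ, ← Nat.card_eq_fintype_card, N.cP] at h1
      norm_num at h1
      exact h1

/-- the three kinds of characters over `lam` -/
theorem NL.count (N : NL j P x d) [P.Normal] [Finite Z] (lam : Z →* ℂˣ) :
    ∃ c₁ : Finset (IrrCharacter W), c₁.card = 4 ∧ ∃ χ₂ χ₃ : IrrCharacter W,
      (∀ χ : IrrCharacter W, Over j lam (χ : W → ℂ) ↔ χ = χ₂ ∨ χ = χ₃ ∨ χ ∈ c₁) ∧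
      (∀ χ ∈ c₁, (χ : W → ℂ) 1 = 1 ∧ (χ : W → ℂ) x = 1 ∧ (χ : W → ℂ) d = 1) ∧
      ((χ₂ : W → ℂ) 1 = 2 ∧ (χ₂ : W → ℂ) x = 2 ∧ (χ₂ : W → ℂ) d = -2) ∧
      ((χ₃ : W → ℂ) 1 = 8 ∧ (χ₃ : W → ℂ) x = -1 ∧ (χ₃ : W → ℂ) d = 0) := by
  classical
  set T := ov j lam with hT
  let n : IrrCharacter W → ℕ := fun χ => charDegree (χ : W → ℂ)
  have hn : ∀ χ : IrrCharacter W, (χ : W → ℂ) 1 = (n χ : ℂ) := fun χ => (charDegree_irr χ).symm
  have hpos : ∀ χ : IrrCharacter W, 0 < n χ := charDegree_pos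
  set T₁ := T.filter fun χ : IrrCharacter W => (χ : W → ℂ) 1 = 1 ∧ (χ : W → ℂ) x = 1 ∧ (χ : W → ℂ) d = 1 with hT₁
  set T₂ := T.filter fun χ : IrrCharacter W => (χ : W → ℂ) x = (χ : W → ℂ) 1 ∧ (χ : W → ℂ) d = -(χ : W → ℂ) 1 ∧ (χ : W → ℂ) 1 ≠ 1
    with hT₂
  set T₃ := T.filter fun χ : IrrCharacter W => 8 * (χ : W → ℂ) x = -(χ : W → ℂ) 1 ∧ (χ : W → ℂ) d = 0 with hT₃
  have h0 : ∀ χ : IrrCharacter W, (χ : W → ℂ) 1 ≠ 0 := fun χ => Core.isIrr_apply_one_ne_zero χ.2
  have d12 : Disjoint T₁ T₂ := by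
    rw [Finset.disjoint_left]
    intro χ h1 h2
    rw [hT₁, Finset.mem_filter] at h1
    rw [hT₂, Finset.mem_filter] at h2
    exact h2.2.2.2 h1.2.1
  have d123 : Disjoint (T₁ ∪ T₂) T₃ := by
    rw [Finset.disjoint_left]
    intro χ h1 h3
    rw [hT₃, Finset.mem_filter] at h3
    rw [Finset.mem_union, hT₁, hT₂, Finset.mem_filter, Finset.mem_filter] at h1
    have h4 : (χ : W → ℂ) x = (χ : W → ℂ) 1 := by
      rcases h1 with h1 | h1
      · rw [h1.2.2.1, h1.2.1]
      · exact h1.2.1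
    have h5 := h3.2.1
    rw [h4] at h5
    exact h0 χ (by linear_combination h5 / 9)
  have hU : T = (T₁ ∪ T₂) ∪ T₃ := by
    ext χ
    rw [Finset.mem_union, Finset.mem_union, hT₁, hT₂, hT₃, Finset.mem_filter, Finset.mem_filter, Finset.mem_filter]
    constructor
    · intro h
      rcases N.cases χ with h1 | h1 | h1
      · exact Or.inl (Or.inl ⟨h, h1⟩)
      · exact Or.inl (Or.inr ⟨h, h1⟩)
      · exact Or.inr ⟨h, h1⟩
    · rintro ((h | h) | h) <;> exact h.1
  -- the members of `T₃`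
  have h3 : ∀ χ ∈ T₃, ∃ m : ℕ, 0 < m ∧ n χ = 8 * m ∧ (χ : W → ℂ) x = -(m : ℂ) := by
    intro χ hχ
    rw [hT₃, Finset.mem_filter] at hχ
    have h4 : (χ : W → ℂ) x = ((-(n χ : ℚ) / 8 : ℚ) : ℂ) := by
      have := hχ.2.1
      rw [hn χ] at this
      push_cast
      linear_combination this / 8
    have h5 : IsIntegral ℤ ((χ : W → ℂ) x) := by
      obtain ⟨k, ρ, -, hρ⟩ := Core.isIrrCharacter_def.1 χ.2
      rw [← hρ]
      exact Values.character_isIntegral ρ x
    obtain ⟨a, ha⟩ := SchurBound.exists_int_of_rat h5 h4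
    have h6 : (8 * a : ℤ) = -(n χ : ℤ) := by
      have := hχ.2.1
      rw [hn χ, ha] at this
      exact_mod_cast this
    have h7 := hpos χ
    refine ⟨(-a).toNat, by omega, by omega, ?_⟩
    rw [ha]
    have h8 : (((-a).toNat : ℤ) : ℂ) = ((-a : ℤ) : ℂ) := by rw [Int.toNat_of_nonneg (by omega)]
    rw [Int.cast_natCast] at h8
    rw [h8]
    push_cast
    ring
  have sumU : ∀ f : IrrCharacter W → ℂ, ∑ χ ∈ T, f χ = ∑ χ ∈ T₁, f χ + ∑ χ ∈ T₂, f χ + ∑ χ ∈ T₃, f χ := by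
    intro f
    rw [hU, Finset.sum_union d123, Finset.sum_union d12]
  have hZ0 : (Nat.card Z : ℂ) ≠ 0 := by exact_mod_cast Nat.card_pos.ne'
  -- the three sums
  have E1 : (T₁.card : ℂ) + ((∑ χ ∈ T₂, n χ ^ 2 : ℕ) : ℂ) + ((∑ χ ∈ T₃, n χ ^ 2 : ℕ) : ℂ) = 72 := by
    have h4 := col_self N.cen lam (1 : W) N.g1
    have h5 : Nat.card (Subgroup.centralizer ({(1 : W)} : Set W)) = Nat.card W := by
      have : Subgroup.centralizer ({(1 : W)} : Set W) = ⊤ := by
        rw [eq_top_iff]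
        intro y _
        rw [Subgroup.mem_centralizer_singleton_iff]
        rw [one_mul, mul_one]
      rw [this, Nat.card_congr Subgroup.topEquiv.toEquiv]
    rw [h5, N.card] at h4
    have h6 : ∑ χ ∈ ov j lam, (χ : W → ℂ) 1 * conj ((χ : W → ℂ) 1) = 72 := by
      apply mul_left_cancel₀ hZ0
      rw [h4]
      push_cast
      ring
    rw [← hT, sumU] at h6
    rw [← h6]
    congr 1
    · congr 1
      · rw [Finset.sum_congr rfl (g := fun _ => (1 : ℂ)), Finset.sum_const, nsmul_eq_mul, mul_one]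
        intro χ hχ
        rw [hT₁, Finset.mem_filter] at hχ
        rw [hχ.2.1, map_one, mul_one]
      · push_cast
        refine Finset.sum_congr rfl fun χ _ => ?_
        rw [hn χ, Complex.conj_natCast, sq]
    · push_cast
      refine Finset.sum_congr rfl fun χ _ => ?_
      rw [hn χ, Complex.conj_natCast, sq]
  have Ex : 64 * ((T₁.card : ℂ) + ((∑ χ ∈ T₂, n χ ^ 2 : ℕ) : ℂ)) + ((∑ χ ∈ T₃, n χ ^ 2 : ℕ) : ℂ) = 64 * 9 := by
    have h4 := col_self N.cen lam x N.gx
    rw [N.cardx] at h4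
    have h6 : ∑ χ ∈ ov j lam, (χ : W → ℂ) x * conj ((χ : W → ℂ) x) = 9 := by
      apply mul_left_cancel₀ hZ0
      rw [h4]
      push_cast
      ring
    rw [← hT, sumU] at h6
    rw [← h6, mul_add, mul_add, mul_add]
    congr 1
    · congr 1
      · rw [Finset.sum_congr rfl (g := fun _ => (1 : ℂ)), Finset.sum_const, nsmul_eq_mul, mul_one]
        intro χ hχ
        rw [hT₁, Finset.mem_filter] at hχ
        rw [hχ.2.2.1, map_one, mul_one]
      · push_cast
        congr 1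
        refine Finset.sum_congr rfl fun χ hχ => ?_
        rw [hT₂, Finset.mem_filter] at hχ
        rw [hχ.2.1, hn χ, Complex.conj_natCast, sq]
    · push_cast
      rw [Finset.mul_sum]
      refine Finset.sum_congr rfl fun χ hχ => ?_
      obtain ⟨m, -, hm, hx⟩ := h3 χ hχ
      rw [hx, hm, map_neg, Complex.conj_natCast]
      push_cast
      ring
  have Ed : (T₁.card : ℂ) = ((∑ χ ∈ T₂, n χ ^ 2 : ℕ) : ℂ) := by
    have h6 := col_ne N.cen lam (1 : W) d N.gd
    rw [← hT, sumU] at h6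
    have h7 : ∑ χ ∈ T₁, (χ : W → ℂ) 1 * conj ((χ : W → ℂ) d) = T₁.card := by
      rw [Finset.sum_congr rfl (g := fun _ => (1 : ℂ)), Finset.sum_const, nsmul_eq_mul, mul_one]
      intro χ hχ
      rw [hT₁, Finset.mem_filter] at hχ
      rw [hχ.2.1, hχ.2.2.2, map_one, mul_one]
    have h8 : ∑ χ ∈ T₂, (χ : W → ℂ) 1 * conj ((χ : W → ℂ) d) = -((∑ χ ∈ T₂, n χ ^ 2 : ℕ) : ℂ) := by
      push_cast
      rw [← Finset.sum_neg_distrib]
      refine Finset.sum_congr rfl fun χ hχ => ?_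
      rw [hT₂, Finset.mem_filter] at hχ
      rw [hχ.2.2.1, hn χ, map_neg, Complex.conj_natCast]
      ring
    have h9 : ∑ χ ∈ T₃, (χ : W → ℂ) 1 * conj ((χ : W → ℂ) d) = 0 := by
      refine Finset.sum_eq_zero fun χ hχ => ?_
      rw [hT₃, Finset.mem_filter] at hχ
      rw [hχ.2.2, map_zero, mul_zero]
    rw [h7, h8, h9] at h6
    linear_combination h6
  have E1' : T₁.card + ∑ χ ∈ T₂, n χ ^ 2 + ∑ χ ∈ T₃, n χ ^ 2 = 72 := by exact_mod_cast E1
  have Ex' : 64 * (T₁.card + ∑ χ ∈ T₂, n χ ^ 2) + ∑ χ ∈ T₃, n χ ^ 2 = 64 * 9 := by exact_mod_cast Ex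
  have Ed' : T₁.card = ∑ χ ∈ T₂, n χ ^ 2 := by exact_mod_cast Ed
  have c1 : T₁.card = 4 := by omega
  have s2 : ∑ χ ∈ T₂, n χ ^ 2 = 4 := by omega
  have s3 : ∑ χ ∈ T₃, n χ ^ 2 = 64 := by omega
  have c2 : T₂.card = 1 := by
    have h4 : ∀ χ ∈ T₂, 4 ≤ n χ ^ 2 := by
      intro χ hχ
      rw [hT₂, Finset.mem_filter] at hχ
      have h5 : n χ ≠ 1 := fun h => hχ.2.2.2 (by rw [hn χ, h, Nat.cast_one])
      have h6 := hpos χ
      nlinarith only [show 2 ≤ n χ by omega]
    have h5 := Finset.card_nsmul_le_sum T₂ (fun χ => n χ ^ 2) 4 h4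
    rw [s2, smul_eq_mul] at h5
    have h6 : T₂.card ≠ 0 := by
      intro h
      rw [Finset.card_eq_zero] at h
      rw [h, Finset.sum_empty] at s2
      omega
    omega
  have c3 : T₃.card = 1 := by
    have h4 : ∀ χ ∈ T₃, 64 ≤ n χ ^ 2 := by
      intro χ hχ
      obtain ⟨m, hm0, hm, -⟩ := h3 χ hχ
      rw [hm]
      nlinarith only [hm0]
    have h5 := Finset.card_nsmul_le_sum T₃ (fun χ => n χ ^ 2) 64 h4
    rw [s3, smul_eq_mul] at h5
    have h6 : T₃.card ≠ 0 := by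
      intro h
      rw [Finset.card_eq_zero] at h
      rw [h, Finset.sum_empty] at s3
      omega
    omega
  obtain ⟨χ₂, hχ₂⟩ := Finset.card_eq_one.1 c2
  obtain ⟨χ₃, hχ₃⟩ := Finset.card_eq_one.1 c3
  refine ⟨T₁, c1, χ₂, χ₃, ?_, fun χ hχ => by rw [hT₁, Finset.mem_filter] at hχ; exact hχ.2, ?_, ?_⟩
  · intro χ
    rw [← mem_ov, ← hT, hU, hχ₂, hχ₃]
    simp only [Finset.mem_union, Finset.mem_singleton]
    (clear * -; tauto)
  · have h4 : χ₂ ∈ T₂ := by rw [hχ₂]; exact Finset.mem_singleton_self _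
    rw [hT₂, Finset.mem_filter] at h4
    rw [hχ₂, Finset.sum_singleton] at s2
    have h5 : n χ₂ = 2 := by
      have : n χ₂ ^ 2 = 2 ^ 2 := by rw [s2]; norm_num
      exact Nat.pow_left_injective (n := 2) (by norm_num) this
    have h6 : (χ₂ : W → ℂ) 1 = 2 := by rw [hn, h5]; norm_num
    exact ⟨h6, h4.2.1.trans h6, h4.2.2.1.trans (by rw [h6])⟩
  · have h4 : χ₃ ∈ T₃ := by rw [hχ₃]; exact Finset.mem_singleton_self _
    obtain ⟨m, hm0, hm, hx⟩ := h3 χ₃ h4
    rw [hT₃, Finset.mem_filter] at h4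
    rw [hχ₃, Finset.sum_singleton, hm] at s3
    have h5 : m = 1 := by nlinarith only [s3]
    subst h5
    refine ⟨by rw [hn, hm]; norm_num, by rw [hx]; norm_num, h4.2.2⟩

theorem NL.six (N : NL j P x d) [P.Normal] [Finite Z] (lam : Z →* ℂˣ) : Six j lam x := by
  classical
  obtain ⟨c₁, h4, χ₂, χ₃, mem, h1, h2, h3⟩ := N.count lam
  refine ⟨?_, ?_, ?_⟩
  · intro χ hχ
    rcases (mem χ).1 hχ with h | h | h
    · exact ⟨2, by rw [h, h2.2.1]; norm_num, by norm_num⟩
    · exact ⟨-1, by rw [h, h3.2.1]; norm_num, by norm_num⟩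
    · exact ⟨1, by rw [(h1 χ h).2.1]; norm_num, by norm_num⟩
  · have h5 : χ₃ ∉ c₁ := fun h => by
      have := (h1 χ₃ h).1
      rw [h3.1] at this
      norm_num at this
    have h6 : (insert χ₃ c₁).card = 5 := by rw [Finset.card_insert_of_notMem h5, h4]
    have h7 : Nat.card {χ : IrrCharacter W // χ ∈ insert χ₃ c₁} = 5 := by
      rw [Nat.card_eq_fintype_card, Fintype.card_coe, h6]
    rw [← h7]
    refine Nat.card_congr (Equiv.subtypeEquivRight fun χ => ?_)
    rw [mem, Finset.mem_insert]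
    constructor
    · rintro ⟨h | h | h, hx⟩
      · exfalso
        rw [h, h2.2.1] at hx
        norm_num at hx
      · exact Or.inl h
      · exact Or.inr h
    · rintro (h | h)
      · exact ⟨Or.inr (Or.inl h), Or.inr (by rw [h, h3.2.1])⟩
      · exact ⟨Or.inr (Or.inr h), Or.inl (h1 χ h).2.1⟩
  · rw [Nat.card_eq_one_iff_unique]
    constructor
    · constructor
      rintro ⟨χ, hχ, hx⟩ ⟨χ', hχ', hx'⟩
      have key : ∀ ψ : IrrCharacter W, Over j lam (ψ : W → ℂ) → ((ψ : W → ℂ) x = 2 ∨ (ψ : W → ℂ) x = -2) → ψ = χ₂ := by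
        intro ψ hψ hx
        rcases (mem ψ).1 hψ with h | h | h
        · exact h
        · exfalso
          rw [h, h3.2.1] at hx
          norm_num at hx
        · exfalso
          rw [(h1 ψ h).2.1] at hx
          norm_num at hx
      exact Subtype.ext ((key χ hχ hx).trans (key χ' hχ' hx').symm)
    · exact ⟨⟨χ₂, (mem χ₂).2 (Or.inl rfl), Or.inl h2.2.1⟩⟩

/-- the member of value `±2` -/
theorem NL.two (N : NL j P x d) [P.Normal] [Finite Z] (lam : Z →* ℂˣ) (χ : IrrCharacter W)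
    (hχ : Over j lam (χ : W → ℂ)) (hx : (χ : W → ℂ) x ^ 2 = 4) :
    (χ : W → ℂ) 1 = 2 ∧ (χ : W → ℂ) x = 2 ∧ (χ : W → ℂ) d = -2 := by
  obtain ⟨c₁, h4, χ₂, χ₃, mem, h1, h2, h3⟩ := N.count lam
  rcases (mem χ).1 hχ with h | h | h
  · rw [h]; exact h2
  · exfalso
    rw [h, h3.2.1] at hx
    norm_num at hx
  · exfalso
    rw [(h1 χ h).2.1] at hx
    norm_num at hx

end Six

end Cfsg.Agent.H612.TI34
end

-- part: H612/TI34/Six
section
/-!
# S4819, S4820, row `PSL₃(4)`: `GoalSixN` (helper612)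
-/

set_option autoImplicit false
set_option linter.unusedSectionVars false

namespace Cfsg.Agent.H612.TI34

open Cfsg Cfsg.Agent.Characters Cfsg.Agent.H155.TI

universe u

section

variable {Γ : Type u} [Group Γ] [Finite Γ] {Z L P H : Subgroup Γ} {x d a b : Γ}

theorem comm_P (F : Frame Z L P H x d a b) {y y' : Γ} (hy : y ∈ P) (hy' : y' ∈ P) : y * y' = y' * y := by
  have : Fact (Nat.Prime 3) := ⟨by norm_num⟩
  have h := IsPGroup.isMulCommutative_of_card_eq_prime_sq (p := 3) (G := P) (by rw [F.Pc]; norm_num)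
  exact congrArg Subtype.val (h.is_comm.comm ⟨y, hy⟩ ⟨y', hy'⟩)

theorem cz (F : Frame Z L P H x d a b) {z : Γ} (hz : z ∈ Z) (g : Γ) : z * g = g * z :=
  (Subgroup.mem_center_iff.1 (F.Zc hz) g).symm

theorem eq_one_Z (F : Frame Z L P H x d a b) {z : Γ} (hz : z ∈ Z) (h3 : z ^ 3 = 1) : z = 1 := by
  have h1 : (⟨z, hz⟩ : Z) ^ (Nat.card Z) = 1 := pow_card_eq_one'
  have h2 : z ^ Nat.card Z = 1 := congrArg Subtype.val h1
  have h4 : Nat.Coprime 3 (Nat.card Z) := (Nat.Prime.coprime_iff_not_dvd (by norm_num)).2 F.Z3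
  have h5 : z ^ Nat.gcd 3 (Nat.card Z) = 1 := pow_gcd_eq_one.2 ⟨h3, h2⟩
  rwa [h4, pow_one] at h5

/-- `d` is not central -/
theorem dx_ne (F : Frame Z L P H x d a b) : d * x * d⁻¹ ≠ x := by
  intro h
  rw [F.dinv x F.xP] at h
  have h3 := F.P3 x F.xP
  have h4 : x * x = 1 := by
    calc x * x = x * x⁻¹ := by rw [h]
      _ = 1 := mul_inv_cancel x
  apply F.x1
  calc x = x ^ 3 * (x * x)⁻¹ := by group
    _ = 1 := by rw [h3, h4]; group

theorem conj_d (F : Frame Z L P H x d a b) {y : Γ} (hy : y ∈ P) : y * d * y⁻¹ = d * y := by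
  have h1 := F.dinv y hy
  have h3 := F.P3 y hy
  have hd : d⁻¹ = d := inv_eq_of_mul_eq_one_right F.dd
  have h2 : y * d = d * y⁻¹ := by
    rw [← h1, hd, ← mul_assoc, ← mul_assoc, F.dd, one_mul]
  rw [h2]
  have h4 : y⁻¹ * y⁻¹ = y := by
    calc y⁻¹ * y⁻¹ = (y ^ 3)⁻¹ * y := by group
      _ = y := by rw [h3, inv_one, one_mul]
  rw [mul_assoc, h4]

/-- the commutator relation -/
def Cm (d g k : Γ) : Prop := g * k * g⁻¹ * k⁻¹ = 1 ∨ g * k * g⁻¹ * k⁻¹ = d

theorem Cm.mul_left {g g' k : Γ} (hdd : d * d = 1) (hg : g * d = d * g) (h : Cm d g k) (h' : Cm d g' k) :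
    Cm d (g * g') k := by
  have h1 : g * g' * k * (g * g')⁻¹ * k⁻¹ = g * (g' * k * g'⁻¹ * k⁻¹) * g⁻¹ * (g * k * g⁻¹ * k⁻¹) := by group
  have hd : g * d * g⁻¹ = d := by rw [hg, mul_inv_cancel_right]
  unfold Cm
  rw [h1]
  rcases h with h | h <;> rcases h' with h' | h' <;> rw [h, h']
  · left; group
  · right; rw [hd, mul_one]
  · right; group
  · left; rw [hd, hdd]

theorem Cm.mul_right {g k k' : Γ} (hdd : d * d = 1) (hk : k * d = d * k) (h : Cm d g k) (h' : Cm d g k') :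
    Cm d g (k * k') := by
  have h1 : g * (k * k') * g⁻¹ * (k * k')⁻¹ = (g * k * g⁻¹ * k⁻¹) * (k * (g * k' * g⁻¹ * k'⁻¹) * k⁻¹) := by group
  have hd : k * d * k⁻¹ = d := by rw [hk, mul_inv_cancel_right]
  unfold Cm
  rw [h1]
  rcases h with h | h <;> rcases h' with h' | h' <;> rw [h, h']
  · left; group
  · right; rw [hd, one_mul]
  · right; group
  · left; rw [hd, hdd]

theorem Cm.of_comm {g k : Γ} (h : g * k = k * g) : Cm d g k := by
  left
  rw [h]; group

theorem cm_HL (F : Frame Z L P H x d a b) {g k : Γ} (hg : g ∈ H) (hgL : g ∈ L) (hk : k ∈ H) (hkL : k ∈ L) :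
    Cm d g k := by
  have hc := F.dc
  have ca := hc a F.aH
  have cb := hc b F.bH
  -- `[a, ·]` and `[b, ·]`
  have hab : Cm d a b := Or.inr F.ab
  have hba : Cm d b a := by
    right
    have h1 : b * a * b⁻¹ * a⁻¹ = (a * b * a⁻¹ * b⁻¹)⁻¹ := by group
    rw [h1, F.ab]
    exact inv_eq_of_mul_eq_one_right F.dd
  have key : ∀ w : Γ, w * d = d * w → Cm d w a → Cm d w b → ∀ k ∈ H, k ∈ L → Cm d w k := by
    intro w hw h1 h2 k hk hkL
    have hwz : ∀ z ∈ Z, Cm d w z := fun z hz => Cm.of_comm (cz F hz w).symm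
    have hwd : Cm d w d := Cm.of_comm hw
    have zd : ∀ z ∈ Z, z * d = d * z := fun z hz => cz F hz d
    obtain ⟨z, hz, h | h | h | h | h | h | h | h⟩ := F.gen k hk hkL <;> rw [h]
    · exact hwz z hz
    · exact Cm.mul_right F.dd (zd z hz) (hwz z hz) h1
    · exact Cm.mul_right F.dd (zd z hz) (hwz z hz) h2
    · exact Cm.mul_right F.dd (zd z hz) (hwz z hz) (Cm.mul_right F.dd ca h1 h2)
    · exact Cm.mul_right F.dd (zd z hz) (hwz z hz) hwd
    · exact Cm.mul_right F.dd (zd z hz) (hwz z hz) (Cm.mul_right F.dd rfl hwd h1)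
    · exact Cm.mul_right F.dd (zd z hz) (hwz z hz) (Cm.mul_right F.dd rfl hwd h2)
    · exact Cm.mul_right F.dd (zd z hz) (hwz z hz) (Cm.mul_right F.dd rfl hwd (Cm.mul_right F.dd ca h1 h2))
  have Ka := key a ca (Cm.of_comm rfl) hab k hk hkL
  have Kb := key b cb hba (Cm.of_comm rfl) k hk hkL
  have Kd : Cm d d k := Cm.of_comm (hc k hk).symm
  obtain ⟨z, hz, h | h | h | h | h | h | h | h⟩ := F.gen g hg hgL <;> rw [h]
  · exact Cm.of_comm (cz F hz k)
  · exact Cm.mul_left F.dd (cz F hz d) (Cm.of_comm (cz F hz k)) Ka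
  · exact Cm.mul_left F.dd (cz F hz d) (Cm.of_comm (cz F hz k)) Kb
  · exact Cm.mul_left F.dd (cz F hz d) (Cm.of_comm (cz F hz k)) (Cm.mul_left F.dd ca Ka Kb)
  · exact Cm.mul_left F.dd (cz F hz d) (Cm.of_comm (cz F hz k)) Kd
  · exact Cm.mul_left F.dd (cz F hz d) (Cm.of_comm (cz F hz k)) (Cm.mul_left F.dd rfl Kd Ka)
  · exact Cm.mul_left F.dd (cz F hz d) (Cm.of_comm (cz F hz k)) (Cm.mul_left F.dd rfl Kd Kb)
  · exact Cm.mul_left F.dd (cz F hz d) (Cm.of_comm (cz F hz k)) (Cm.mul_left F.dd rfl Kd (Cm.mul_left F.dd ca Ka Kb))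

end

section

variable {Γ : Type u} [Group Γ] [Finite Γ] {Z L P H : Subgroup Γ} {x d a b : Γ}

theorem memN {g y : Γ} (hg : g ∈ Subgroup.normalizer (P : Set Γ)) (hy : y ∈ P) : g * y * g⁻¹ ∈ P :=
  (Subgroup.mem_normalizer_iff.1 hg y).1 hy

theorem nl (F : Frame Z L P H x d a b) (hZ : Z ≤ L ⊓ Subgroup.normalizer (P : Set Γ))
    (hx : x ∈ L ⊓ Subgroup.normalizer (P : Set Γ)) (hd : d ∈ L ⊓ Subgroup.normalizer (P : Set Γ)) :
    NL (Subgroup.inclusion hZ) (P.subgroupOf (L ⊓ Subgroup.normalizer (P : Set Γ))) ⟨x, hx⟩ ⟨d, hd⟩ := by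
  classical
  have hPA : P ≤ L ⊓ Subgroup.normalizer (P : Set Γ) := le_inf F.PL Subgroup.le_normalizer
  have cen : ∀ (z : Z) (w : ↥(L ⊓ Subgroup.normalizer (P : Set Γ))),
      Subgroup.inclusion hZ z * w = w * Subgroup.inclusion hZ z := fun z w => Subtype.ext (cz F z.2 w)
  have x3 : x ^ 3 = 1 := F.P3 x F.xP
  have dc : ∀ k ∈ Subgroup.normalizer (P : Set Γ), k * d * k⁻¹ * d⁻¹ ∈ P := by
    intro k hk
    obtain ⟨y, hy, h, hh, rfl⟩ := F.N k hk
    have h1 : y * h * d * (y * h)⁻¹ * d⁻¹ = d * y * d⁻¹ := by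
      have h2 : y * h * d * (y * h)⁻¹ = y * (h * d * h⁻¹) * y⁻¹ := by group
      rw [h2, F.dc h hh, mul_inv_cancel_right, conj_d F hy]
    rw [h1, F.dinv y hy]
    exact P.inv_mem hy
  have tr : ∀ y ∈ P.subgroupOf (L ⊓ Subgroup.normalizer (P : Set Γ)), y ≠ 1 →
      IsConj (⟨x, hx⟩ : ↥(L ⊓ Subgroup.normalizer (P : Set Γ))) y := by
    intro y hy hy1
    obtain ⟨h, hh, hL, h1⟩ := F.tr y (Subgroup.mem_subgroupOf.1 hy) fun h => hy1 (Subtype.ext h)
    exact isConj_iff.2 ⟨⟨h, hL, F.HN hh⟩, Subtype.ext h1⟩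
  have cP : Nat.card (P.subgroupOf (L ⊓ Subgroup.normalizer (P : Set Γ))) = 9 := by
    rw [Nat.card_congr (Subgroup.subgroupOfEquivOfLe hPA).toEquiv, F.Pc]
  have cardx : Nat.card (Subgroup.centralizer ({(⟨x, hx⟩ : ↥(L ⊓ Subgroup.normalizer (P : Set Γ)))} :
      Set ↥(L ⊓ Subgroup.normalizer (P : Set Γ)))) = 9 * Nat.card Z := by
    let f : P × Z → Subgroup.centralizer ({(⟨x, hx⟩ : ↥(L ⊓ Subgroup.normalizer (P : Set Γ)))} :
      Set ↥(L ⊓ Subgroup.normalizer (P : Set Γ))) := fun p =>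
        ⟨⟨p.1 * p.2, mul_mem (hPA p.1.2) (hZ p.2.2)⟩, by
          rw [Subgroup.mem_centralizer_singleton_iff]
          refine Subtype.ext ?_
          show (p.1 : Γ) * p.2 * x = x * (p.1 * p.2)
          rw [mul_assoc, cz F p.2.2 x, ← mul_assoc, comm_P F p.1.2 F.xP, mul_assoc]⟩
    have hf : Function.Bijective f := by
      constructor
      · rintro ⟨y, z⟩ ⟨y', z'⟩ h
        have h1 : (y : Γ) * z = y' * z' := congrArg (fun t => ((t : ↥(L ⊓ Subgroup.normalizer (P : Set Γ))) : Γ)) (congrArg Subtype.val h)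
        have h2 : (y' : Γ)⁻¹ * y = z' * (z : Γ)⁻¹ := by
          rw [eq_mul_inv_iff_mul_eq, mul_assoc, h1, inv_mul_cancel_left]
        have h3 : (y' : Γ)⁻¹ * y ∈ P := mul_mem (P.inv_mem y'.2) y.2
        have h4 : (z' : Γ) * (z : Γ)⁻¹ = 1 :=
          eq_one_Z F (mul_mem z'.2 (Z.inv_mem z.2)) (by rw [← h2]; exact F.P3 _ h3)
        rw [h4, inv_mul_eq_one] at h2
        rw [mul_inv_eq_one] at h4
        exact Prod.ext (Subtype.ext h2.symm) (Subtype.ext h4.symm)
      · rintro ⟨⟨g, hg⟩, hgx⟩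
        rw [Subgroup.mem_centralizer_singleton_iff] at hgx
        have h1 : g * x = x * g := congrArg Subtype.val hgx
        obtain ⟨y, hy, z, hz, h2⟩ := F.cL g hg.1 x F.xP F.x1 h1
        exact ⟨(⟨y, hy⟩, ⟨z, hz⟩), Subtype.ext (Subtype.ext h2.symm)⟩
    rw [← Nat.card_congr (Equiv.ofBijective f hf), Nat.card_prod, F.Pc]
  have hnorm : ∀ (g y : ↥(L ⊓ Subgroup.normalizer (P : Set Γ))), y ∈ P.subgroupOf (L ⊓ Subgroup.normalizer (P : Set Γ)) →
      g * y * g⁻¹ ∈ P.subgroupOf (L ⊓ Subgroup.normalizer (P : Set Γ)) := by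
    intro g y hy
    exact Subgroup.mem_subgroupOf.2 (memN g.2.2 (Subgroup.mem_subgroupOf.1 hy))
  refine ⟨cen, ?_, cardx, cP, Subgroup.mem_subgroupOf.2 F.xP, tr, ?_, ?_, ?_, ?_, ?_, Subtype.ext F.dd, ?_, ?_⟩
  · -- order
    have h1 := Cfsg.Agent.H235.Ore.ClassList.card_class (⟨x, hx⟩ : ↥(L ⊓ Subgroup.normalizer (P : Set Γ)))
    rw [← h1, cardx]
    have h2 : Nat.card {y : ↥(L ⊓ Subgroup.normalizer (P : Set Γ)) //
        IsConj (⟨x, hx⟩ : ↥(L ⊓ Subgroup.normalizer (P : Set Γ))) y} = 8 := by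
      have h3 : Nat.card {y : P.subgroupOf (L ⊓ Subgroup.normalizer (P : Set Γ)) // y ≠ 1} = 8 := by
        have : Fintype (P.subgroupOf (L ⊓ Subgroup.normalizer (P : Set Γ))) := Fintype.ofFinite _
        rw [Nat.card_eq_fintype_card, Fintype.card_subtype_compl, Fintype.card_subtype_eq,
          ← Nat.card_eq_fintype_card, cP]
      rw [← h3]
      refine Nat.card_congr ⟨fun y => ⟨⟨y.1, ?_⟩, ?_⟩, fun y => ⟨y.1.1, tr y.1.1 y.1.2 fun h => y.2 (Subtype.ext h)⟩,
        fun _ => rfl, fun _ => rfl⟩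
      · obtain ⟨g, hg⟩ := isConj_iff.1 y.2
        rw [← hg]
        exact hnorm g _ (Subgroup.mem_subgroupOf.2 F.xP)
      · intro h
        have h4 : y.1 = 1 := congrArg Subtype.val h
        have h5 := y.2
        rw [h4, isConj_one_left] at h5
        exact F.x1 (congrArg Subtype.val h5)
    rw [h2]
    ring
  · intro z hz
    rw [mul_one, isConj_one_left] at hz
    have h1 : (z : Γ) = 1 := congrArg (fun t : ↥(L ⊓ Subgroup.normalizer (P : Set Γ)) => (t : Γ)) hz
    exact Subtype.ext h1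
  · intro z hz
    obtain ⟨g, hg⟩ := isConj_iff.1 hz
    have h1 : (g : Γ) * ((z : Γ) * x) * (g : Γ)⁻¹ = x := congrArg Subtype.val hg
    have h2 : ((z : Γ) * x) ^ 3 = 1 := by
      have h3 : ((g : Γ) * ((z : Γ) * x) * (g : Γ)⁻¹) ^ 3 = (g : Γ) * ((z : Γ) * x) ^ 3 * (g : Γ)⁻¹ := conj_pow
      rw [h1, x3] at h3
      rw [eq_mul_inv_iff_mul_eq, one_mul] at h3
      exact mul_left_cancel (h3.symm.trans (mul_one _).symm)
    have h4 : ((z : Γ) * x) ^ 3 = (z : Γ) ^ 3 * x ^ 3 := (show Commute (z : Γ) x from cz F z.2 x).mul_pow 3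
    rw [h4, x3, mul_one] at h2
    exact Subtype.ext (eq_one_Z F z.2 h2)
  · intro z hz
    rw [mul_one] at hz
    obtain ⟨g, hg⟩ := isConj_iff.1 hz
    have h1 : (g : Γ) * (z : Γ) * (g : Γ)⁻¹ = d := congrArg Subtype.val hg
    rw [← cz F z.2, mul_inv_cancel_right] at h1
    apply dx_ne F
    rw [← h1, cz F z.2 x, mul_inv_cancel_right]
  · intro y hy
    exact isConj_iff.2 ⟨y, Subtype.ext (conj_d F (Subgroup.mem_subgroupOf.1 hy))⟩
  · intro k
    exact Subgroup.mem_subgroupOf.2 (dc k k.2.2)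
  · exact ⟨⟨a, F.aL, F.HN F.aH⟩, ⟨b, F.bL, F.HN F.bH⟩, Subtype.ext F.ab⟩
  · intro g h
    obtain ⟨y, hy, g', hg', e1⟩ := F.N g g.2.2
    obtain ⟨y', hy', h', hh', e2⟩ := F.N h h.2.2
    have hgL : g' ∈ L := by
      have : g' = y⁻¹ * g := by rw [e1]; group
      rw [this]; exact mul_mem (L.inv_mem (F.PL hy)) g.2.1
    have hhL : h' ∈ L := by
      have : h' = y'⁻¹ * h := by rw [e2]; group
      rw [this]; exact mul_mem (L.inv_mem (F.PL hy')) h.2.1
    -- modulo `P`
    have key : (g : Γ) * h * (g : Γ)⁻¹ * (h : Γ)⁻¹ * (g' * h' * g'⁻¹ * h'⁻¹)⁻¹ ∈ P := by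
      rw [e1, e2]
      have nP : ∀ w ∈ Subgroup.normalizer (P : Set Γ), ∀ t ∈ P, w * t * w⁻¹ ∈ P := fun w hw t ht => memN hw ht
      have ng := F.HN hg'
      have nh := F.HN hh'
      have h3 : y * g' * (y' * h') * (y * g')⁻¹ * (y' * h')⁻¹ * (g' * h' * g'⁻¹ * h'⁻¹)⁻¹ =
          y * (g' * y' * g'⁻¹) * ((g' * h' * g'⁻¹) * y⁻¹ * (g' * h' * g'⁻¹)⁻¹) *
            ((g' * h' * g'⁻¹ * h'⁻¹) * y'⁻¹ * (g' * h' * g'⁻¹ * h'⁻¹)⁻¹) := by group
      rw [h3]
      have n1 : g' * h' * g'⁻¹ ∈ Subgroup.normalizer (P : Set Γ) := mul_mem (mul_mem ng nh) (inv_mem ng)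
      exact mul_mem (mul_mem (mul_mem hy (nP _ ng _ hy')) (nP _ n1 _ (P.inv_mem hy)))
        (nP _ (mul_mem n1 (inv_mem nh)) _ (P.inv_mem hy'))
    rcases cm_HL F hg' hgL hh' hhL with h3 | h3
    · left
      rw [h3, inv_one, mul_one] at key
      exact Subgroup.mem_subgroupOf.2 key
    · right
      rw [h3, show d⁻¹ = d from inv_eq_of_mul_eq_one_right F.dd] at key
      exact Subgroup.mem_subgroupOf.2 key

theorem P_normal : (P.subgroupOf (L ⊓ Subgroup.normalizer (P : Set Γ))).Normal :=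
  ⟨fun y hy g => Subgroup.mem_subgroupOf.2 (memN g.2.2 (Subgroup.mem_subgroupOf.1 hy))⟩

end

/-- **GOAL SIXN** -/
theorem goalSixN : GoalSixN.{u} := by
  intro Γ _ _ Z L P H x d a b F lam hZ hx
  have : (P.subgroupOf (L ⊓ Subgroup.normalizer (P : Set Γ))).Normal := P_normal
  exact (nl F hZ hx ⟨F.dL, F.HN F.dH⟩).six lam

end Cfsg.Agent.H612.TI34
end

-- part: H612/TI34/Kap
section
/-!
# S4819, S4820, row `PSL₃(4)`: `GoalKapN` (helper612)
-/

set_option autoImplicit false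
set_option linter.unusedSectionVars false

namespace Cfsg.Agent.H612.TI34

open Cfsg Cfsg.Agent.Characters Cfsg.Agent.H155.TI Cfsg.Agent.H686.CharKit

universe u

section

variable {Γ : Type u} [Group Γ] [Finite Γ] {Z L P H : Subgroup Γ} {x d a b c r : Γ} {lam : Z →* ℂˣ}

/-- `h c h⁻¹ = z c` with `lam z = s` -/
def Sg (lam : Z →* ℂˣ) (c h : Γ) (s : ℂ) : Prop := ∃ z : Z, h * c * h⁻¹ = z * c ∧ (lam z : ℂ) = s

theorem Sg.mul (F : Frame Z L P H x d a b) {h h' : Γ} {s s' : ℂ} (h1 : Sg lam c h s) (h2 : Sg lam c h' s') :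
    Sg lam c (h * h') (s * s') := by
  obtain ⟨z, hz, hs⟩ := h1
  obtain ⟨z', hz', hs'⟩ := h2
  refine ⟨z * z', ?_, by rw [map_mul, Units.val_mul, hs, hs']⟩
  have h3 : h * h' * c * (h * h')⁻¹ = h * (h' * c * h'⁻¹) * h⁻¹ := by group
  have h4 : h * ((z' : Γ) * c) * h⁻¹ = (z' : Γ) * (h * c * h⁻¹) := by
    rw [← mul_assoc, ← cz F z'.2 h]; group
  rw [h3, hz', h4, hz, ← mul_assoc, Subgroup.coe_mul, cz F z.2 z']

theorem Sg.unique {h : Γ} {s s' : ℂ} (h1 : Sg lam c h s) (h2 : Sg lam c h s') : s = s' := by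
  obtain ⟨z, hz, hs⟩ := h1
  obtain ⟨z', hz', hs'⟩ := h2
  have h3 : z = z' := Subtype.ext (mul_right_cancel (hz.symm.trans hz'))
  rw [← hs, ← hs', h3]

/-- `Γ / L` is abelian -/
theorem comm_L (hL : L.Normal) (hi : L.index = 4) (g h : Γ) : g * h * g⁻¹ * h⁻¹ ∈ L := by
  have : Fact (Nat.Prime 2) := ⟨by norm_num⟩
  have h1 := IsPGroup.isMulCommutative_of_card_eq_prime_sq (p := 2) (G := Γ ⧸ L)
    (by rw [← Subgroup.index_eq_card, hi]; norm_num)
  rw [← QuotientGroup.eq_one_iff]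
  have h2 : (g : Γ ⧸ L) * (h : Γ ⧸ L) = (h : Γ ⧸ L) * (g : Γ ⧸ L) := h1.is_comm.comm _ _
  show (g : Γ ⧸ L) * (h : Γ ⧸ L) * (g : Γ ⧸ L)⁻¹ * (h : Γ ⧸ L)⁻¹ = 1
  rw [h2]
  group

/-! ### changing the generators -/

/-! ### the action of `r` -/

/-! ### the character -/

/-- the data of the character `f` on `K` -/
structure Chi (Z L P H : Subgroup Γ) (d c : Γ) (lam : Z →* ℂˣ) (K : Subgroup Γ) (f : Γ → ℂ) : Prop where
  cl : ∀ k ∈ K, ∀ g ∈ K, f (k * g * k⁻¹) = f g
  z : ∀ (z : Z), ∀ g ∈ K, f (z * g) = lam z * f g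
  p : ∀ y ∈ P, ∀ g ∈ K, f (y * g) = f g
  d : ∀ g ∈ K, f (d * g) = - f g
  HL : ∀ h ∈ H, h ∈ L → h ∈ K
  cK : c ∈ K
  el : ∀ k ∈ K, ∃ y ∈ P, ∃ h ∈ H, h ∈ L ∧ (k = y * h ∨ k = y * h * c)

end

end Cfsg.Agent.H612.TI34
end

-- part: H612/TI34/Quad
section
/-!
# S4819, S4820, row `PSL₃(4)`: the frame gives the index 4 data (helper612)
-/

set_option autoImplicit false
set_option linter.unusedSectionVars false
set_option linter.unusedVariables false

namespace Cfsg.Agent.H612.TI34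

open Cfsg Cfsg.Agent.H155.TI
open scoped Pointwise

universe u

variable {Γ : Type u} [Group Γ] [Finite Γ] {Z L P H : Subgroup Γ} {x d a b : Γ}

theorem Le_top {L : Subgroup Γ} {e : Γ} (h : L.index = 2) (he : e ∉ L) : Le L e = ⊤ := by
  rw [eq_top_iff]
  intro g _
  by_cases hg : g ∈ L
  · exact Subgroup.mem_sup_left hg
  · have h1 : g * e⁻¹ ∈ L := by
      rw [Subgroup.mul_mem_iff_of_index_two h, inv_mem_iff]
      (clear * - he hg; tauto)
    have h2 : g = (g * e⁻¹) * e := by group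
    rw [h2]
    exact mul_mem (Subgroup.mem_sup_left h1) (Subgroup.mem_sup_right (Subgroup.mem_zpowers e))

theorem sq_of_two {L : Subgroup Γ} {e : Γ} (h : L.index = 2) : e * e ∈ L := by
  rw [Subgroup.mul_mem_iff_of_index_two h]

/-- `L` has index 2 in `L⟨c⟩` -/
theorem index_Le (hL : L.Normal) {c : Γ} (hidx : L.index = 4) (hcL : c ∉ L) (hcc : c * c ∈ L) : (Le L c).index = 2 := by
  have h1 : L ≤ Le L c := le_sup_left
  have h2 : L.relIndex (Le L c) = 2 := by
    rw [Subgroup.relIndex, Subgroup.index_eq_two_iff]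
    refine ⟨⟨c, Subgroup.mem_sup_right (Subgroup.mem_zpowers c)⟩, fun g => ?_⟩
    rw [Subgroup.mem_subgroupOf, Subgroup.mem_subgroupOf]
    show Xor (((g : Γ) * c) ∈ L) ((g : Γ) ∈ L)
    rcases (mem_Le hL hcc).1 g.2 with h | ⟨l, hl, h⟩
    · right
      exact ⟨h, fun h' => hcL ((Subgroup.mul_mem_cancel_left _ h).1 h')⟩
    · left
      constructor
      · rw [h, mul_assoc]; exact mul_mem hl hcc
      · intro h'
        rw [h] at h'
        exact hcL ((Subgroup.mul_mem_cancel_left _ hl).1 h')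
  have h3 := Subgroup.relIndex_mul_index h1
  rw [h2, hidx] at h3
  omega

theorem quad (F : Frame Z L P H x d a b) {K : Subgroup Γ} (hPK : P ≤ K) (hHK : H ≤ K) {c r : Γ} (hidx : L.index = 4)
    (hcH : c ∈ H) (hrH : r ∈ H) (hcL : c ∉ L) (hrL : r ∉ L) (hcrL : c * r ∉ L) (hcc : c * c ∈ L) (hrr : r * r ∈ L)
    (hcP : ∀ y ∈ P, c * y = y * c) (hrx : r * x = x * r)
    (hZ : Z ≤ L ⊓ K) (hA : L ⊓ K ≤ Le L c ⊓ K) (hB : Le L c ⊓ K ≤ K) (hx : x ∈ L ⊓ K) (hc : c ∈ Le L c ⊓ K) (hr : r ∈ K) :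
    ∃ zr : Z, r * c * r⁻¹ = zr * c ∧
      Quad (Subgroup.inclusion hZ) (Subgroup.inclusion hA) (Subgroup.inclusion hB) ⟨x, hx⟩ ⟨c, hc⟩ ⟨r, hr⟩ zr := by
  have hcx := hcP x F.xP
  have hZr : r * c * r⁻¹ * c⁻¹ ∈ Z := by
    refine F.cH _ (mul_mem (mul_mem (mul_mem hrH hcH) (H.inv_mem hrH)) (H.inv_mem hcH)) (comm_L F.Ln hidx r c) x F.xP
      F.x1 ?_
    have h1 : c⁻¹ * x = x * c⁻¹ := by rw [inv_mul_eq_iff_eq_mul, ← mul_assoc, hcx, mul_inv_cancel_right]
    have h2 : r⁻¹ * x = x * r⁻¹ := by rw [inv_mul_eq_iff_eq_mul, ← mul_assoc, hrx, mul_inv_cancel_right]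
    calc r * c * r⁻¹ * c⁻¹ * x = r * c * (r⁻¹ * (c⁻¹ * x)) := by group
      _ = r * c * (r⁻¹ * x) * c⁻¹ := by rw [h1]; group
      _ = r * (c * x) * r⁻¹ * c⁻¹ := by rw [h2]; group
      _ = (r * x) * c * r⁻¹ * c⁻¹ := by rw [hcx]; group
      _ = x * (r * c * r⁻¹ * c⁻¹) := by rw [hrx]; group
  have hrc : r * c * r⁻¹ = (⟨_, hZr⟩ : Z) * c := by
    show r * c * r⁻¹ = r * c * r⁻¹ * c⁻¹ * c
    group
  have hrLe : r ∉ Le L c := by
    intro h
    rcases (mem_Le F.Ln hcc).1 h with h | ⟨l, hl, h⟩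
    · exact hrL h
    · apply hcrL
      rw [h]
      have : c * (l * c) = (c * l * c⁻¹) * (c * c) := by group
      rw [this]
      exact mul_mem (F.Ln.conj_mem l hl c) hcc
  have hi := index_Le F.Ln hidx hcL hcc
  refine ⟨⟨_, hZr⟩, hrc, ?_⟩
  refine ⟨⟨Subgroup.inclusion_injective hZ, Subgroup.inclusion_injective hA, ?_, fun z w => Subtype.ext (F.zcomm z.2 w)⟩,
    ⟨(Subgroup.inclusion_injective hA).comp (Subgroup.inclusion_injective hZ), Subgroup.inclusion_injective hB, ?_,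
      fun z w => Subtype.ext (F.zcomm z.2 w)⟩, ?_, ?_, Subtype.ext hcx, Subtype.ext hrx, Subtype.ext hrc, ?_, ?_⟩
  · rw [Subgroup.index_eq_two_iff]
    refine ⟨⟨c, hc⟩, fun g => ?_⟩
    have e : ∀ g : ↥(Le L c ⊓ K), g ∈ (Subgroup.inclusion hA).range ↔ (g : Γ) ∈ L := by
      intro g
      rw [Subgroup.inclusion_range, Subgroup.mem_subgroupOf, Subgroup.mem_inf]
      exact ⟨fun h => h.1, fun h => ⟨h, g.2.2⟩⟩
    rw [e, e]
    show Xor (((g : Γ) * c) ∈ L) ((g : Γ) ∈ L)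
    rcases (mem_Le F.Ln hcc).1 g.2.1 with h | ⟨l, hl, h⟩
    · right
      exact ⟨h, fun h' => hcL ((Subgroup.mul_mem_cancel_left _ h).1 h')⟩
    · left
      constructor
      · rw [h, mul_assoc]; exact mul_mem hl hcc
      · intro h'
        rw [h] at h'
        exact hcL ((Subgroup.mul_mem_cancel_left _ hl).1 h')
  · rw [Subgroup.index_eq_two_iff]
    refine ⟨⟨r, hr⟩, fun g => ?_⟩
    have e : ∀ g : K, g ∈ (Subgroup.inclusion hB).range ↔ (g : Γ) ∈ Le L c := by
      intro g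
      rw [Subgroup.inclusion_range, Subgroup.mem_subgroupOf, Subgroup.mem_inf]
      exact ⟨fun h => h.1, fun h => ⟨h, g.2⟩⟩
    rw [e, e]
    show Xor (((g : Γ) * r) ∈ Le L c) ((g : Γ) ∈ Le L c)
    rw [Subgroup.mul_mem_iff_of_index_two hi]
    by_cases hg : (g : Γ) ∈ Le L c
    · right
      exact ⟨hg, fun h => hrLe (h.1 hg)⟩
    · left
      exact ⟨⟨fun h => absurd h hg, fun h => absurd h hrLe⟩, hg⟩
  · rintro ⟨g, hg⟩
    have h1 : (g : Γ) = c := congrArg Subtype.val hg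
    exact hcL (h1 ▸ g.2.1)
  · rintro ⟨g, hg⟩
    have h1 : (g : Γ) = r := congrArg Subtype.val hg
    exact hrLe (h1 ▸ g.2.1)
  · exact ⟨⟨c * c, F.sq_mem hcH hcx hcc⟩, Subtype.ext rfl⟩
  · intro g
    exact ⟨⟨r * g * r⁻¹, F.Ln.conj_mem _ g.2.1 r, mul_mem (mul_mem hr g.2.2) (K.inv_mem hr)⟩, Subtype.ext rfl⟩

end Cfsg.Agent.H612.TI34
end

-- part: H155/TI/Main
section
/-!
# The row `PSL₃(4)`: the central count (helper155)
-/

set_option autoImplicit false
set_option linter.unusedSectionVars false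

namespace Cfsg.Agent.H155.TI

open Cfsg Cfsg.Agent.Characters.Core
open Cfsg.Agent.H612.TI34 (quad Le_top sq_of_two)
open scoped Pointwise

universe u

variable {Γ : Type u} [Group Γ] [Finite Γ] {Z L P H : Subgroup Γ} {x d a b : Γ} {lam : Z →* ℂˣ}

/-- the sign statement -/
def Sign {Z : Subgroup Γ} (lam : Z →* ℂˣ) {A B : Subgroup Γ} (hZA : Z ≤ A) (hAB : A ≤ B) (x : A) (r : Γ) (zr : Z) : Prop :=
  ∀ χ : IrrCharacter B, Over (Subgroup.inclusion (hZA.trans hAB)) lam (χ : B → ℂ) →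
    IsIrrCharacter A (fun t => (χ : B → ℂ) (Subgroup.inclusion hAB t)) →
    (χ : B → ℂ) (Subgroup.inclusion hAB x) ^ 2 = 4 → (InvG r (χ : B → ℂ) ↔ lam zr ≠ 1)

theorem nz_of_eq {M M' : Subgroup Γ} (h : M = M') (hZ : Z ≤ M) (hZ' : Z ≤ M') (hx : x ∈ M) (hx' : x ∈ M') :
    nz (Subgroup.inclusion hZ) lam ⟨x, hx⟩ = nz (Subgroup.inclusion hZ') lam ⟨x, hx'⟩ := by
  subst h
  rfl

/-- the index 4 case, `c` neutral -/
theorem four_neu {K : Subgroup Γ} (F : Frame Z L P H x d a b) (S : Side Z L P H x lam K) (hidx : L.index = 4) {c r : Γ}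
    (Ec : El L H x c) (Er : El L H x r) (hcr : c * r ∉ L) (hcP : ∀ y ∈ P, c * y = y * c) (hrP : ¬ ∀ y ∈ P, r * y = y * r)
    (hneu : ∀ l ∈ H, l ∈ L → ∀ z : Z, l * c * l⁻¹ = z * c → lam z = 1) {zr : Z} (hzr : r * c * r⁻¹ = zr * c) :
    nz (Subgroup.inclusion (S.ZK F)) lam (⟨x, S.PK F.xP⟩ : K) = if lam zr = 1 then 18 else 6 := by
  classical
  obtain ⟨zr', hzr', q⟩ := quad F S.PK S.HK hidx Ec.eH Er.eH Ec.eL Er.eL hcr Ec.ee Er.ee hcP Er.ex (S.ZA F) (AB c)
    inf_le_right (S.xA F) (S.eB Ec) (S.HK Er.eH)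
  have hz : zr' = zr := by
    apply Subtype.ext
    rw [hzr] at hzr'
    exact (mul_right_cancel hzr').symm
  subst hz
  obtain ⟨h1, h2⟩ := S.neu F Ec hcP hneu
  have h3 := S.nz_two F Ec h1
  have hnv : ∀ χ : IrrCharacter (Le L c ⊓ K : Subgroup Γ),
      Over ((Subgroup.inclusion (AB (K := K) c)).comp (Subgroup.inclusion (S.ZA F))) lam
        (χ : (Le L c ⊓ K : Subgroup Γ) → ℂ) →
      (χ : (Le L c ⊓ K : Subgroup Γ) → ℂ) (Subgroup.inclusion (AB (K := K) c) ⟨x, S.xA F⟩) ≠ 0 →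
      (χ : (Le L c ⊓ K : Subgroup Γ) → ℂ) (Subgroup.inclusion (AB (K := K) c) ⟨x, S.xA F⟩ * ⟨c, S.eB Ec⟩) ≠ 0 :=
    fun χ hχ h0 => h2 χ hχ h0 _ rfl
  have hn : nz ((Subgroup.inclusion (AB (K := K) c)).comp (Subgroup.inclusion (S.ZA F))) lam
      (Subgroup.inclusion (AB (K := K) c) ⟨x, S.xA F⟩) = 12 := by
    have h4 : nz ((Subgroup.inclusion (AB (K := K) c)).comp (Subgroup.inclusion (S.ZA F))) lam
      (Subgroup.inclusion (AB (K := K) c) ⟨x, S.xA F⟩) = nz (Subgroup.inclusion ((S.ZA F).trans (AB c))) lam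
      (⟨x, AB c (S.xA F)⟩ : (Le L c ⊓ K : Subgroup Γ)) := rfl
    rw [h4]; omega
  have hgoal : nz (Subgroup.inclusion (S.ZK F)) lam (⟨x, S.PK F.xP⟩ : K) =
      nz ((Subgroup.inclusion (inf_le_right (a := Le L c) (b := K))).comp
        ((Subgroup.inclusion (AB (K := K) c)).comp (Subgroup.inclusion (S.ZA F)))) lam
        (Subgroup.inclusion (inf_le_right (a := Le L c) (b := K)) (Subgroup.inclusion (AB (K := K) c) ⟨x, S.xA F⟩)) := rfl
  rw [hgoal]
  split_ifs with hl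
  · refine q.neu_pos hl hnv hn ?_ ?_
    · -- all nonvanishing members are `c`-invariant
      have hfin := q.finA
      have := finite_irr (G := (L ⊓ K : Subgroup Γ))
      have h5 := (S.six (S.ZA F) (S.xA F)).card_ne
      have h6 := split_card (fun η : IrrCharacter (L ⊓ K : Subgroup Γ) => Over (Subgroup.inclusion (S.ZA F)) lam
        (η : (L ⊓ K : Subgroup Γ) → ℂ) ∧ (η : (L ⊓ K : Subgroup Γ) → ℂ) ⟨x, S.xA F⟩ ≠ 0)
        (fun η => InvG c (η : (L ⊓ K : Subgroup Γ) → ℂ))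
      have h7 : Nat.card {η : IrrCharacter (L ⊓ K : Subgroup Γ) // (Over (Subgroup.inclusion (S.ZA F)) lam
          (η : (L ⊓ K : Subgroup Γ) → ℂ) ∧ (η : (L ⊓ K : Subgroup Γ) → ℂ) ⟨x, S.xA F⟩ ≠ 0) ∧
          InvG c (η : (L ⊓ K : Subgroup Γ) → ℂ)} = 6 := by
        rw [← h1]
        exact card_congr_iff fun η => and_assoc
      rw [h5, h7] at h6
      have h8 : Nat.card {η : IrrCharacter (L ⊓ K : Subgroup Γ) // (Over (Subgroup.inclusion (S.ZA F)) lam
          (η : (L ⊓ K : Subgroup Γ) → ℂ) ∧ (η : (L ⊓ K : Subgroup Γ) → ℂ) ⟨x, S.xA F⟩ ≠ 0) ∧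
          ¬ InvG c (η : (L ⊓ K : Subgroup Γ) → ℂ)} = 0 := by omega
      intro η ho hx
      rw [inv_iff]
      by_contra hni
      have h9 : IsEmpty {η : IrrCharacter (L ⊓ K : Subgroup Γ) // (Over (Subgroup.inclusion (S.ZA F)) lam
          (η : (L ⊓ K : Subgroup Γ) → ℂ) ∧ (η : (L ⊓ K : Subgroup Γ) → ℂ) ⟨x, S.xA F⟩ ≠ 0) ∧
          ¬ InvG c (η : (L ⊓ K : Subgroup Γ) → ℂ)} := (Nat.card_eq_zero.1 h8).resolve_right (fun h => h.not_finite inferInstance)
      exact h9.false ⟨η, ⟨ho, hx⟩, hni⟩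
    · rw [fe_eq']
      exact (S.refl F Er hrP).1
  · exact q.neu_neg hl hnv hn

/-- the index 4 case, `c` not neutral -/
theorem four_non {K : Subgroup Γ} (F : Frame Z L P H x d a b) (S : Side Z L P H x lam K) (hidx : L.index = 4) {c r : Γ}
    (Ec : El L H x c) (Er : El L H x r) (Ecr : El L H x (c * r)) (hcP : ∀ y ∈ P, c * y = y * c)
    (hrP : ¬ ∀ y ∈ P, r * y = y * r) {l : Γ} (hlH : l ∈ H) (hlL : l ∈ L) {z : Z} (hl : l * c * l⁻¹ = z * c) (hz : lam z ≠ 1)
    {zr : Z} (hzr : r * c * r⁻¹ = zr * c) (hs : Sign lam (S.ZA F) (AB c) ⟨x, S.xA F⟩ r zr) :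
    nz (Subgroup.inclusion (S.ZK F)) lam (⟨x, S.PK F.xP⟩ : K) = 9 := by
  classical
  obtain ⟨zr', hzr', q⟩ := quad F S.PK S.HK hidx Ec.eH Er.eH Ec.eL Er.eL Ecr.eL Ec.ee Er.ee hcP Er.ex (S.ZA F) (AB c)
    inf_le_right (S.xA F) (S.eB Ec) (S.HK Er.eH)
  have hz' : zr' = zr := by
    apply Subtype.ext
    rw [hzr] at hzr'
    exact (mul_right_cancel hzr').symm
  subst hz'
  obtain ⟨h1, h2⟩ := S.non F Ec hcP hlH hlL hl hz
  have hcrP : ¬ ∀ y ∈ P, c * r * y = y * (c * r) := by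
    intro h
    apply hrP
    intro y hy
    have h3 := h y hy
    have h4 : c * (r * y) = c * (y * r) := by
      rw [← mul_assoc, h3, ← mul_assoc, ← hcP y hy, mul_assoc]
    exact mul_left_cancel h4
  have hgoal : nz (Subgroup.inclusion (S.ZK F)) lam (⟨x, S.PK F.xP⟩ : K) =
      nz ((Subgroup.inclusion (inf_le_right (a := Le L c) (b := K))).comp
        ((Subgroup.inclusion (AB (K := K) c)).comp (Subgroup.inclusion (S.ZA F)))) lam
        (Subgroup.inclusion (inf_le_right (a := Le L c) (b := K)) (Subgroup.inclusion (AB (K := K) c) ⟨x, S.xA F⟩)) := rfl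
  rw [hgoal]
  refine q.non (S.six _ _) ?_ ?_ ?_ ?_ ?_
  · rw [fe_eq]
    exact h1
  · rw [fe_eq']
    exact (S.refl F Er hrP).1
  · have h3 : Subgroup.inclusion (inf_le_right (a := Le L c) (b := K)) ⟨c, S.eB Ec⟩ * ⟨r, S.HK Er.eH⟩ =
        (⟨c * r, S.HK Ecr.eH⟩ : K) := rfl
    rw [h3, fe_eq']
    exact (S.refl F Ecr hcrP).1
  · intro χ hχ hi h4
    exact (h2 χ hχ _ rfl).1 hi h4
  · intro χ hχ hi h4
    rw [← hs χ hχ hi h4]
    exact inv_iff _ _ _

/-- **the count**: the same number on all sides -/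
theorem side_count (F : Frame Z L P H x d a b) (O : Outer L P H x) (lam : Z →* ℂˣ)
    (hsign : L.index = 4 → ∀ (K : Subgroup Γ) (S : Side Z L P H x lam K) (c r : Γ), El L H x c → El L H x r →
      El L H x (c * r) → (∀ y ∈ P, c * y = y * c) → (¬ ∀ y ∈ P, r * y = y * r) → (∃ l ∈ H, l ∈ L ∧ ∃ z : Z,
        l * c * l⁻¹ = z * c ∧ lam z ≠ 1) → ∀ zr : Z, r * c * r⁻¹ = zr * c →
        Sign lam (S.ZA F) (AB c) ⟨x, S.xA F⟩ r zr) :
    ∃ n, ∀ (K : Subgroup Γ) (S : Side Z L P H x lam K), nz (Subgroup.inclusion (S.ZK F)) lam (⟨x, S.PK F.xP⟩ : K) = n := by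
  classical
  rcases O with h1 | ⟨h2, e, heH, heL, hex⟩ | ⟨h4, c, hcH, r, hrH, hcL, hrL, hcrL, hcc, hrr, hcP, hrx, hrP⟩
  · refine ⟨6, fun K S => ?_⟩
    have hL : L = ⊤ := Subgroup.index_eq_one.1 h1
    have h3 : L ⊓ K = K := by rw [hL, top_inf_eq]
    rw [← nz_of_eq h3 (S.ZA F) (S.ZK F) (S.xA F) (S.PK F.xP)]
    exact (S.six _ _).card_ne
  · have E : El L H x e := ⟨heH, heL, hex, sq_of_two h2⟩
    have hLe : Le L e = ⊤ := Le_top h2 heL
    have key : ∀ (K : Subgroup Γ) (S : Side Z L P H x lam K), nz (Subgroup.inclusion (S.ZK F)) lam (⟨x, S.PK F.xP⟩ : K) =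
        nz (Subgroup.inclusion ((S.ZA F).trans (AB e))) lam (⟨x, AB e (S.xA F)⟩ : (Le L e ⊓ K : Subgroup Γ)) := by
      intro K S
      exact nz_of_eq (by rw [hLe, top_inf_eq]) _ _ _ _
    by_cases hP : ∀ y ∈ P, e * y = y * e
    · by_cases hneu : ∀ l ∈ H, l ∈ L → ∀ z : Z, l * e * l⁻¹ = z * e → lam z = 1
      · refine ⟨12, fun K S => ?_⟩
        have h3 := S.nz_two F E (S.neu F E hP hneu).1
        rw [key K S]; omega
      · push Not at hneu
        obtain ⟨l, hlH, hlL, z, hl, hz⟩ := hneu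
        refine ⟨6, fun K S => ?_⟩
        have h3 := S.nz_two F E (S.non F E hP hlH hlL hl hz).1
        rw [key K S]; omega
    · refine ⟨9, fun K S => ?_⟩
      have h3 := S.nz_two F E (S.refl F E hP).1
      rw [key K S]; omega
  · have Ec : El L H x c := ⟨hcH, hcL, hcP x F.xP, hcc⟩
    have Er : El L H x r := ⟨hrH, hrL, hrx, hrr⟩
    have hPK : P ≤ (⊤ : Subgroup Γ) := le_top
    obtain ⟨zr, hzr, q⟩ := quad F (K := ⊤) le_top le_top h4 hcH hrH hcL hrL hcrL hcc hrr hcP hrx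
      (le_inf F.ZL le_top) (AB c) le_top ⟨F.PL F.xP, trivial⟩ ⟨Subgroup.mem_sup_right (Subgroup.mem_zpowers c), trivial⟩ trivial
    have hcrr : c * r * (c * r) ∈ L := by
      have h5 : c * r * (c * r) = c * (r * c * r⁻¹) * (r * r) := by group
      rw [h5, hzr]
      have h6 : c * ((zr : Γ) * c) * (r * r) = zr * (c * c) * (r * r) := by
        have := F.zcomm zr.2 c
        rw [← mul_assoc c, ← this]; group
      rw [h6]
      exact mul_mem (mul_mem (F.ZL zr.2) hcc) hrr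
    have Ecr : El L H x (c * r) := ⟨mul_mem hcH hrH, hcrL, by rw [mul_assoc, hrx, ← mul_assoc, hcP x F.xP, mul_assoc], hcrr⟩
    by_cases hneu : ∀ l ∈ H, l ∈ L → ∀ z : Z, l * c * l⁻¹ = z * c → lam z = 1
    · exact ⟨if lam zr = 1 then 18 else 6, fun K S => four_neu F S h4 Ec Er hcrL hcP hrP hneu hzr⟩
    · push Not at hneu
      obtain ⟨l, hlH, hlL, z, hl, hz⟩ := hneu
      exact ⟨9, fun K S => four_non F S h4 Ec Er Ecr hcP hrP hlH hlL hl hz hzr
        (hsign h4 K S c r Ec Er Ecr hcP hrP ⟨l, hlH, hlL, z, hl, hz⟩ zr hzr)⟩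

end Cfsg.Agent.H155.TI
end
end

section
prune_inst 0x2000000000000000000000000000000000000000

-- part: H185/TI/KapHom
section
set_option linter.all false
open scoped Cfsg.Agent.FastGrp

/-!
# Row `PSL₃(4)` of S4819, S4820 : the sign lemma, hom form (helper185)
-/

set_option autoImplicit false

open scoped ComplexConjugate
open Cfsg Cfsg.Agent.Characters.Core

namespace Cfsg.Agent.H185.TI

open Cfsg.Agent.H155.TI (Over Pair Inv Six Quad)
open Cfsg.Agent.H41.TI (exists_ext exists_scal over_iff)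

universe u

section fibh

variable {A B W : Type u} [Group A] [Group B] [Group W] {N : Subgroup W} [hNn : N.Normal] {i : A →* B} {k : B →* W}

/-- the map of fibre products -/
def fm [i.range.Normal] (hN : (k.comp i).range = N) : Fib i.range →* Fib N where
  toFun q := ⟨(k q.1.1, k q.1.2), by
    rw [mem_Fib, ← hN]
    obtain ⟨a, ha⟩ := q.2
    exact ⟨a, by rw [MonoidHom.comp_apply, ha, map_mul, map_inv]⟩⟩
  map_one' := Subtype.ext (Prod.ext (map_one k) (map_one k))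
  map_mul' p q := Subtype.ext (Prod.ext (map_mul k _ _) (map_mul k _ _))

theorem fm_inj [i.range.Normal] (hN : (k.comp i).range = N) (hk : Function.Injective k) :
    Function.Injective (fm (N := N) (i := i) (k := k) hN) := by
  rintro ⟨⟨a, b⟩, h1⟩ ⟨⟨a', b'⟩, h2⟩ h
  have e1 := congrArg (fun q : Fib N => p1 N q) h
  have e2 := congrArg (fun q : Fib N => p2 N q) h
  exact Subtype.ext (Prod.ext (hk e1) (hk e2))

theorem fm_range [i.range.Normal] (hN : (k.comp i).range = N) :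
    (fm (N := N) (i := i) (k := k) hN).range = k.range.comap (p1 N) := by
  ext q
  rw [MonoidHom.mem_range, Subgroup.mem_comap]
  constructor
  · rintro ⟨t, rfl⟩
    exact ⟨t.1.1, rfl⟩
  · rintro ⟨b, hb⟩
    have h1 : (p1 N q)⁻¹ * p2 N q ∈ (k.comp i).range := by
      rw [hN]
      exact q.2
    obtain ⟨a, ha⟩ := h1
    refine ⟨⟨(b, b * i a), ?_⟩, ?_⟩
    · rw [mem_Fib]
      exact ⟨a, by simp⟩
    · refine Subtype.ext (Prod.ext hb ?_)
      show k (b * i a) = p2 N q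
      rw [MonoidHom.comp_apply] at ha
      rw [map_mul, ha, hb]
      group

theorem fm_index [i.range.Normal] (hN : (k.comp i).range = N) :
    (fm (N := N) (i := i) (k := k) hN).range.index = k.range.index := by
  rw [fm_range, Subgroup.index_comap_of_surjective _ (p1_surj N)]

/-- `A × A` in the fibre product -/
def aah (i : A →* B) [i.range.Normal] : A × A →* Fib i.range where
  toFun t := ⟨(i t.1, i t.2), by
    rw [mem_Fib]
    exact ⟨t.1⁻¹ * t.2, by rw [map_mul, map_inv]⟩⟩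
  map_one' := Subtype.ext (Prod.ext (map_one i) (map_one i))
  map_mul' p q := Subtype.ext (Prod.ext (map_mul i _ _) (map_mul i _ _))

theorem aah_inj (i : A →* B) [i.range.Normal] (hi : Function.Injective i) : Function.Injective (aah i) := by
  rintro ⟨a, b⟩ ⟨a', b'⟩ h
  have h1 := congrArg (fun q : Fib i.range => p1 i.range q) h
  have h2 := congrArg (fun q : Fib i.range => p2 i.range q) h
  exact Prod.ext (hi h1) (hi h2)

theorem aah_range (i : A →* B) [i.range.Normal] : (aah i).range = i.range.comap (p1 i.range) := by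
  ext q
  rw [MonoidHom.mem_range, Subgroup.mem_comap]
  constructor
  · rintro ⟨t, rfl⟩
    exact ⟨t.1, rfl⟩
  · rintro ⟨a, ha⟩
    obtain ⟨b, hb⟩ : p2 i.range q ∈ i.range := p2_mem (W := i.range) le_rfl ⟨a, ha⟩
    exact ⟨(a, b), Subtype.ext (Prod.ext ha hb)⟩

theorem aah_index (i : A →* B) [i.range.Normal] : (aah i).range.index = i.range.index := by
  rw [aah_range, Subgroup.index_comap_of_surjective _ (p1_surj i.range)]

/-- the outer product on the fibre product -/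
noncomputable def outh (i : A →* B) [i.range.Normal] (α β : B → ℂ) (q : Fib i.range) : ℂ := α q.1.1 * conj (β q.1.2)

theorem outh_irr [Finite B] (hi : Function.Injective i) [i.range.Normal] {α β : B → ℂ} (hα : IsIrrCharacter B α)
    (hβ : IsIrrCharacter B β) (hα' : IsIrrCharacter A (fun a => α (i a))) (hβ' : IsIrrCharacter A (fun a => β (i a))) :
    IsIrrCharacter (Fib i.range) (outh i α β) := by
  haveI : Finite A := Finite.of_injective i hi
  refine CharactersDeep.MaxInduced.isIrr_of_comp (aah i) ?_ ?_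
  · exact isCharacter_mul (isCharacter_comp (p1 i.range) (isIrr_isCharacter hα))
      (isCharacter_comp (p2 i.range) (isIrr_isCharacter (isIrr_conj hβ)))
  · exact S0188.isIrr_outer hα' (isIrr_conj hβ')

/-- a zero on one side gives a zero of the extension -/
theorem zero_ath [Finite W] (hk : Function.Injective k) (hi : Function.Injective i) (hidx : i.range.index = 2)
    (hN : (k.comp i).range = N) {ξ : Fib N → ℂ} (hξ : IsIrrCharacter (Fib N) ξ) {α β : IrrCharacter B}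
    (hα' : IsIrrCharacter A (fun a => (α : B → ℂ) (i a))) (hβ' : IsIrrCharacter A (fun a => (β : B → ℂ) (i a)))
    (he : ∀ (a b : A) (q : Fib N), q.1 = (k (i a), k (i b)) → ξ q = (α : B → ℂ) (i a) * conj ((β : B → ℂ) (i b)))
    {y : B} (hy : y ∉ i.range) (h0 : (α : B → ℂ) y = 0) : ξ (dg N (k y)) = 0 := by
  haveI : Finite B := Finite.of_injective k hk
  haveI : Finite A := Finite.of_injective i hi
  haveI hnrm : i.range.Normal := Subgroup.normal_of_index_eq_two hidx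
  have hp := pair_triv (aah i) (aah_inj i hi) ((aah_index i).trans hidx)
  have hηi : IsIrrCharacter (A × A) (fun t => (α : B → ℂ) (i t.1) * conj ((β : B → ℂ) (i t.2))) :=
    S0188.isIrr_outer hα' (isIrr_conj hβ')
  have hyr : dg i.range y ∉ (aah i).range := by
    rw [aah_range]
    exact hy
  have he' : ∀ t : A × A, ξ (fm hN (aah i t)) = (α : B → ℂ) (i t.1) * conj ((β : B → ℂ) (i t.2)) :=
    fun t => he t.1 t.2 _ rfl
  have hres : IsIrrCharacter (Fib i.range) (fun q => ξ (fm hN q)) :=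
    CharactersDeep.MaxInduced.isIrr_of_comp (aah i) (isCharacter_comp (fm hN) (isIrr_isCharacter hξ)) (by
      have h1 : ((fun q : Fib i.range => ξ (fm hN q)) ∘ aah i) =
          (fun t : A × A => (α : B → ℂ) (i t.1) * conj ((β : B → ℂ) (i t.2))) := funext he'
      rw [h1]
      exact hηi)
  obtain ⟨χ, χ', -, -, -, h4, h5⟩ := exists_ext hp hyr ⟨_, hηi⟩ (by
    intro a a' h
    show (α : B → ℂ) (i a'.1) * conj ((β : B → ℂ) (i a'.2)) = (α : B → ℂ) (i a.1) * conj ((β : B → ℂ) (i a.2))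
    rw [← he' a', ← he' a]
    have h1 : aah i a' = _ := h
    rw [h1, map_mul, map_mul, map_inv]
    exact isIrr_isClassFunction hξ _ _)
  have h6 := h5 ⟨_, hres⟩ fun t => he' t
  have h7 := h5 ⟨_, outh_irr hi α.2 β.2 hα' hβ'⟩ fun t => rfl
  have h8 : outh i (α : B → ℂ) (β : B → ℂ) (dg i.range y) = 0 := by
    show (α : B → ℂ) y * _ = 0
    rw [h0, zero_mul]
  have h9 := h4 _ hyr
  have h10 : (χ : Fib i.range → ℂ) (dg i.range y) = 0 ∧ (χ' : Fib i.range → ℂ) (dg i.range y) = 0 := by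
    rcases h7 with h | h
    · have h11 := congrArg (fun f : IrrCharacter (Fib i.range) => (f : Fib i.range → ℂ) (dg i.range y)) h
      have h12 : outh i (α : B → ℂ) (β : B → ℂ) (dg i.range y) = (χ : Fib i.range → ℂ) (dg i.range y) := h11
      rw [h8] at h12
      exact ⟨h12.symm, by rw [h9, ← h12, neg_zero]⟩
    · have h11 := congrArg (fun f : IrrCharacter (Fib i.range) => (f : Fib i.range → ℂ) (dg i.range y)) h
      have h12 : outh i (α : B → ℂ) (β : B → ℂ) (dg i.range y) = (χ' : Fib i.range → ℂ) (dg i.range y) := h11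
      rw [h8] at h12
      refine ⟨?_, h12.symm⟩
      rw [← h12] at h9
      exact neg_eq_zero.1 h9.symm
  rcases h6 with h | h
  · have h11 := congrArg (fun f : IrrCharacter (Fib i.range) => (f : Fib i.range → ℂ) (dg i.range y)) h
    exact h11.trans h10.1
  · have h11 := congrArg (fun f : IrrCharacter (Fib i.range) => (f : Fib i.range → ℂ) (dg i.range y)) h
    exact h11.trans h10.2

end fibh

section mainh

variable {Z A B W W1 W2 : Type u} [Group Z] [Group A] [Group B] [Group W] [Group W1] [Group W2] [Finite W]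
  {j : Z →* A} {i : A →* B} {k : B →* W} {lam : Z →* ℂˣ} {x : A} {c : B} {r : W} {zr : Z}

theorem Quad_normal (q : Quad j i k x c r zr) : (k.comp i).range.Normal := by
  have hB : Finite B := q.finB
  have hn1 : i.range.Normal := Subgroup.normal_of_index_eq_two q.h1.idx
  refine ⟨fun n hn g => ?_⟩
  obtain ⟨a, rfl⟩ := hn
  have hb : ∀ (b : B) (a : A), ∃ a', k (i a') = k b * k (i a) * (k b)⁻¹ := by
    intro b a
    obtain ⟨a', ha'⟩ := hn1.conj_mem (i a) ⟨a, rfl⟩ b
    exact ⟨a', by rw [ha', map_mul, map_mul, map_inv]⟩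
  have hg : g ∈ k.range ∨ g * r⁻¹ ∈ k.range := by
    by_cases h : g ∈ k.range
    · exact Or.inl h
    · right
      have hrW := q.rW
      have h3 := (Subgroup.mul_mem_iff_of_index_two q.h2.idx (a := g) (b := r⁻¹))
      rw [h3]
      rw [Subgroup.inv_mem_iff]
      exact ⟨fun h' => absurd h' h, fun h' => absurd h' hrW⟩
  rcases hg with ⟨b, rfl⟩ | ⟨b, hb'⟩
  · obtain ⟨a', ha'⟩ := hb b a
    exact ⟨a', ha'⟩
  · obtain ⟨a1, ha1⟩ := q.nA a
    obtain ⟨a2, ha2⟩ := hb b a1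
    refine ⟨a2, ?_⟩
    rw [MonoidHom.comp_apply, ha2, ha1, hb', MonoidHom.comp_apply]
    group

theorem lam_conj [Finite Z] (lam : Z →* ℂˣ) (z : Z) : (lam z : ℂ) * conj (lam z : ℂ) = 1 := by
  have g1 : (lam z) ^ Nat.card Z = 1 := by rw [← map_pow, pow_card_eq_one', map_one]
  have g2 : ((lam z : ℂˣ) : ℂ) ^ Nat.card Z = 1 := by
    rw [← Units.val_pow_eq_pow_val, g1, Units.val_one]
  have g3 := Complex.norm_eq_one_of_pow_eq_one g2 Nat.card_pos.ne'
  rw [Complex.mul_conj, Complex.normSq_eq_norm_sq, g3]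
  simp

/-- **the sign argument**, hom form -/
theorem sgn_auxh (q : Quad j i k x c r zr) (hx3 : x ^ 3 = 1) (hrr : ∃ z, r * r = k (i (j z)))
    {i1 : A →* W1} {k1 : W1 →* W} (hk1 : Function.Injective k1) (e1 : ∀ a, k1 (i1 a) = k (i a))
    (hi1 : i1.range.index = 2) {r1 : W1} (hr1 : k1 r1 = r)
    {i2 : A →* W2} {k2 : W2 →* W} (hk2 : Function.Injective k2) (e2 : ∀ a, k2 (i2 a) = k (i a))
    (hi2 : i2.range.index = 2) {r2 : W2} (hr2 : k2 r2 = k c * r)
    {α β : IrrCharacter B} (hα : Over (i.comp j) lam (α : B → ℂ)) (hβ : Over (i.comp j) lam (β : B → ℂ))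
    (hα' : IsIrrCharacter A (fun a => (α : B → ℂ) (i a))) (hβ' : IsIrrCharacter A (fun a => (β : B → ℂ) (i a)))
    (hinv : ∀ b b' d d' : B, k b' = r * k b * r⁻¹ → k d' = r * k d * r⁻¹ → b⁻¹ * d ∈ i.range →
      (α : B → ℂ) b' * conj ((β : B → ℂ) d') = (α : B → ℂ) b * conj ((β : B → ℂ) d))
    (hv : (α : B → ℂ) (i x) * conj ((β : B → ℂ) (i x)) = 2 ∨ (α : B → ℂ) (i x) * conj ((β : B → ℂ) (i x)) = -2)
    (v0 : (α : B → ℂ) (i x * c) = 0)
    (v1 : ∃ α1 β1 : IrrCharacter W1, (∀ a : A, (α1 : W1 → ℂ) (i1 a) = (α : B → ℂ) (i a)) ∧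
      (∀ a : A, (β1 : W1 → ℂ) (i1 a) = (β : B → ℂ) (i a)) ∧ (α1 : W1 → ℂ) (i1 x * r1) = 0)
    (v2 : ∃ α2 β2 : IrrCharacter W2, (∀ a : A, (α2 : W2 → ℂ) (i2 a) = (α : B → ℂ) (i a)) ∧
      (∀ a : A, (β2 : W2 → ℂ) (i2 a) = (β : B → ℂ) (i a)) ∧ (α2 : W2 → ℂ) (i2 x * r2) = 0) : False := by
  classical
  have hBf : Finite B := q.finB
  have hAf : Finite A := q.finA
  have hZf : Finite Z := Finite.of_injective j q.h1.ji
  haveI hn1 : i.range.Normal := Subgroup.normal_of_index_eq_two q.h1.idx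
  haveI hN := Quad_normal q
  set N : Subgroup W := (k.comp i).range with hNdef
  -- the extension
  have hp := pair_triv (fm (N := N) (i := i) (k := k) rfl) (fm_inj rfl q.h2.ii) ((fm_index rfl).trans q.h2.idx)
  have hrn : dg N r ∉ (fm (N := N) (i := i) (k := k) rfl).range := by
    rw [fm_range]
    exact q.rW
  obtain ⟨ξ, -, -, hξ, -⟩ := exists_ext hp hrn ⟨_, outh_irr q.h1.ii α.2 β.2 hα' hβ'⟩ (by
    intro p p' h
    have f1 : k p'.1.1 = r * k p.1.1 * r⁻¹ := congrArg (p1 N) h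
    have f2 : k p'.1.2 = r * k p.1.2 * r⁻¹ := congrArg (p2 N) h
    exact hinv _ _ _ _ f1 f2 p.2)
  have hξ' : ∀ (b d : B) (hbd : b⁻¹ * d ∈ i.range) (q : Fib N), q.1 = (k b, k d) →
      (ξ : Fib N → ℂ) q = (α : B → ℂ) b * conj ((β : B → ℂ) d) := by
    intro b d hbd q hq
    have h1 := hξ ⟨(b, d), hbd⟩
    have h2 : fm (N := N) (i := i) (k := k) rfl ⟨(b, d), hbd⟩ = q := Subtype.ext hq.symm
    rw [h2] at h1
    exact h1
  have hone : ∀ b : B, b⁻¹ * b ∈ i.range := fun b => by rw [inv_mul_cancel]; exact one_mem _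
  have haa : ∀ a b : A, (i a)⁻¹ * i b ∈ i.range := fun a b => ⟨a⁻¹ * b, by rw [map_mul, map_inv]⟩
  -- values
  have w0 : (ξ : Fib N → ℂ) (dg N (k (i x))) = 2 ∨ (ξ : Fib N → ℂ) (dg N (k (i x))) = -2 := by
    rw [hξ' (i x) (i x) (hone _) (dg N (k (i x))) rfl]
    exact hv
  have wc : (ξ : Fib N → ℂ) (dg N (k (i x) * k c)) = 0 := by
    rw [hξ' (i x * c) (i x * c) (hone _) _ (by rw [map_mul]; rfl), v0, zero_mul]
  have hrA : ∀ a, k (i a) ≠ r := fun a h => q.rW ⟨i a, h⟩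
  have hN1 : (k1.comp i1).range = N := by
    rw [hNdef]
    congr 1
    ext a
    exact e1 a
  have hN2 : (k2.comp i2).range = N := by
    rw [hNdef]
    congr 1
    ext a
    exact e2 a
  have hi1' : Function.Injective i1 := by
    intro a b h
    apply q.h1.ii
    apply q.h2.ii
    rw [← e1, ← e1, h]
  have hi2' : Function.Injective i2 := by
    intro a b h
    apply q.h1.ii
    apply q.h2.ii
    rw [← e2, ← e2, h]
  have wr : (ξ : Fib N → ℂ) (dg N (k (i x) * r)) = 0 := by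
    obtain ⟨α1, β1, ha, hb, h0⟩ := v1
    have h3 := zero_ath (α := α1) (β := β1) hk1 hi1' hi1 hN1 ξ.2 (by rw [funext ha]; exact hα')
      (by rw [funext hb]; exact hβ') (by
        intro a b p hp
        rw [ha, hb]
        refine hξ' (i a) (i b) (haa a b) p ?_
        rw [hp, e1, e1]) (y := i1 x * r1) (by
        rintro ⟨a, ha'⟩
        refine hrA (x⁻¹ * a) ?_
        rw [← e1, map_mul, ha', map_inv, inv_mul_cancel_left, hr1]) h0
    rw [map_mul, hr1, e1] at h3
    exact h3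
  have wcr : (ξ : Fib N → ℂ) (dg N (k (i x) * (k c * r))) = 0 := by
    obtain ⟨α1, β1, ha, hb, h0⟩ := v2
    have h3 := zero_ath (α := α1) (β := β1) hk2 hi2' hi2 hN2 ξ.2 (by rw [funext ha]; exact hα')
      (by rw [funext hb]; exact hβ') (by
        intro a b p hp
        rw [ha, hb]
        refine hξ' (i a) (i b) (haa a b) p ?_
        rw [hp, e2, e2]) (y := i2 x * r2) (by
        rintro ⟨a, ha'⟩
        have h5 : k (i (x⁻¹ * a)) = k c * r := by
          rw [← e2, map_mul, ha', map_inv, inv_mul_cancel_left, hr2]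
        refine q.rW ⟨c⁻¹ * i (x⁻¹ * a), ?_⟩
        rw [map_mul, h5, map_inv, inv_mul_cancel_left]) h0
    rw [map_mul, hr2, e2] at h3
    exact h3
  -- the central elements act trivially
  obtain ⟨n, ρ, hρ, hρξ⟩ := ξ.2
  have htriv : ∀ z : Z, ρ (dg N (k (i (j z)))) = 1 := by
    intro z
    obtain ⟨s, hs⟩ := CharactersDeep.Extraspecial.exists_central_hom_rep ρ hρ
    have hzc : dg N (k (i (j z))) ∈ Subgroup.center (Fib N) := by
      rw [Subgroup.mem_center_iff]
      intro p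
      have hz' := q.h2.cen z
      exact Subtype.ext (Prod.ext (hz' p.1.1).symm (hz' p.1.2).symm)
    have f1 := hs ⟨dg N (k (i (j z))), hzc⟩
    have f2 : ρ.character (dg N (k (i (j z)))) = (s ⟨dg N (k (i (j z))), hzc⟩ : ℂ) * ρ.character 1 := by
      show LinearMap.trace ℂ _ (ρ (dg N (k (i (j z))))) = _ * LinearMap.trace ℂ _ (ρ 1)
      rw [f1, map_smul, smul_eq_mul, map_one]
      rfl
    have f3 : ρ.character (dg N (k (i (j z)))) = ρ.character 1 := by
      rw [hρξ]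
      rw [hξ' (i (j z)) (i (j z)) (hone _) _ rfl, hξ' 1 1 (hone _) 1 (by rw [map_one]; rfl)]
      have g3 := hα z 1
      have g4 := hβ z 1
      rw [mul_one, MonoidHom.comp_apply] at g3 g4
      rw [g3, g4, map_mul]
      linear_combination ((α : B → ℂ) 1 * conj ((β : B → ℂ) 1)) * lam_conj lam z
    have f4 : ρ.character 1 ≠ 0 := by
      rw [hρξ]
      exact isIrr_apply_one_ne_zero ξ.2
    rw [f3] at f2
    have f5 : (s ⟨dg N (k (i (j z))), hzc⟩ : ℂ) = 1 := by
      have f6 : ((s ⟨dg N (k (i (j z))), hzc⟩ : ℂ) - 1) * ρ.character 1 = 0 := by linear_combination -f2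
      rcases mul_eq_zero.1 f6 with h | h
      · exact sub_eq_zero.1 h
      · exact absurd h f4
    have f7 : ρ (dg N (k (i (j z)))) = (s ⟨dg N (k (i (j z))), hzc⟩ : ℂ) • LinearMap.id := f1
    rw [f7, f5, one_smul]
    rfl
  have hX3 : k (i x) ^ 3 = 1 := by rw [← map_pow, ← map_pow, hx3, map_one, map_one]
  have hCX : k c * k (i x) = k (i x) * k c := by rw [← map_mul, ← map_mul, q.cx]
  have hI := four_int ρ (x := dg N (k (i x))) (c := dg N (k c)) (r := dg N r) (Subtype.ext (Prod.ext hX3 hX3))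
    (Subtype.ext (Prod.ext hCX hCX)) (Subtype.ext (Prod.ext q.rx q.rx)) (by
      obtain ⟨z, hz⟩ := q.cc
      have : dg N (k c) * dg N (k c) = dg N (k (i (j z))) := by rw [← dg_mul, ← map_mul, hz]
      rw [this]
      exact htriv z) (by
      obtain ⟨z, hz⟩ := hrr
      have : dg N r * dg N r = dg N (k (i (j z))) := by rw [← dg_mul, hz]
      rw [this]
      exact htriv z) (by
      have h3 : r * k c = k (i (j zr)) * (k c * r) := by
        have := q.rc
        rw [mul_inv_eq_iff_eq_mul] at this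
        rw [this, mul_assoc]
      rw [← dg_mul N r (k c), h3, dg_mul N (k (i (j zr))), map_mul ρ (dg N (k (i (j zr)))), htriv zr, one_mul, dg_mul])
  rw [hρξ, ← dg_mul, ← dg_mul, ← dg_mul, ← dg_mul, wc, wr, wcr, add_zero, add_zero, add_zero] at hI
  have hq : IsIntegral ℤ (((1 / 2 : ℚ) : ℚ) : ℂ) ∨ IsIntegral ℤ (((-1 / 2 : ℚ) : ℚ) : ℂ) := by
    rcases w0 with h | h
    · left
      rw [h] at hI
      convert hI using 1
      norm_num
    · right
      rw [h] at hI
      convert hI using 1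
      norm_num
  have key : ∀ q : ℚ, IsIntegral ℤ ((q : ℚ) : ℂ) → ∃ m : ℤ, (m : ℚ) = q := by
    intro q hq
    have h3 : IsIntegral ℤ q := (isIntegral_algebraMap_iff (algebraMap ℚ ℂ).injective).1 hq
    obtain ⟨m, hm⟩ := IsIntegrallyClosed.isIntegral_iff.1 h3
    exact ⟨m, hm⟩
  rcases hq with h | h
  · obtain ⟨m, hm⟩ := key _ h
    have h3 : ((2 * m : ℤ) : ℚ) = 1 := by push_cast; rw [hm]; norm_num
    have h4 : 2 * m = 1 := by exact_mod_cast h3
    omega
  · obtain ⟨m, hm⟩ := key _ h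
    have h3 : ((2 * m : ℤ) : ℚ) = -1 := by push_cast; rw [hm]; norm_num
    have h4 : 2 * m = -1 := by exact_mod_cast h3
    omega

/-- an extension lies over the same central character -/
theorem over_of_resh {V : Type u} [Group V] [Finite V] {i' : A →* V} (hz : ∀ (z : Z) (v : V), i' (j z) * v = v * i' (j z))
    {χ : IrrCharacter V} {η : A → ℂ} (he : ∀ a : A, (χ : V → ℂ) (i' a) = η a) (ho : Over j lam η) :
    Over (i'.comp j) lam (χ : V → ℂ) := by
  intro z w
  obtain ⟨ω, -, h2⟩ := exists_scal χ.2 (s := i' (j z)) (fun g => hz z g)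
  rw [MonoidHom.comp_apply, h2]
  have h3 := h2 1
  rw [mul_one] at h3
  have h4 := ho z 1
  rw [mul_one, ← he, ← he, h3, map_one] at h4
  have h6 : (χ : V → ℂ) 1 ≠ 0 := isIrr_apply_one_ne_zero χ.2
  rw [mul_right_cancel₀ h6 h4]

/-- the dichotomy for an extension of an `r`-invariant character -/
theorem dich (q : Quad j i k x c r zr) {η : IrrCharacter A} (hη : _root_.Cfsg.Agent.H155.TI.Inv (k.comp i) r (η : A → ℂ))
    (hηc : _root_.Cfsg.Agent.H155.TI.Inv i c (η : A → ℂ)) (φ : IrrCharacter B) (hφ : ∀ a, (φ : B → ℂ) (i a) = (η : A → ℂ) a) :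
    _root_.Cfsg.Agent.H155.TI.Inv k r (φ : B → ℂ) ∨ ∀ b b' : B, k b' = r * k b * r⁻¹ → (b ∈ i.range → (φ : B → ℂ) b' = (φ : B → ℂ) b) ∧
      (b ∉ i.range → (φ : B → ℂ) b' = -(φ : B → ℂ) b) := by
  have hBf : Finite B := q.finB
  obtain ⟨ρ, hρ⟩ := q.exists_conj
  obtain ⟨ψ, ψ', -, -, -, hsg, hu⟩ := exists_ext q.h1 q.cB η hηc
  have hirr : IsIrrCharacter B ((φ : B → ℂ) ∘ ρ) := isIrr_comp ρ.toMonoidHom ρ.surjective φ.2
  have hρA : ∀ a, (φ : B → ℂ) (ρ (i a)) = (η : A → ℂ) a := by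
    intro a
    obtain ⟨a', ha'⟩ := q.nA a
    have h1 : ρ (i a) = i a' := by
      apply q.h2.ii
      rw [hρ, ha']
    rw [h1, hφ]
    exact hη a a' ha'
  have hb' : ∀ b b' : B, k b' = r * k b * r⁻¹ → b' = ρ b := fun b b' h => q.h2.ii (by rw [h, hρ])
  have e1 := hu φ hφ
  have e2 := hu ⟨_, hirr⟩ hρA
  by_cases heq : (⟨_, hirr⟩ : IrrCharacter B) = φ
  · left
    intro b b' hb
    rw [hb' b b' hb]
    exact congrArg (fun f : IrrCharacter B => (f : B → ℂ) b) heq
  · right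
    intro b b' hb
    rw [hb' b b' hb]
    constructor
    · rintro ⟨a, rfl⟩
      rw [hρA, hφ]
    · intro hbA
      rcases e1 with e1 | e1 <;> rcases e2 with e2 | e2
      · exact absurd (e2.trans e1.symm) heq
      · have e4 := congrArg (fun f : IrrCharacter B => (f : B → ℂ) b) e2
        have e5 := congrArg (fun f : IrrCharacter B => (f : B → ℂ) b) e1
        exact e4.trans ((hsg b hbA).trans (congrArg (fun t => -t) e5.symm))
      · have e4 := congrArg (fun f : IrrCharacter B => (f : B → ℂ) b) e2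
        have e5 := congrArg (fun f : IrrCharacter B => (f : B → ℂ) b) e1
        have e7 : (φ : B → ℂ) b = -(ψ : B → ℂ) b := e5.trans (hsg b hbA)
        have e8 : -(φ : B → ℂ) b = (ψ : B → ℂ) b := by rw [e7, neg_neg]
        exact e4.trans e8.symm
      · exact absurd (e2.trans e1.symm) heq

/-- **THE SIGN LEMMA**: hypothesis `hκ` of `Quad.non` -/
theorem kappa (q : Quad j i k x c r zr) (s : Six j lam x)
    (hfc : Nat.card {η : IrrCharacter A // Over j lam (η : A → ℂ) ∧ (η : A → ℂ) x ≠ 0 ∧ _root_.Cfsg.Agent.H155.TI.Inv i c (η : A → ℂ)} = 2)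
    (hfr : Nat.card {η : IrrCharacter A // Over j lam (η : A → ℂ) ∧ (η : A → ℂ) x ≠ 0 ∧
      _root_.Cfsg.Agent.H155.TI.Inv (k.comp i) r (η : A → ℂ)} = 4)
    (hfcr : Nat.card {η : IrrCharacter A // Over j lam (η : A → ℂ) ∧ (η : A → ℂ) x ≠ 0 ∧
      _root_.Cfsg.Agent.H155.TI.Inv (k.comp i) (k c * r) (η : A → ℂ)} = 4)
    (hψ : ∀ χ : IrrCharacter B, Over (i.comp j) lam (χ : B → ℂ) → IsIrrCharacter A (fun t => (χ : B → ℂ) (i t)) →
      (χ : B → ℂ) (i x) ^ 2 = 1 → (χ : B → ℂ) (i x * c) ≠ 0)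
    (hx3 : x ^ 3 = 1) (hrr : ∃ z, r * r = k (i (j z)))
    (V0 : ∀ χ : IrrCharacter B, Over (i.comp j) lam (χ : B → ℂ) → (χ : B → ℂ) (i x) ^ 2 = 4 → (χ : B → ℂ) (i x * c) = 0)
    {i1 : A →* W1} {k1 : W1 →* W} (hk1 : Function.Injective k1) (e1 : ∀ a, k1 (i1 a) = k (i a))
    (hi1 : i1.range.index = 2) {r1 : W1} (hr1 : k1 r1 = r)
    (V1 : ∀ χ : IrrCharacter W1, Over (i1.comp j) lam (χ : W1 → ℂ) → (χ : W1 → ℂ) (i1 x) ^ 2 = 4 →
      (χ : W1 → ℂ) (i1 x * r1) = 0)
    {i2 : A →* W2} {k2 : W2 →* W} (hk2 : Function.Injective k2) (e2 : ∀ a, k2 (i2 a) = k (i a))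
    (hi2 : i2.range.index = 2) {r2 : W2} (hr2 : k2 r2 = k c * r)
    (V2 : ∀ χ : IrrCharacter W2, Over (i2.comp j) lam (χ : W2 → ℂ) → (χ : W2 → ℂ) (i2 x) ^ 2 = 4 →
      (χ : W2 → ℂ) (i2 x * r2) = 0) :
    ∀ χ : IrrCharacter B, Over (i.comp j) lam (χ : B → ℂ) → IsIrrCharacter A (fun t => (χ : B → ℂ) (i t)) →
      (χ : B → ℂ) (i x) ^ 2 = 4 → (_root_.Cfsg.Agent.H155.TI.Inv k r (χ : B → ℂ) ↔ lam zr ≠ 1) := by
  classical
  have hBf : Finite B := q.finB
  have hAf : Finite A := q.finA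
  have hW1f : Finite W1 := Finite.of_injective k1 hk1
  have hW2f : Finite W2 := Finite.of_injective k2 hk2
  obtain ⟨-, -, -, hone⟩ := q.invs s hfc hfr hfcr
  have hcr := (q.invs s hfc hfr hfcr).1
  obtain ⟨η1, ⟨ho1, hx1, hv1⟩, hc1⟩ := (Nat.card_eq_one_iff_unique.1 hone).2
  have hr1' := hcr η1 ho1 hx1 hc1
  have hzB : ∀ (z : Z) (v : B), i (j z) * v = v * i (j z) := q.h1.cen
  obtain ⟨χ1, -, -, he1, -, -, -⟩ := exists_ext q.h1 q.cB η1 hc1
  have hχ1o : Over (i.comp j) lam (χ1 : B → ℂ) := over_of_resh hzB he1 ho1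
  have hχ1i : IsIrrCharacter A (fun t => (χ1 : B → ℂ) (i t)) := by rw [funext he1]; exact η1.2
  have hχ1x : (χ1 : B → ℂ) (i x) ^ 2 = 1 := by rw [he1]; exact hv1
  have hχ1c := hψ χ1 hχ1o hχ1i hχ1x
  intro χ hχo hχi hχ4
  set σ : IrrCharacter A := ⟨_, hχi⟩ with hσ
  have hσo : Over j lam (σ : A → ℂ) := fun z a => by
    have h1 := hχo z (i a)
    rw [MonoidHom.comp_apply, ← map_mul] at h1
    exact h1
  have hσ4 : (σ : A → ℂ) x ^ 2 = 4 := hχ4
  have hσx : (σ : A → ℂ) x ≠ 0 := fun h => by rw [h] at hσ4; norm_num at hσ4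
  have hz : ∀ z, (k.comp i) (j z) * r = r * (k.comp i) (j z) := fun z => q.h2.cen z r
  have hzc : ∀ z, i (j z) * c = c * i (j z) := fun z => q.h1.cen z c
  have hσc : _root_.Cfsg.Agent.H155.TI.Inv i c (σ : A → ℂ) := Cfsg.Agent.H155.TI.special_inv s q.h1.ii q.nrmA hzc q.cx hσo hσ4
  have hσr : _root_.Cfsg.Agent.H155.TI.Inv (k.comp i) r (σ : A → ℂ) := Cfsg.Agent.H155.TI.special_inv s q.kinj q.nA hz q.rx hσo hσ4
  -- extensions to `W1`, `W2`
  have hp1 : Pair j i1 := ⟨q.h1.ji, fun a b h => q.kinj (by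
    show k (i a) = k (i b)
    rw [← e1, ← e1, h]), hi1, fun z w => hk1 (by
      rw [map_mul, map_mul, e1]
      exact q.h2.cen z (k1 w))⟩
  have hp2 : Pair j i2 := ⟨q.h1.ji, fun a b h => q.kinj (by
    show k (i a) = k (i b)
    rw [← e2, ← e2, h]), hi2, fun z w => hk2 (by
      rw [map_mul, map_mul, e2]
      exact q.h2.cen z (k2 w))⟩
  have hr1n : r1 ∉ i1.range := by
    rintro ⟨a, ha⟩
    refine q.rW ⟨i a, ?_⟩
    rw [← e1, ha, hr1]
  have hr2n : r2 ∉ i2.range := by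
    rintro ⟨a, ha⟩
    refine q.rW ⟨c⁻¹ * i a, ?_⟩
    rw [map_mul, ← e2, ha, hr2, map_inv, inv_mul_cancel_left]
  have tr1 : ∀ {η : A → ℂ}, _root_.Cfsg.Agent.H155.TI.Inv (k.comp i) r η → _root_.Cfsg.Agent.H155.TI.Inv i1 r1 η := by
    intro η h a a' ha
    refine h a a' ?_
    show k (i a') = r * k (i a) * r⁻¹
    rw [← e1, ← e1, ha, map_mul, map_mul, map_inv, hr1]
  have tr2 : ∀ {η : A → ℂ}, _root_.Cfsg.Agent.H155.TI.Inv (k.comp i) (k c * r) η → _root_.Cfsg.Agent.H155.TI.Inv i2 r2 η := by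
    intro η h a a' ha
    refine h a a' ?_
    show k (i a') = k c * r * k (i a) * (k c * r)⁻¹
    rw [← e2, ← e2, ha, map_mul, map_mul, map_inv, hr2]
  obtain ⟨α1, -, -, ha1, -, -, -⟩ := exists_ext hp1 hr1n σ (tr1 hσr)
  obtain ⟨β1, -, -, hb1, -, -, -⟩ := exists_ext hp1 hr1n η1 (tr1 hr1')
  obtain ⟨α2, -, -, ha2, -, -, -⟩ := exists_ext hp2 hr2n σ (tr2 (q.inv_mul hσr (q.inv_c.2 hσc)))
  obtain ⟨β2, -, -, hb2, -, -, -⟩ := exists_ext hp2 hr2n η1 (tr2 (q.inv_mul hr1' (q.inv_c.2 hc1)))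
  have hα1 : (α1 : W1 → ℂ) (i1 x * r1) = 0 :=
    V1 α1 (over_of_resh hp1.cen ha1 hσo) (by rw [ha1]; exact hσ4)
  have hα2 : (α2 : W2 → ℂ) (i2 x * r2) = 0 :=
    V2 α2 (over_of_resh hp2.cen ha2 hσo) (by rw [ha2]; exact hσ4)
  have hval : (χ : B → ℂ) (i x) * conj ((χ1 : B → ℂ) (i x)) = 2 ∨ (χ : B → ℂ) (i x) * conj ((χ1 : B → ℂ) (i x)) = -2 := by
    have g1 : (χ : B → ℂ) (i x) = 2 ∨ (χ : B → ℂ) (i x) = -2 := by
      have h1 : ((χ : B → ℂ) (i x) - 2) * ((χ : B → ℂ) (i x) + 2) = 0 := by linear_combination hχ4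
      rcases mul_eq_zero.1 h1 with h2 | h2
      · exact Or.inl (sub_eq_zero.1 h2)
      · exact Or.inr (eq_neg_of_add_eq_zero_left h2)
    have g2 : (χ1 : B → ℂ) (i x) = 1 ∨ (χ1 : B → ℂ) (i x) = -1 := by
      have h1 : ((χ1 : B → ℂ) (i x) - 1) * ((χ1 : B → ℂ) (i x) + 1) = 0 := by linear_combination hχ1x
      rcases mul_eq_zero.1 h1 with h2 | h2
      · exact Or.inl (sub_eq_zero.1 h2)
      · exact Or.inr (eq_neg_of_add_eq_zero_left h2)
    rcases g1 with e | e <;> rcases g2 with e' | e' <;> rw [e, e'] <;> norm_num only [_root_.map_one, _root_.mul_one, _root_.or_false, _root_.map_neg, _root_.mul_neg, _root_.or_true]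
  have hfalse : (∀ b b' d d' : B, k b' = r * k b * r⁻¹ → k d' = r * k d * r⁻¹ → b⁻¹ * d ∈ i.range →
      (χ : B → ℂ) b' * conj ((χ1 : B → ℂ) d') = (χ : B → ℂ) b * conj ((χ1 : B → ℂ) d)) → False := fun hinv =>
    sgn_auxh q hx3 hrr hk1 e1 hi1 hr1 hk2 e2 hi2 hr2 hχo hχ1o hχi hχ1i hinv hval (V0 χ hχo hχ4)
      ⟨α1, β1, fun a => ha1 a, fun a => (hb1 a).trans (he1 a).symm, hα1⟩
      ⟨α2, β2, fun a => ha2 a, fun a => (hb2 a).trans (he1 a).symm, hα2⟩
  constructor
  · intro hI hz1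
    have hI1 : _root_.Cfsg.Agent.H155.TI.Inv k r (χ1 : B → ℂ) := q.inv_of_ext hz1 χ1 hχ1o η1 he1 hr1' hχ1c
    exact hfalse fun b b' d d' hb hd _ => by rw [hI b b' hb, hI1 d d' hd]
  · intro hz1
    rcases dich q hσr hσc χ (fun a => rfl) with h | h
    · exact h
    · exfalso
      rcases dich q hr1' hc1 χ1 he1 with h' | h'
      · apply hz1
        have h3 := q.val_rc (lam := lam) _ hχ1o h'
        apply Units.ext
        rw [Units.val_one]
        apply mul_right_cancel₀ hχ1c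
        rw [h3, one_mul]
      · refine hfalse fun b b' d d' hb hd hbd => ?_
        by_cases hm : b ∈ i.range
        · have hd' : d ∈ i.range := (Subgroup.mul_mem_cancel_left _ (Subgroup.inv_mem _ hm)).1 hbd
          rw [(h b b' hb).1 hm, (h' d d' hd).1 hd']
        · have hd' : d ∉ i.range := fun hd' => hm (by
            have := Subgroup.mul_mem _ hd' (Subgroup.inv_mem _ hbd)
            have e : d * (b⁻¹ * d)⁻¹ = b := by group
            rwa [e] at this)
          rw [(h b b' hb).2 hm, (h' d d' hd).2 hd', map_neg]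
          ring

end mainh

end Cfsg.Agent.H185.TI
end

-- part: H155/TI/Sgn
section
set_option linter.all false
open scoped Cfsg.Agent.FastGrp

/-!
# The row `PSL₃(4)`: the sign statement on both sides (helper155)
-/

set_option autoImplicit false
set_option linter.unusedSectionVars false

namespace Cfsg.Agent.H155.TI

open Cfsg Cfsg.Agent.Characters.Core
open Cfsg.Agent.H612.TI34 (quad)
open Cfsg.Agent.H185.TI (kappa)
open scoped Pointwise

universe u

variable {Γ : Type u} [Group Γ] [Finite Γ] {Z L P H : Subgroup Γ} {x d a b : Γ} {lam : Z →* ℂˣ}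

/-- **the sign statement** -/
theorem sign_of_side (F : Frame Z L P H x d a b) (lam : Z →* ℂˣ) (hidx : L.index = 4) (K : Subgroup Γ)
    (S : Side Z L P H x lam K) (c r : Γ) (Ec : El L H x c) (Er : El L H x r) (Ecr : El L H x (c * r))
    (hcP : ∀ y ∈ P, c * y = y * c) (hrP : ¬ ∀ y ∈ P, r * y = y * r)
    (hnon : ∃ l ∈ H, l ∈ L ∧ ∃ z : Z, l * c * l⁻¹ = z * c ∧ lam z ≠ 1) (zr : Z) (hzr : r * c * r⁻¹ = zr * c) :
    Sign lam (S.ZA F) (AB c) ⟨x, S.xA F⟩ r zr := by
  classical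
  obtain ⟨l, hlH, hlL, z, hl, hz⟩ := hnon
  obtain ⟨zr', hzr', q⟩ := quad F S.PK S.HK hidx Ec.eH Er.eH Ec.eL Er.eL Ecr.eL Ec.ee Er.ee hcP Er.ex (S.ZA F) (AB c)
    inf_le_right (S.xA F) (S.eB Ec) (S.HK Er.eH)
  have hz' : zr' = zr := by
    apply Subtype.ext
    rw [hzr] at hzr'
    exact (mul_right_cancel hzr').symm
  subst hz'
  obtain ⟨h1, h2⟩ := S.non F Ec hcP hlH hlL hl hz
  have hcrP : ¬ ∀ y ∈ P, c * r * y = y * (c * r) := by
    intro h
    apply hrP
    intro y hy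
    have h3 := h y hy
    have h4 : c * (r * y) = c * (y * r) := by
      rw [← mul_assoc, h3, ← mul_assoc, ← hcP y hy, mul_assoc]
    exact mul_left_cancel h4
  obtain ⟨h3, h4⟩ := S.refl F Er hrP
  obtain ⟨h5, h6⟩ := S.refl F Ecr hcrP
  have hcr : Subgroup.inclusion (inf_le_right (a := Le L c) (b := K)) ⟨c, S.eB Ec⟩ * ⟨r, S.HK Er.eH⟩ =
      (⟨c * r, S.HK Ecr.eH⟩ : K) := rfl
  have hkap := kappa q (S.six _ (S.xA F)) (by rw [fe_eq]; exact h1) (by rw [fe_eq']; exact h3)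
    (by rw [hcr, fe_eq']; exact h5) (fun χ hχ hi h => (h2 χ hχ _ rfl).1 hi h) (Subtype.ext (F.P3 x F.xP))
    ⟨⟨r * r, F.sq_mem Er.eH Er.ex Er.ee⟩, rfl⟩ (fun χ hχ h => (h2 χ hχ _ rfl).2 h)
    (i1 := Subgroup.inclusion (AB (K := K) r)) (k1 := Subgroup.inclusion (inf_le_right (a := Le L r) (b := K)))
    (Subgroup.inclusion_injective _) (fun _ => rfl)
    (F.pair Er.eH Er.eL Er.ex Er.ee S.HK (S.ZA F) (AB (K := K) r)).idx (r1 := ⟨r, S.eB Er⟩) rfl
    (fun χ hχ h => h4 χ hχ h _ rfl)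
    (i2 := Subgroup.inclusion (AB (K := K) (c * r))) (k2 := Subgroup.inclusion (inf_le_right (a := Le L (c * r)) (b := K)))
    (Subgroup.inclusion_injective _) (fun _ => rfl)
    (F.pair Ecr.eH Ecr.eL Ecr.ex Ecr.ee S.HK (S.ZA F) (AB (K := K) (c * r))).idx (r2 := ⟨c * r, S.eB Ecr⟩) rfl
    (fun χ hχ h => h6 χ hχ h _ rfl)
  intro χ hχ hi h
  rw [← hkap χ hχ hi h]
  exact (inv_iff _ _ _).symm

end Cfsg.Agent.H155.TI
end
end
end
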